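import Mathlib
import Cfsg.Agent.H72.Subn

set_option autoImplicit false
open scoped Pointwise

namespace Cfsg.Agent.H72

universe u

/-! ### Counting helpers -/

theorem card_eq_sum_indicator {α : Type*} [Fintype α] (S : Set α) :
    (Nat.card S : ℤ) = ∑ a : α, Set.indicator S (1 : α → ℤ) a := by
  classical
  rw [Nat.card_eq_fintype_card, Fintype.card_subtype]
  simp [Set.indicator_apply]

/-- Inclusion–exclusion for cardinalities of sets in a finite type. -/
theorem incl_excl_card {α ι : Type*} [Finite α] (s : Finset ι) (S : ι → Set α)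
    (U : Set α) (T : Finset ι → Set α) (hU : U = ⋃ i ∈ s, S i)
    (hT : ∀ t ⊆ s, t.Nonempty → T t = ⋂ i ∈ t, S i) :
    (Nat.card U : ℤ) =
      ∑ t ∈ s.powerset with t.Nonempty, (-1 : ℤ) ^ (t.card + 1) * (Nat.card (T t) : ℤ) := by
  classical
  have := Fintype.ofFinite α
  rw [card_eq_sum_indicator U, hU]
  simp_rw [card_eq_sum_indicator, Finset.indicator_biUnion_eq_sum_powerset s S (1 : α → ℤ)]
  rw [Finset.sum_comm]
  apply Finset.sum_congr rfl
  intro t ht
  rw [Finset.mul_sum]
  apply Finset.sum_congr rfl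
  intro a _
  rw [hT t (Finset.mem_powerset.mp (Finset.mem_filter.mp ht).1) (Finset.mem_filter.mp ht).2]
  simp

/-- Splitting a sum over the powerset into the empty set and the nonempty subsets. -/
theorem sum_powerset_split {ι : Type*} (s : Finset ι) (F : Finset ι → ℤ) :
    ∑ t ∈ s.powerset, F t = F ∅ + ∑ t ∈ s.powerset with t.Nonempty, F t := by
  classical
  rw [← Finset.sum_filter_add_sum_filter_not s.powerset (fun t => t.Nonempty) F, add_comm]
  congr 1
  have : (s.powerset.filter fun t => ¬ t.Nonempty) = {∅} := by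
    ext t
    simp only [Finset.mem_filter, Finset.mem_powerset, Finset.not_nonempty_iff_eq_empty,
      Finset.mem_singleton]
    constructor
    · rintro ⟨-, h⟩; exact h
    · rintro rfl; exact ⟨Finset.empty_subset _, rfl⟩
  rw [this, Finset.sum_singleton]

/-- The cone argument: an alternating sum over a powerset vanishes when inserting a fixed
element does not change the summand. -/
theorem sum_powerset_cone {ι : Type*} [DecidableEq ι] (s : Finset ι) (a : ι) (ha : a ∈ s)
    (c : Finset ι → ℤ) (hc : ∀ t ⊆ s, c (insert a t) = c t) :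
    ∑ t ∈ s.powerset, (-1 : ℤ) ^ t.card * c t = 0 := by
  have hs : s = insert a (s.erase a) := (Finset.insert_erase ha).symm
  rw [hs, Finset.sum_powerset_insert (Finset.notMem_erase a s), ← Finset.sum_add_distrib]
  apply Finset.sum_eq_zero
  intro t ht
  have ht' : t ⊆ s.erase a := Finset.mem_powerset.mp ht
  have hat : a ∉ t := fun h => Finset.notMem_erase a s (ht' h)
  rw [Finset.card_insert_of_notMem hat, hc t (ht'.trans (Finset.erase_subset a s)), pow_succ]
  ring

/-- A finite type fibred with fibres of constant size. -/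
theorem card_eq_mul_of_fibers {α β : Type*} [Finite α] [Finite β] (f : α → β) (c : ℕ)
    (h : ∀ b, Nat.card {a // f a = b} = c) : Nat.card α = Nat.card β * c := by
  classical
  have := Fintype.ofFinite β
  rw [← Nat.card_congr (Equiv.sigmaFiberEquiv f), Nat.card_sigma]
  simp [h, Nat.card_eq_fintype_card]

/-- A left coset of a subgroup has as many elements as the subgroup. -/
theorem card_of_left_coset {G : Type*} [Group G] (S : Subgroup G) (A : Set G) (g₀ : G)
    (h : ∀ x, x ∈ A ↔ g₀⁻¹ * x ∈ S) : Nat.card A = Nat.card S := by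
  refine Nat.card_congr
    { toFun := fun x => ⟨g₀⁻¹ * x.1, (h x.1).mp x.2⟩
      invFun := fun n => ⟨g₀ * n.1, (h _).mpr (by simp)⟩
      left_inv := fun x => by simp
      right_inv := fun n => by simp }

/-- A right coset of a subgroup has as many elements as the subgroup. -/
theorem card_of_right_coset {G : Type*} [Group G] (S : Subgroup G) (A : Set G) (g₀ : G)
    (h : ∀ x, x ∈ A ↔ x * g₀⁻¹ ∈ S) : Nat.card A = Nat.card S := by
  refine Nat.card_congr
    { toFun := fun x => ⟨x.1 * g₀⁻¹, (h x.1).mp x.2⟩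
      invFun := fun n => ⟨n.1 * g₀, (h _).mpr (by simp)⟩
      left_inv := fun x => by simp
      right_inv := fun n => by simp }

/-! ### The sets being counted -/

/-- The elements normalizing some `p`-subgroup containing `X`. -/
def SN (p : ℕ) {G : Type*} [Group G] (X : Subgroup G) : Set G :=
  {g | ∃ R : Subgroup G, IsPGroup p R ∧ X ≤ R ∧ g ∈ Subgroup.normalizer (R : Set G)}

/-- The pairs `(g, Q)` with `Q` a Sylow `p`-subgroup containing `X` and normalized by `g`. -/
def SP (p : ℕ) {G : Type*} [Group G] (X : Subgroup G) : Set (G × Sylow p G) :=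
  {x | X ≤ (x.2 : Subgroup G) ∧ x.1 ∈ Subgroup.normalizer ((x.2 : Subgroup G) : Set G)}

theorem mem_SN {p : ℕ} {G : Type*} [Group G] {X : Subgroup G} {g : G} :
    g ∈ SN p X ↔ ∃ R : Subgroup G, IsPGroup p R ∧ X ≤ R ∧
      g ∈ Subgroup.normalizer (R : Set G) := Iff.rfl

theorem mem_SP {p : ℕ} {G : Type*} [Group G] {X : Subgroup G} {x : G × Sylow p G} :
    x ∈ SP p X ↔ X ≤ (x.2 : Subgroup G) ∧
      x.1 ∈ Subgroup.normalizer ((x.2 : Subgroup G) : Set G) := Iff.rfl

theorem SN_anti {p : ℕ} {G : Type*} [Group G] {X Y : Subgroup G} (h : X ≤ Y) :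
    SN p Y ⊆ SN p X := by
  rintro g ⟨R, hR, hYR, hg⟩
  exact ⟨R, hR, h.trans hYR, hg⟩

theorem card_normalizer_mul_card_sylow {p : ℕ} [Fact p.Prime] {G : Type*} [Group G] [Finite G]
    (Q : Sylow p G) :
    Nat.card (Subgroup.normalizer ((Q : Subgroup G) : Set G)) * Nat.card (Sylow p G) =
      Nat.card G := by
  rw [Sylow.card_eq_index_normalizer Q]
  exact Subgroup.card_mul_index _

/-- The pairs `(g, Q)` with `Q` ranging over a set of Sylow subgroups. -/
theorem card_pairs {p : ℕ} [Fact p.Prime] {G : Type*} [Group G] [Finite G]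
    (A : Set (Sylow p G)) :
    Nat.card {x : G × Sylow p G | x.2 ∈ A ∧
        x.1 ∈ Subgroup.normalizer ((x.2 : Subgroup G) : Set G)} * Nat.card (Sylow p G) =
      Nat.card A * Nat.card G := by
  classical
  have hfib : ∀ Q : A, Nat.card {x : {x : G × Sylow p G | x.2 ∈ A ∧
        x.1 ∈ Subgroup.normalizer ((x.2 : Subgroup G) : Set G)} // (⟨x.1.2, x.2.1⟩ : A) = Q} =
      Nat.card (Subgroup.normalizer ((Q.1 : Subgroup G) : Set G)) := by
    intro Q
    refine Nat.card_congr
      { toFun := fun x => ⟨x.1.1.1, by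
          have h1 := x.1.2.2
          have h2 : x.1.1.2 = Q.1 := congrArg Subtype.val x.2
          rw [h2] at h1
          exact h1⟩
        invFun := fun n => ⟨⟨(n.1, Q.1), Q.2, n.2⟩, rfl⟩
        left_inv := by
          rintro ⟨⟨⟨g, Q'⟩, h1, h2⟩, h3⟩
          have h4 : Q' = Q.1 := congrArg Subtype.val h3
          subst h4
          rfl
        right_inv := fun n => rfl }
  have hfib2 : ∀ Q : A, Nat.card {x : {x : G × Sylow p G | x.2 ∈ A ∧
        x.1 ∈ Subgroup.normalizer ((x.2 : Subgroup G) : Set G)} // (⟨x.1.2, x.2.1⟩ : A) = Q} *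
      Nat.card (Sylow p G) = Nat.card G := by
    intro Q
    rw [hfib Q]
    exact card_normalizer_mul_card_sylow Q.1
  have hn : Nat.card (Sylow p G) ≠ 0 := Nat.card_pos.ne'
  obtain ⟨c, hc⟩ : ∃ c, ∀ Q : A, Nat.card {x : {x : G × Sylow p G | x.2 ∈ A ∧
        x.1 ∈ Subgroup.normalizer ((x.2 : Subgroup G) : Set G)} // (⟨x.1.2, x.2.1⟩ : A) = Q} =
      c := by
    refine ⟨Nat.card G / Nat.card (Sylow p G), fun Q => ?_⟩
    rw [← hfib2 Q, Nat.mul_div_cancel _ (Nat.pos_of_ne_zero hn)]
  have hcG : c * Nat.card (Sylow p G) = Nat.card G ∨ IsEmpty A := by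
    by_cases hA : Nonempty A
    · obtain ⟨Q⟩ := hA
      left
      rw [← hc Q]; exact hfib2 Q
    · right; exact not_nonempty_iff.mp hA
  rw [card_eq_mul_of_fibers (fun x : {x : G × Sylow p G | x.2 ∈ A ∧
        x.1 ∈ Subgroup.normalizer ((x.2 : Subgroup G) : Set G)} => (⟨x.1.2, x.2.1⟩ : A)) c hc]
  rcases hcG with h | h
  · rw [mul_assoc, h]
  · simp

theorem card_SP {p : ℕ} [Fact p.Prime] {G : Type*} [Group G] [Finite G] (X : Subgroup G) :
    Nat.card (SP p X) * Nat.card (Sylow p G) =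
      Nat.card {Q : Sylow p G | X ≤ (Q : Subgroup G)} * Nat.card G :=
  card_pairs {Q : Sylow p G | X ≤ (Q : Subgroup G)}

/-- If `X` lies in every Sylow `p`-subgroup, the pairs are as many as the group elements. -/
theorem card_SP_of_forall_le {p : ℕ} [Fact p.Prime] {G : Type*} [Group G] [Finite G]
    (X : Subgroup G) (hX : ∀ Q : Sylow p G, X ≤ (Q : Subgroup G)) :
    Nat.card (SP p X) = Nat.card G := by
  have h1 := card_SP (p := p) X
  have h2 : {Q : Sylow p G | X ≤ (Q : Subgroup G)} = Set.univ := by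
    ext Q; simp [hX Q]
  have h3 : Nat.card (Set.univ : Set (Sylow p G)) = Nat.card (Sylow p G) :=
    Nat.card_congr (Equiv.Set.univ _)
  rw [h2, h3, mul_comm (Nat.card (Sylow p G))] at h1
  exact Nat.eq_of_mul_eq_mul_right Nat.card_pos h1

theorem SN_eq_empty {p : ℕ} {G : Type*} [Group G] {X : Subgroup G} (hX : ¬ IsPGroup p X) :
    SN p X = ∅ := by
  ext g
  simp only [Set.mem_empty_iff_false, iff_false]
  rintro ⟨R, hR, hXR, -⟩
  exact hX (hR.to_le hXR)

theorem SP_eq_empty {p : ℕ} {G : Type*} [Group G] {X : Subgroup G} (hX : ¬ IsPGroup p X) :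
    SP p X = ∅ := by
  ext x
  simp only [Set.mem_empty_iff_false, iff_false]
  rintro ⟨hXQ, -⟩
  exact hX (x.2.isPGroup'.to_le hXQ)

/-- The Sylow case. -/
theorem card_SN_eq_card_SP_of_sylow {p : ℕ} [Fact p.Prime] {G : Type*} [Group G] [Finite G]
    (Q : Sylow p G) : Nat.card (SN p (Q : Subgroup G)) = Nat.card (SP p (Q : Subgroup G)) := by
  have h1 : SN p (Q : Subgroup G) = (Subgroup.normalizer ((Q : Subgroup G) : Set G) : Set G) := by
    ext g
    constructor
    · rintro ⟨R, hR, hQR, hg⟩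
      have := Q.is_maximal' hR hQR
      rw [this] at hg
      exact hg
    · intro hg
      exact ⟨Q, Q.isPGroup', le_rfl, hg⟩
  have h2 : SP p (Q : Subgroup G) =
      (fun g : G => (g, Q)) '' (Subgroup.normalizer ((Q : Subgroup G) : Set G) : Set G) := by
    ext ⟨g, Q'⟩
    constructor
    · rintro ⟨hQQ', hg⟩
      have h3 : Q' = Q := (Sylow.ext (Q.is_maximal' Q'.isPGroup' hQQ')).symm ▸ rfl
      subst h3
      exact ⟨g, hg, rfl⟩
    · rintro ⟨g', hg', h⟩
      obtain ⟨rfl, rfl⟩ := Prod.mk.inj h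
      exact ⟨le_rfl, hg'⟩
  rw [h1, h2, Nat.card_coe_set_eq, Nat.card_coe_set_eq,
    Set.ncard_image_of_injective _ (fun a b h => (Prod.mk.inj h).1)]

/-- The normal case. -/
theorem card_SN_eq_card_SP_of_normal {p : ℕ} [Fact p.Prime] {G : Type*} [Group G] [Finite G]
    (X : Subgroup G) [X.Normal] (hX : IsPGroup p X) :
    Nat.card (SN p X) = Nat.card (SP p X) := by
  rw [card_SP_of_forall_le X (fun Q => hX.le_sylow_of_normal Q)]
  have h1 : SN p X = Set.univ := by
    ext g
    simp only [Set.mem_univ, iff_true]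
    exact ⟨X, hX, le_rfl, by rw [Subgroup.normalizer_eq_top]; trivial⟩
  rw [h1]
  exact Nat.card_congr (Equiv.Set.univ _)

/-- Restriction to a subgroup. -/
theorem card_SN_inter {p : ℕ} {G : Type*} [Group G] [Finite G] (N X : Subgroup G) (hXN : X ≤ N) :
    Nat.card (SN p X ∩ (N : Set G) : Set G) = Nat.card (SN p (X.subgroupOf N)) := by
  have h1 : SN p X ∩ (N : Set G) = Subtype.val '' (SN p (X.subgroupOf N)) := by
    ext g
    constructor
    · rintro ⟨⟨R, hR, hXR, hg⟩, hgN⟩
      refine ⟨⟨g, hgN⟩, ⟨R.subgroupOf N, hR.comap_subtype, ?_, ?_⟩, rfl⟩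
      · intro x hx
        exact Subgroup.mem_subgroupOf.mpr (hXR (Subgroup.mem_subgroupOf.mp hx))
      · rw [Subgroup.mem_normalizer_iff]
        intro y
        rw [Subgroup.mem_subgroupOf, Subgroup.mem_subgroupOf]
        exact Subgroup.mem_normalizer_iff.mp hg y
    · rintro ⟨g', ⟨R', hR', hXR', hg'⟩, rfl⟩
      refine ⟨⟨R'.map N.subtype, hR'.map _, ?_, ?_⟩, g'.2⟩
      · intro x hx
        exact Subgroup.mem_map.mpr ⟨⟨x, hXN hx⟩, hXR' (Subgroup.mem_subgroupOf.mpr hx), rfl⟩
      · rw [Subgroup.mem_normalizer_iff]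
        intro y
        constructor
        · intro hy
          obtain ⟨y', hy', rfl⟩ := Subgroup.mem_map.mp hy
          exact Subgroup.mem_map.mpr
            ⟨g' * y' * g'⁻¹, (Subgroup.mem_normalizer_iff.mp hg' y').mp hy', rfl⟩
        · intro hy
          obtain ⟨z', hz', hz⟩ := Subgroup.mem_map.mp hy
          have hyN : y ∈ N := by
            have : y = (g' : G)⁻¹ * (z' : G) * (g' : G) := by
              have hz2 : (z' : G) = (g' : G) * y * (g' : G)⁻¹ := hz
              rw [hz2]; group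
            rw [this]
            exact N.mul_mem (N.mul_mem (N.inv_mem g'.2) z'.2) g'.2
          refine Subgroup.mem_map.mpr ⟨⟨y, hyN⟩, ?_, rfl⟩
          apply (Subgroup.mem_normalizer_iff.mp hg' ⟨y, hyN⟩).mpr
          have : g' * ⟨y, hyN⟩ * g'⁻¹ = z' := Subtype.ext hz.symm
          rw [this]; exact hz'
  rw [h1, Nat.card_coe_set_eq, Nat.card_coe_set_eq,
    Set.ncard_image_of_injective _ Subtype.val_injective]

/-- Normalizers grow in `p`-groups. -/
theorem normalizer_grows {G : Type*} [Group G] [Finite G] {p : ℕ} [Fact p.Prime]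
    {S D : Subgroup G} (hS : IsPGroup p S) (hDS : D < S) :
    ∃ x ∈ S, x ∈ Subgroup.normalizer (D : Set G) ∧ x ∉ D := by
  have hnil : Group.IsNilpotent S := hS.isNilpotent
  have hnc : NormalizerCondition S := Group.normalizerCondition_of_isNilpotent
  have hlt : D.subgroupOf S < ⊤ := by
    rw [lt_top_iff_ne_top]
    intro h
    rw [Subgroup.subgroupOf_eq_top] at h
    exact hDS.not_ge h
  have h1 := hnc _ hlt
  obtain ⟨x, hx1, hx2⟩ := SetLike.exists_of_lt h1
  refine ⟨x, x.2, ?_, fun h => hx2 (Subgroup.mem_subgroupOf.mpr h)⟩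
  rw [← Subgroup.subgroupOf_normalizer_eq hDS.le] at hx1
  exact Subgroup.mem_subgroupOf.mp hx1

theorem cone_sum {p : ℕ} {G : Type*} [Group G] (X : Subgroup G) (g : G)
    (𝒦 : Finset (Subgroup G)) (hX𝒦 : ∀ K ∈ 𝒦, X ≤ K) (Ks : Subgroup G) (hKs : Ks ∈ 𝒦)
    (hstar : ∀ R : Subgroup G, IsPGroup p R → X ≤ R →
      g ∈ Subgroup.normalizer (R : Set G) → Ks ≤ R)
    (hg : g ∈ SN p X) :
    ∑ J ∈ 𝒦.powerset with J.Nonempty,
      (-1 : ℤ) ^ (J.card + 1) * Set.indicator (SN p (J.sup id)) (1 : G → ℤ) g = 1 := by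
  classical
  set c : Finset (Subgroup G) → ℤ :=
    fun J => Set.indicator (SN p (X ⊔ J.sup id)) (1 : G → ℤ) g with hc
  have h1 : ∑ J ∈ 𝒦.powerset, (-1 : ℤ) ^ J.card * c J = 0 := by
    apply sum_powerset_cone 𝒦 Ks hKs
    intro J hJ
    simp only [hc, Finset.sup_insert, id]
    have hiff : g ∈ SN p (X ⊔ (Ks ⊔ J.sup id)) ↔ g ∈ SN p (X ⊔ J.sup id) := by
      constructor
      · exact fun h => SN_anti (sup_le_sup_left le_sup_right X) h
      · rintro ⟨R, hR, hle, hgR⟩
        exact ⟨R, hR, sup_le (le_sup_left.trans hle)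
          (sup_le (hstar R hR (le_sup_left.trans hle) hgR) (le_sup_right.trans hle)), hgR⟩
    by_cases h : g ∈ SN p (X ⊔ J.sup id)
    · rw [Set.indicator_of_mem h, Set.indicator_of_mem (hiff.mpr h)]
    · rw [Set.indicator_of_notMem h, Set.indicator_of_notMem (fun h' => h (hiff.mp h'))]
  rw [sum_powerset_split] at h1
  have h2 : c ∅ = 1 := by
    simp only [hc, Finset.sup_empty, sup_bot_eq]
    exact Set.indicator_of_mem hg _
  have h3 : ∑ J ∈ 𝒦.powerset with J.Nonempty,
      (-1 : ℤ) ^ (J.card + 1) * Set.indicator (SN p (J.sup id)) (1 : G → ℤ) g =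
      - ∑ J ∈ 𝒦.powerset with J.Nonempty, (-1 : ℤ) ^ J.card * c J := by
    rw [← Finset.sum_neg_distrib]
    apply Finset.sum_congr rfl
    intro J hJ
    obtain ⟨hJ1, ⟨K, hK⟩⟩ := Finset.mem_filter.mp hJ
    have hle : X ≤ J.sup id :=
      (hX𝒦 K (Finset.mem_powerset.mp hJ1 hK)).trans (Finset.le_sup (f := id) hK)
    simp only [hc, sup_of_le_right hle]
    ring
  rw [h3]
  simp only [Finset.card_empty, pow_zero, one_mul, h2] at h1
  linarith

theorem casolo_aux (p : ℕ) [Fact p.Prime] : ∀ n : ℕ, ∀ (G : Type u) [Group G] [Finite G],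
    Nat.card G = n → ∀ X : Subgroup G, Nat.card (SN p X) = Nat.card (SP p X) := by
  intro n
  induction n using Nat.strong_induction_on with
  | _ n ih =>
  intro G _ _ hn X
  induction X using WellFoundedGT.induction with
  | ind X ihX =>
  classical
  by_cases hXp : IsPGroup p X
  swap
  · rw [SN_eq_empty hXp, SP_eq_empty hXp]; simp
  by_cases hXs : ∃ Q : Sylow p G, (Q : Subgroup G) = X
  · obtain ⟨Q, rfl⟩ := hXs
    exact card_SN_eq_card_SP_of_sylow Q
  by_cases hXn : X.Normal
  · exact card_SN_eq_card_SP_of_normal X hXp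
  -- the inductive step
  set N : Subgroup G := Subgroup.normalizer (X : Set G) with hN
  have hXN : X ≤ N := Subgroup.le_normalizer
  have hNlt : Nat.card N < Nat.card G := by
    have hNtop : N ≠ ⊤ := fun h => hXn (Subgroup.normalizer_eq_top_iff.mp h)
    exact lt_of_le_of_ne (Subgroup.card_le_card_group N)
      (fun h => hNtop (Subgroup.eq_top_of_card_eq N h))
  have hKfin : {K : Subgroup G | IsPGroup p K ∧ X < K ∧ K ≤ N}.Finite := Set.toFinite _
  set 𝒦 : Finset (Subgroup G) := hKfin.toFinset with h𝒦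
  have hmem𝒦 : ∀ K, K ∈ 𝒦 ↔ IsPGroup p K ∧ X < K ∧ K ≤ N := fun K => hKfin.mem_toFinset
  have hsupN : ∀ J ⊆ 𝒦, J.sup id ≤ N := fun J hJ =>
    Finset.sup_le (fun K hK => ((hmem𝒦 K).mp (hJ hK)).2.2)
  have hsuplt : ∀ J ⊆ 𝒦, J.Nonempty → X < J.sup id := by
    rintro J hJ ⟨K, hK⟩
    exact lt_of_lt_of_le ((hmem𝒦 K).mp (hJ hK)).2.1 (Finset.le_sup (f := id) hK)
  have hgrow : ∀ R : Subgroup G, IsPGroup p R → X < R → X < R ⊓ N := by
    intro R hR hXR
    obtain ⟨x, hxR, hxN, hxX⟩ := normalizer_grows hR hXR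
    refine lt_of_le_of_ne (le_inf hXR.le hXN) (fun h => hxX ?_)
    rw [h]; exact ⟨hxR, hxN⟩
  -- inclusion-exclusion for the pairs in `G`
  have hG2 : (Nat.card (SP p X) : ℤ) = ∑ J ∈ 𝒦.powerset with J.Nonempty,
      (-1 : ℤ) ^ (J.card + 1) * (Nat.card (SP p (J.sup id)) : ℤ) := by
    apply incl_excl_card 𝒦 (fun K => SP p K) (SP p X) (fun J => SP p (J.sup id))
    · ext ⟨g, Q⟩
      rw [Set.mem_iUnion₂]
      constructor
      · rintro ⟨hXQ, hg⟩
        have hXQlt : X < (Q : Subgroup G) := lt_of_le_of_ne hXQ (fun h => hXs ⟨Q, h.symm⟩)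
        exact ⟨(Q : Subgroup G) ⊓ N, (hmem𝒦 _).mpr ⟨Q.isPGroup'.to_le inf_le_left,
          hgrow _ Q.isPGroup' hXQlt, inf_le_right⟩, inf_le_left, hg⟩
      · rintro ⟨K, hK, hKQ, hg⟩
        exact ⟨((hmem𝒦 K).mp hK).2.1.le.trans hKQ, hg⟩
    · intro J hJ hJne
      ext ⟨g, Q⟩
      rw [Set.mem_iInter₂]
      constructor
      · rintro ⟨hsup, hg⟩ K hK
        exact ⟨(Finset.le_sup (f := id) hK).trans hsup, hg⟩
      · intro h
        obtain ⟨K₀, hK₀⟩ := hJne
        exact ⟨Finset.sup_le (fun K hK => (h K hK).1), (h K₀ hK₀).2⟩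
  -- use the induction hypothesis on the larger subgroups
  have hG3 : (Nat.card (SP p X) : ℤ) = ∑ J ∈ 𝒦.powerset with J.Nonempty,
      (-1 : ℤ) ^ (J.card + 1) * (Nat.card (SN p (J.sup id)) : ℤ) := by
    rw [hG2]
    apply Finset.sum_congr rfl
    intro J hJ
    obtain ⟨hJ1, hJ2⟩ := Finset.mem_filter.mp hJ
    rw [ihX _ (hsuplt J (Finset.mem_powerset.mp hJ1) hJ2)]
  -- split off the part inside `N`
  have hsplit : ∀ Y : Subgroup G, (Nat.card (SN p Y) : ℤ) =
      (Nat.card (SN p Y \ (N : Set G) : Set G) : ℤ) +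
        (Nat.card (SN p Y ∩ (N : Set G) : Set G) : ℤ) := by
    intro Y
    rw [Nat.card_coe_set_eq, Nat.card_coe_set_eq, Nat.card_coe_set_eq,
      ← Set.ncard_inter_add_ncard_sdiff_eq_ncard (SN p Y) (N : Set G) (Set.toFinite _)]
    push_cast
    ring
  -- the part outside `N`: the cone argument
  have hA : ∑ J ∈ 𝒦.powerset with J.Nonempty,
      (-1 : ℤ) ^ (J.card + 1) * (Nat.card (SN p (J.sup id) \ (N : Set G) : Set G) : ℤ) =
      (Nat.card (SN p X \ (N : Set G) : Set G) : ℤ) := by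
    have := Fintype.ofFinite G
    simp_rw [card_eq_sum_indicator, Finset.mul_sum]
    rw [Finset.sum_comm]
    apply Finset.sum_congr rfl
    intro g _
    by_cases hgN : g ∈ N
    · rw [Set.indicator_of_notMem (fun h => h.2 hgN)]
      apply Finset.sum_eq_zero
      intro J _
      rw [Set.indicator_of_notMem (fun h => h.2 hgN), mul_zero]
    · have hind : ∀ Y : Subgroup G, Set.indicator (SN p Y \ (N : Set G)) (1 : G → ℤ) g =
          Set.indicator (SN p Y) (1 : G → ℤ) g := by
        intro Y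
        by_cases h : g ∈ SN p Y
        · rw [Set.indicator_of_mem h,
            Set.indicator_of_mem (show g ∈ SN p Y \ (N : Set G) from ⟨h, hgN⟩)]
        · rw [Set.indicator_of_notMem h, Set.indicator_of_notMem (fun h' => h h'.1)]
      simp_rw [hind]
      by_cases hgX : g ∈ SN p X
      · rw [Set.indicator_of_mem hgX]
        -- the least `g`-invariant `p`-subgroup containing `X`
        set R₀ : Subgroup G := sInf {R : Subgroup G | IsPGroup p R ∧ X ≤ R ∧
          g ∈ Subgroup.normalizer (R : Set G)} with hR₀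
        obtain ⟨R₁, hR₁, hXR₁, hgR₁⟩ := hgX
        have hR₀le : ∀ R : Subgroup G, IsPGroup p R → X ≤ R →
            g ∈ Subgroup.normalizer (R : Set G) → R₀ ≤ R := fun R h1 h2 h3 => sInf_le ⟨h1, h2, h3⟩
        have hR₀p : IsPGroup p R₀ := hR₁.to_le (hR₀le R₁ hR₁ hXR₁ hgR₁)
        have hXR₀ : X ≤ R₀ := le_sInf (fun R hR => hR.2.1)
        have hgR₀ : g ∈ Subgroup.normalizer (R₀ : Set G) := by
          rw [Subgroup.mem_normalizer_iff]
          intro x
          rw [hR₀, Subgroup.mem_sInf, Subgroup.mem_sInf]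
          constructor
          · intro hx R hR
            exact (Subgroup.mem_normalizer_iff.mp hR.2.2 x).mp (hx R hR)
          · intro hx R hR
            exact (Subgroup.mem_normalizer_iff.mp hR.2.2 x).mpr (hx R hR)
        have hXR₀lt : X < R₀ := by
          refine lt_of_le_of_ne hXR₀ (fun h => hgN ?_)
          rw [hN, h]; exact hgR₀
        have hKs : R₀ ⊓ N ∈ 𝒦 :=
          (hmem𝒦 _).mpr ⟨hR₀p.to_le inf_le_left, hgrow R₀ hR₀p hXR₀lt, inf_le_right⟩
        exact cone_sum X g 𝒦 (fun K hK => ((hmem𝒦 K).mp hK).2.1.le) (R₀ ⊓ N) hKs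
          (fun R h1 h2 h3 => inf_le_left.trans (hR₀le R h1 h2 h3))
          (show g ∈ SN p X from ⟨R₁, hR₁, hXR₁, hgR₁⟩)
      · rw [Set.indicator_of_notMem hgX]
        apply Finset.sum_eq_zero
        intro J hJ
        obtain ⟨hJ1, hJ2⟩ := Finset.mem_filter.mp hJ
        have hle : X ≤ J.sup id := (hsuplt J (Finset.mem_powerset.mp hJ1) hJ2).le
        rw [Set.indicator_of_notMem (fun h => hgX (SN_anti hle h)), mul_zero]
  -- the part inside `N`: induction on the group
  have hXnN : (X.subgroupOf N).Normal := Subgroup.normal_in_normalizer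
  have hXpN : IsPGroup p (X.subgroupOf N) := hXp.comap_subtype
  have hexK : ∃ K₀ : Subgroup G, IsPGroup p K₀ ∧ X < K₀ ∧ K₀ ≤ N := by
    obtain ⟨Q, hQ⟩ := hXp.exists_le_sylow
    have hXQlt : X < (Q : Subgroup G) := lt_of_le_of_ne hQ (fun h => hXs ⟨Q, h.symm⟩)
    exact ⟨(Q : Subgroup G) ⊓ N, Q.isPGroup'.to_le inf_le_left, hgrow _ Q.isPGroup' hXQlt,
      inf_le_right⟩
  have hN2 : (Nat.card (SP p (X.subgroupOf N)) : ℤ) = ∑ J ∈ 𝒦.powerset with J.Nonempty,
      (-1 : ℤ) ^ (J.card + 1) * (Nat.card (SP p ((J.sup id).subgroupOf N)) : ℤ) := by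
    apply incl_excl_card 𝒦 (fun K => SP p (K.subgroupOf N)) (SP p (X.subgroupOf N))
      (fun J => SP p ((J.sup id).subgroupOf N))
    · ext ⟨g, T⟩
      rw [Set.mem_iUnion₂]
      constructor
      · rintro ⟨hXT, hg⟩
        have hXle : X ≤ (T : Subgroup N).map N.subtype := by
          intro x hx
          exact Subgroup.mem_map.mpr ⟨⟨x, hXN hx⟩, hXT (Subgroup.mem_subgroupOf.mpr hx), rfl⟩
        have hXne : X ≠ (T : Subgroup N).map N.subtype := by
          intro h
          obtain ⟨K₀, hK₀p, hXK₀, hK₀N⟩ := hexK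
          have h1 : (T : Subgroup N) ≤ K₀.subgroupOf N := by
            intro y hy
            have : (y : G) ∈ (T : Subgroup N).map N.subtype :=
              Subgroup.mem_map.mpr ⟨y, hy, rfl⟩
            rw [← h] at this
            exact Subgroup.mem_subgroupOf.mpr (hXK₀.le this)
          have h2 : K₀.subgroupOf N = (T : Subgroup N) :=
            T.is_maximal' hK₀p.comap_subtype h1
          apply hXK₀.not_ge
          intro x hx
          have h3 : (⟨x, hK₀N hx⟩ : N) ∈ K₀.subgroupOf N := Subgroup.mem_subgroupOf.mpr hx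
          rw [h2] at h3
          have h4 : x ∈ (T : Subgroup N).map N.subtype := Subgroup.mem_map.mpr ⟨_, h3, rfl⟩
          rw [← h] at h4
          exact h4
        have hTle : ((T : Subgroup N).map N.subtype).subgroupOf N ≤ T := by
          intro y hy
          obtain ⟨t, ht, hty⟩ := Subgroup.mem_map.mp (Subgroup.mem_subgroupOf.mp hy)
          have : t = y := Subtype.ext hty
          rw [← this]; exact ht
        refine ⟨(T : Subgroup N).map N.subtype, (hmem𝒦 _).mpr ⟨T.isPGroup'.map _,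
          lt_of_le_of_ne hXle hXne, ?_⟩, hTle, hg⟩
        rintro x hx
        obtain ⟨t, -, rfl⟩ := Subgroup.mem_map.mp hx
        exact t.2
      · rintro ⟨K, hK, hKT, hg⟩
        refine ⟨fun y hy => hKT ?_, hg⟩
        exact Subgroup.mem_subgroupOf.mpr
          (((hmem𝒦 K).mp hK).2.1.le (Subgroup.mem_subgroupOf.mp hy))
    · intro J hJ hJne
      ext ⟨g, T⟩
      rw [Set.mem_iInter₂]
      constructor
      · rintro ⟨hsup, hg⟩ K hK
        refine ⟨fun y hy => hsup ?_, hg⟩
        exact Subgroup.mem_subgroupOf.mpr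
          (Finset.le_sup (f := id) hK (Subgroup.mem_subgroupOf.mp hy))
      · intro h
        obtain ⟨K₀, hK₀⟩ := hJne
        refine ⟨?_, (h K₀ hK₀).2⟩
        have h1 : J.sup id ≤ (T : Subgroup N).map N.subtype := by
          apply Finset.sup_le
          intro K hK x hx
          have hxN : x ∈ N := ((hmem𝒦 K).mp (hJ hK)).2.2 hx
          exact Subgroup.mem_map.mpr
            ⟨⟨x, hxN⟩, (h K hK).1 (Subgroup.mem_subgroupOf.mpr hx), rfl⟩
        intro y hy
        obtain ⟨t, ht, hty⟩ := Subgroup.mem_map.mp (h1 (Subgroup.mem_subgroupOf.mp hy))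
        have : t = y := Subtype.ext hty
        rw [← this]; exact ht
  have hB : ∑ J ∈ 𝒦.powerset with J.Nonempty,
      (-1 : ℤ) ^ (J.card + 1) * (Nat.card (SN p (J.sup id) ∩ (N : Set G) : Set G) : ℤ) =
      (Nat.card N : ℤ) := by
    rw [← card_SP_of_forall_le (p := p) (X.subgroupOf N) (fun T => hXpN.le_sylow_of_normal T),
      hN2]
    apply Finset.sum_congr rfl
    intro J hJ
    obtain ⟨hJ1, hJ2⟩ := Finset.mem_filter.mp hJ
    rw [card_SN_inter N (J.sup id) (hsupN J (Finset.mem_powerset.mp hJ1)),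
      ih (Nat.card N) (hn ▸ hNlt) N rfl]
  -- assemble
  have hNsub : SN p X ∩ (N : Set G) = (N : Set G) := by
    apply Set.inter_eq_right.mpr
    intro g hg
    exact ⟨X, hXp, le_rfl, hg⟩
  have hfinal : (Nat.card (SN p X) : ℤ) = (Nat.card (SP p X) : ℤ) := by
    rw [hG3, hsplit X, hNsub]
    simp_rw [hsplit, mul_add]
    rw [Finset.sum_add_distrib, hA, hB]
    rfl
  exact_mod_cast hfinal

end Cfsg.Agent.H72
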