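import Mathlib
import Cfsg.Agent.H72.Subn

set_option autoImplicit false
open scoped Pointwise

namespace Cfsg.Agent.H72

/-- Decomposition of an element into its `p`-part and `p'`-part. -/
theorem exists_pparts {G : Type*} [Group G] [Finite G] (p : ℕ) (hp : p.Prime) (h : G) :
    ∃ a b : ℕ, h ^ a * h ^ b = h ∧ (∃ k : ℕ, orderOf (h ^ a) = p ^ k) ∧
      (orderOf (h ^ b)).Coprime p := by
  have hn0 : orderOf h ≠ 0 := (orderOf_pos h).ne'
  set n := orderOf h with hn
  set pk := p ^ n.factorization p with hpk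
  set n' := n / pk with hn'
  have hmul : pk * n' = n := Nat.ordProj_mul_ordCompl_eq_self n p
  have co : pk.Coprime n' := Nat.Coprime.pow_left _ (Nat.coprime_ordCompl hp hn0)
  obtain ⟨a, ha1, ha2⟩ := Nat.chineseRemainder co 1 0
  obtain ⟨b, hb1, hb2⟩ := Nat.chineseRemainder co 0 1
  refine ⟨a, b, ?_, ?_, ?_⟩
  · rw [← pow_add]
    have h1 : a + b ≡ 1 [MOD pk * n'] := by
      apply (Nat.modEq_and_modEq_iff_modEq_mul co).mp
      exact ⟨by simpa using ha1.add hb1, by simpa using ha2.add hb2⟩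
    rw [hmul] at h1
    have := (pow_eq_pow_iff_modEq (x := h) (n := a + b) (m := 1)).mpr h1
    rw [this, pow_one]
  · have hdvd : orderOf (h ^ a) ∣ pk := by
      apply orderOf_dvd_of_pow_eq_one
      rw [← pow_mul]
      apply orderOf_dvd_iff_pow_eq_one.mp
      rw [← hn, ← hmul, mul_comm a pk]
      exact Nat.mul_dvd_mul_left pk (Nat.modEq_zero_iff_dvd.mp ha2)
    obtain ⟨j, _, hj⟩ := (Nat.dvd_prime_pow hp).mp hdvd
    exact ⟨j, hj⟩
  · have hdvd : orderOf (h ^ b) ∣ n' := by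
      apply orderOf_dvd_of_pow_eq_one
      rw [← pow_mul]
      apply orderOf_dvd_iff_pow_eq_one.mp
      rw [← hn, ← hmul]
      exact Nat.mul_dvd_mul_right (Nat.modEq_zero_iff_dvd.mp hb1) n'
    rw [Nat.coprime_comm, Nat.Prime.coprime_iff_not_dvd hp]
    intro hd
    exact Nat.not_dvd_ordCompl hp hn0 (hd.trans hdvd)

/-- A finite group is not the union of the conjugates of a proper subgroup. -/
theorem eq_top_of_conj_cover {G : Type*} [Group G] [Finite G] (H : Subgroup G)
    (h : ∀ g : G, ∃ k : G, k⁻¹ * g * k ∈ H) : H = ⊤ := by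
  classical
  let φ : (G ⧸ H) × H → G := fun x => x.1.out * (x.2 : G) * (x.1.out)⁻¹
  have hsurj : Function.Surjective φ := by
    intro g
    obtain ⟨k, hk⟩ := h g
    obtain ⟨h0, hh0⟩ := QuotientGroup.mk_out_eq_mul H k
    set o := (QuotientGroup.mk k : G ⧸ H).out with ho
    have hk' : o⁻¹ * k ∈ H := by
      have : o⁻¹ * k = (h0 : G)⁻¹ := by rw [hh0]; group
      rw [this]; exact H.inv_mem h0.2
    refine ⟨(QuotientGroup.mk k, ⟨o⁻¹ * g * o, ?_⟩), ?_⟩
    · have : o⁻¹ * g * o = (o⁻¹ * k) * (k⁻¹ * g * k) * (o⁻¹ * k)⁻¹ := by group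
      rw [this]; exact H.mul_mem (H.mul_mem hk' hk) (H.inv_mem hk')
    · show o * (o⁻¹ * g * o) * o⁻¹ = g
      group
  have hbij : Function.Bijective φ := hsurj.bijective_of_nat_card_le (by
    rw [Nat.card_prod, ← Subgroup.card_eq_card_quotient_mul_card_subgroup])
  have hsub : Subsingleton (G ⧸ H) := by
    constructor
    intro a b
    have h1 : φ (a, 1) = φ (b, 1) := by
      simp [φ]
    have := hbij.1 h1
    exact (Prod.ext_iff.mp this).1
  rw [← Subgroup.index_eq_one, Subgroup.index]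
  exact Nat.card_eq_one_iff_unique.mpr ⟨hsub, ⟨QuotientGroup.mk 1⟩⟩

/-- A subgroup of index prime to `p` contains a Sylow `p`-subgroup of the whole group. -/
theorem exists_sylow_le_of_not_dvd_index {G : Type*} [Group G] [Finite G] (p : ℕ)
    [Fact p.Prime] (K : Subgroup G) (hK : ¬ p ∣ K.index) :
    ∃ Q : Sylow p G, (Q : Subgroup G) ≤ K := by
  obtain ⟨T⟩ : Nonempty (Sylow p K) := inferInstance
  have hcard : Nat.card ((T : Subgroup K).map K.subtype) = p ^ (Nat.card G).factorization p := by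
    rw [Subgroup.card_map_of_injective K.subtype_injective, Sylow.card_eq_multiplicity,
      ← Subgroup.card_mul_index K, Nat.factorization_mul Nat.card_pos.ne'
        (Subgroup.index_ne_zero_of_finite),
      Finsupp.add_apply, Nat.factorization_eq_zero_of_not_dvd hK, add_zero]
  refine ⟨Sylow.ofCard _ hcard, ?_⟩
  rw [Sylow.coe_ofCard]
  exact Subgroup.map_subtype_le _

/-- A `p`-element of a subgroup `N` containing the Sylow subgroup `S` is `N`-conjugate
into `S`. -/
theorem exists_conj_mem_sylow_of_le {G : Type*} [Group G] [Finite G] {p : ℕ} [Fact p.Prime]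
    (S : Sylow p G) (N : Subgroup G) (hS : (S : Subgroup G) ≤ N) (u : G) (huN : u ∈ N)
    (k : ℕ) (hu : orderOf u = p ^ k) : ∃ c ∈ N, c * u * c⁻¹ ∈ (S : Subgroup G) := by
  have hQ : IsPGroup p (Subgroup.zpowers (⟨u, huN⟩ : N)) :=
    IsPGroup.of_card (n := k) (by rw [Nat.card_zpowers, ← Subgroup.orderOf_coe]; exact hu)
  obtain ⟨R, hR⟩ := hQ.exists_le_sylow
  obtain ⟨n, hn⟩ := MulAction.exists_smul_eq N R (S.subtype hS)
  refine ⟨n, n.2, ?_⟩
  have h1 : (⟨u, huN⟩ : N) ∈ R := hR (Subgroup.mem_zpowers _)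
  have h2 : n * ⟨u, huN⟩ * n⁻¹ ∈ (n • R : Sylow p N) := by
    rw [mem_sylow_smul]
    have e : n⁻¹ * (n * ⟨u, huN⟩ * n⁻¹) * n = ⟨u, huN⟩ := by group
    rw [e]; exact h1
  rw [hn] at h2
  have h3 : n * ⟨u, huN⟩ * n⁻¹ ∈ (S : Subgroup G).subgroupOf N := by
    rw [← Sylow.coe_subtype]; exact h2
  exact Subgroup.mem_subgroupOf.mp h3

/-- If every `p'`-element has a class of size prime to `p`, there is a normal `p`-complement
containing all `p'`-elements. -/
theorem exists_normal_pcomp_of_classes {X : Type*} [Group X] [Finite X] (p : ℕ) [Fact p.Prime]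
    (h : ∀ y : X, (orderOf y).Coprime p → ¬ p ∣ (Subgroup.centralizer ({y} : Set X)).index) :
    ∃ H : Subgroup X, H.Normal ∧ (Nat.card H).Coprime p ∧ (∃ k : ℕ, H.index = p ^ k) ∧
      ∀ y : X, (orderOf y).Coprime p → y ∈ H := by
  have hp : p.Prime := Fact.out
  obtain ⟨P₀⟩ : Nonempty (Sylow p X) := inferInstance
  set Z : Subgroup X := Subgroup.centralizer ((P₀ : Subgroup X) : Set X) with hZ
  -- every element is conjugate into `P₀ * C(P₀)`
  have hcover : ∀ z : X, ∃ k : X, ∃ u ∈ (P₀ : Subgroup X), ∃ c ∈ Z, k⁻¹ * z * k = u * c := by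
    intro z
    obtain ⟨a, b, hab, ⟨j, hj⟩, hb⟩ := exists_pparts p hp z
    obtain ⟨S, hS⟩ := exists_sylow_le_of_not_dvd_index p _ (h (z ^ b) hb)
    have hcomm : z ^ a ∈ Subgroup.centralizer ({z ^ b} : Set X) := by
      rw [Subgroup.mem_centralizer_singleton_iff]
      exact (Commute.pow_pow_self z a b).eq
    obtain ⟨c, hc, hcu⟩ := exists_conj_mem_sylow_of_le S _ hS (z ^ a) hcomm j hj
    obtain ⟨g, hg⟩ := MulAction.exists_smul_eq X P₀ S
    have hc' : c * z ^ b = z ^ b * c := Subgroup.mem_centralizer_singleton_iff.mp hc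
    refine ⟨c⁻¹ * g, g⁻¹ * (c * z ^ a * c⁻¹) * g, ?_, g⁻¹ * z ^ b * g, ?_, ?_⟩
    · have h1 : c * z ^ a * c⁻¹ ∈ (g • P₀ : Sylow p X) := by rw [hg]; exact hcu
      exact mem_sylow_smul.mp h1
    · rw [hZ, Subgroup.mem_centralizer_iff]
      intro w hw
      have h1 : g * w * g⁻¹ ∈ (g • P₀ : Sylow p X) := by
        rw [mem_sylow_smul]
        have e : g⁻¹ * (g * w * g⁻¹) * g = w := by group
        rw [e]; exact hw
      rw [hg] at h1
      have h2 := Subgroup.mem_centralizer_singleton_iff.mp (hS h1)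
      calc w * (g⁻¹ * z ^ b * g) = g⁻¹ * (g * w * g⁻¹ * z ^ b) * g := by group
        _ = g⁻¹ * (z ^ b * (g * w * g⁻¹)) * g := by rw [h2]
        _ = g⁻¹ * z ^ b * g * w := by group
    · have e1 : (c⁻¹ * g)⁻¹ * z * (c⁻¹ * g) = g⁻¹ * (c * z * c⁻¹) * g := by group
      have hcm : Commute c (z ^ b) := hc'
      have e2 : c * z * c⁻¹ = (c * z ^ a * c⁻¹) * z ^ b := by
        conv_lhs => rw [← hab]
        rw [mul_assoc c, mul_assoc c, mul_assoc (z ^ a), ← hcm.inv_left.eq]
        simp only [mul_assoc]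
      rw [e1, e2]
      simp only [mul_assoc, mul_inv_cancel_left]
  have hM : (P₀ : Subgroup X) ⊔ Z = ⊤ := by
    apply eq_top_of_conj_cover
    intro z
    obtain ⟨k, u, hu, c, hc, hk⟩ := hcover z
    exact ⟨k, hk ▸ Subgroup.mul_mem_sup hu hc⟩
  have hP₀n : (P₀ : Subgroup X).Normal := by
    rw [← Subgroup.normalizer_eq_top_iff, eq_top_iff, ← hM]
    exact sup_le Subgroup.le_normalizer (Subgroup.centralizer_le_normalizer _)
  have hdec : ∀ z : X, ∃ u ∈ (P₀ : Subgroup X), ∃ c ∈ Z, z = u * c := by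
    intro z
    have hz : z ∈ (((P₀ : Subgroup X) ⊔ Z : Subgroup X) : Set X) := by
      rw [hM]; trivial
    rw [Subgroup.normal_mul] at hz
    obtain ⟨u, hu, c, hc, rfl⟩ := Set.mem_mul.mp hz
    exact ⟨u, hu, c, hc, rfl⟩
  obtain ⟨k, hk⟩ := IsPGroup.iff_card.mp P₀.isPGroup'
  have hcop : (Nat.card (P₀ : Subgroup X)).Coprime (P₀ : Subgroup X).index := by
    rw [hk]
    exact Nat.Coprime.pow_left k ((Nat.Prime.coprime_iff_not_dvd hp).mpr P₀.not_dvd_index)
  obtain ⟨H, hH⟩ := Subgroup.exists_left_complement'_of_coprime hcop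
  have hHcard : Nat.card H = (P₀ : Subgroup X).index := hH.index_eq_card.symm
  have hHidx : H.index = p ^ k := by rw [hH.symm.index_eq_card, hk]
  have hHco : (Nat.card H).Coprime p := by
    rw [hHcard, Nat.coprime_comm]
    exact (Nat.Prime.coprime_iff_not_dvd hp).mpr P₀.not_dvd_index
  have hHZ : H ≤ Z := by
    intro h hh
    obtain ⟨u, hu, c, hc, rfl⟩ := hdec h
    have hcomm : Commute u c := by
      have := (Subgroup.mem_centralizer_iff.mp hc) u hu
      exact this
    have hu1 : u ^ (p ^ k) = 1 := by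
      have := pow_card_eq_one' (x := (⟨u, hu⟩ : (P₀ : Subgroup X)))
      rw [hk] at this
      have := congrArg Subtype.val this
      simpa using this
    have h1 : (u * c) ^ (p ^ k) ∈ Z := by
      rw [hcomm.mul_pow, hu1, one_mul]
      exact Subgroup.pow_mem _ hc _
    have h2 : (p ^ k).Coprime (orderOf (u * c)) := by
      apply Nat.Coprime.pow_left
      have h3 : orderOf (u * c) ∣ Nat.card H := by
        have := orderOf_dvd_natCard (⟨u * c, hh⟩ : H)
        rwa [← Subgroup.orderOf_coe] at this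
      exact (Nat.Coprime.coprime_dvd_left h3 hHco).symm
    obtain ⟨m, hm⟩ := exists_pow_eq_self_of_coprime h2
    rw [← hm]
    exact Subgroup.pow_mem _ h1 m
  have hHn : H.Normal := by
    refine ⟨fun h hh x => ?_⟩
    obtain ⟨⟨h', u'⟩, hx, -⟩ := (Subgroup.isComplement'_def.mp hH).existsUnique x
    simp only at hx
    have hcomm : (u' : X) * h = h * (u' : X) :=
      (Subgroup.mem_centralizer_iff.mp (hHZ hh)) u' u'.2
    have e : x * h * x⁻¹ = (h' : X) * h * (h' : X)⁻¹ := by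
      rw [← hx]
      calc (h' : X) * (u' : X) * h * ((h' : X) * (u' : X))⁻¹
          = (h' : X) * ((u' : X) * h) * (u' : X)⁻¹ * (h' : X)⁻¹ := by group
        _ = (h' : X) * (h * (u' : X)) * (u' : X)⁻¹ * (h' : X)⁻¹ := by rw [hcomm]
        _ = (h' : X) * h * (h' : X)⁻¹ := by group
    rw [e]
    exact H.mul_mem (H.mul_mem h'.2 hh) (H.inv_mem h'.2)
  refine ⟨H, hHn, hHco, ⟨k, hHidx⟩, ?_⟩
  intro y hy
  have h1 : y ^ (p ^ k) ∈ H := by
    rw [← hHidx]; exact Subgroup.pow_index_mem H y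
  have h2 : (p ^ k).Coprime (orderOf y) := Nat.Coprime.pow_left k hy.symm
  obtain ⟨m, hm⟩ := exists_pow_eq_self_of_coprime h2
  rw [← hm]
  exact Subgroup.pow_mem _ h1 m

end Cfsg.Agent.H72
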