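import Mathlib
import Cfsg.Agent.H72.ClassSize
import Cfsg.Agent.S4085
import Cfsg.Agent.H72.ItoNorm

set_option autoImplicit false

namespace Cfsg.Agent.H72.Ito

open Subgroup

variable {G : Type*} [Group G]

/-- the centralizer of an element -/
abbrev cen (x : G) : Subgroup G := Subgroup.centralizer ({x} : Set G)

theorem mem_cen {x g : G} : g ∈ cen x ↔ g * x = x * g := Subgroup.mem_centralizer_singleton_iff

theorem self_mem_cen (x : G) : x ∈ cen x := mem_cen.mpr rfl

theorem cen_eq_top_iff {x : G} : cen x = ⊤ ↔ x ∈ center G := by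
  rw [cen, Subgroup.centralizer_eq_top_iff_subset, Set.singleton_subset_iff]; rfl

theorem center_le_cen (x : G) : center G ≤ cen x := Subgroup.center_le_centralizer _

theorem index_cen {n : ℕ} (h : ∀ x : G, (cen x).index = 1 ∨ (cen x).index = n) {x : G}
    (hx : x ∉ center G) : (cen x).index = n := by
  rcases h x with h1 | h1
  · exact absurd (cen_eq_top_iff.mp (Subgroup.index_eq_one.mp h1)) hx
  · exact h1

theorem cen_eq_of_le [Finite G] {n : ℕ} (h : ∀ x : G, (cen x).index = 1 ∨ (cen x).index = n)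
    {u v : G} (hu : u ∉ center G) (hv : v ∉ center G) (hle : cen u ≤ cen v) : cen u = cen v := by
  have h1 := Subgroup.relIndex_mul_index hle
  rw [index_cen h hu, index_cen h hv] at h1
  have hn0 : n ≠ 0 := by
    rw [← index_cen h hu]; exact Subgroup.index_ne_zero_of_finite
  have h2 : (cen u).relIndex (cen v) = 1 := by
    have : (cen u).relIndex (cen v) * n = 1 * n := by rw [h1, one_mul]
    exact Nat.eq_of_mul_eq_mul_right (Nat.pos_of_ne_zero hn0) this
  exact le_antisymm hle (Subgroup.relIndex_eq_one.mp h2)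

theorem cen_mul_le_left [Finite G] {a b : G} (hab : Commute a b)
    (hco : (orderOf a).Coprime (orderOf b)) : cen (a * b) ≤ cen a := by
  intro g hg
  rw [mem_cen] at hg ⊢
  have h1 : Commute g (a * b) := hg
  have h2 : Commute g ((a * b) ^ orderOf b) := h1.pow_right _
  rw [hab.mul_pow, pow_orderOf_eq_one, mul_one] at h2
  obtain ⟨m, hm⟩ := exists_pow_eq_self_of_coprime (x := a) (n := orderOf b) hco.symm
  have h3 : Commute g a := by rw [← hm]; exact h2.pow_right m
  exact h3.eq

theorem cen_mul_le_right [Finite G] {a b : G} (hab : Commute a b)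
    (hco : (orderOf a).Coprime (orderOf b)) : cen (a * b) ≤ cen b := by
  rw [hab.eq]
  exact cen_mul_le_left hab.symm hco.symm

theorem cen_le_of_mem_zpowers {u w : G} (hw : w ∈ zpowers u) : cen u ≤ cen w := by
  intro g hg
  rw [mem_cen] at hg ⊢
  obtain ⟨k, rfl⟩ := mem_zpowers_iff.mp hw
  have h1 : Commute g u := hg
  exact (h1.zpow_right k).eq

/-- In a centralizer of a noncentral element `u`, elements of order prime to that of `u`
are central (in the centralizer). -/
theorem cen_le_of_coprime [Finite G] {n : ℕ}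
    (h : ∀ x : G, (cen x).index = 1 ∨ (cen x).index = n) {u b : G} (hu : u ∉ center G)
    (hb : b ∈ cen u) (hco : (orderOf u).Coprime (orderOf b)) : cen u ≤ cen b := by
  have hub : Commute u b := (mem_cen.mp hb).symm
  have h1 : cen (u * b) ≤ cen u := cen_mul_le_left hub hco
  have h2 : u * b ∉ center G := by
    intro hc
    have : cen (u * b) = ⊤ := cen_eq_top_iff.mpr hc
    rw [this, top_le_iff] at h1
    exact hu (cen_eq_top_iff.mp h1)
  rw [← cen_eq_of_le h h2 hu h1]
  exact cen_mul_le_right hub hco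

theorem mem_cen_conj {x c g : G} : g ∈ cen (c * x * c⁻¹) ↔ c⁻¹ * g * c ∈ cen x := by
  rw [mem_cen, mem_cen]
  constructor
  · intro h
    calc c⁻¹ * g * c * x = c⁻¹ * (g * (c * x * c⁻¹)) * c := by group
      _ = c⁻¹ * (c * x * c⁻¹ * g) * c := by rw [h]
      _ = x * (c⁻¹ * g * c) := by group
  · intro h
    calc g * (c * x * c⁻¹) = c * (c⁻¹ * g * c * x) * c⁻¹ := by group
      _ = c * (x * (c⁻¹ * g * c)) * c⁻¹ := by rw [h]
      _ = c * x * c⁻¹ * g := by group

theorem conj_not_mem_center {x c : G} (hx : x ∉ center G) : c * x * c⁻¹ ∉ center G := by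
  intro hc
  apply hx
  have := (center G).normal_of_characteristic.conj_mem _ hc c⁻¹
  simpa [mul_assoc] using this

/-- Step A: each centralizer of a noncentral element contains a noncentral `ℓ`-element
as soon as the group has one. -/
theorem exists_prime_elt_in_cen [Finite G] {n : ℕ}
    (h : ∀ x : G, (cen x).index = 1 ∨ (cen x).index = n) {ℓ : ℕ} (hℓ : ℓ.Prime) {w : G}
    (hw : w ∉ center G) {k : ℕ} (hwo : orderOf w = ℓ ^ k) {u : G} (hu : u ∉ center G) :
    ∃ y ∈ cen u, y ∉ center G ∧ ∃ j : ℕ, orderOf y = ℓ ^ j := by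
  by_contra hcon
  push Not at hcon
  have : Fact ℓ.Prime := ⟨hℓ⟩
  have hcard : Nat.card (cen u) = Nat.card (cen w) := by
    have h1 := Subgroup.card_mul_index (cen u)
    have h2 := Subgroup.card_mul_index (cen w)
    rw [index_cen h hu] at h1
    rw [index_cen h hw, ← h1] at h2
    have hn0 : n ≠ 0 := by
      rw [← index_cen h hu]; exact Subgroup.index_ne_zero_of_finite
    exact (Nat.eq_of_mul_eq_mul_right (Nat.pos_of_ne_zero hn0) h2).symm
  set m := (Nat.card (cen u)).factorization ℓ with hm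
  obtain ⟨L', hL'⟩ := Sylow.exists_subgroup_card_pow_prime ℓ
    (Nat.ordProj_dvd (Nat.card (cen u)) ℓ)
  set L : Subgroup G := L'.map (cen u).subtype with hL
  have hLcard : Nat.card L = ℓ ^ m := by
    rw [hL, Subgroup.card_map_of_injective (cen u).subtype_injective, hL']
  have hLle : L ≤ cen u := Subgroup.map_subtype_le _
  have hLp : IsPGroup ℓ L := IsPGroup.of_card hLcard
  have hLZ : L ≤ center G := by
    intro y hy
    by_contra hyZ
    obtain ⟨j, hj⟩ := (IsPGroup.iff_orderOf.mp hLp) ⟨y, hy⟩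
    rw [← Subgroup.orderOf_coe] at hj
    exact hcon y (hLle hy) hyZ j hj
  have hLn : L.Normal := by
    constructor
    intro y hy g
    have := Subgroup.mem_center_iff.mp (hLZ hy) g
    have e : g * y * g⁻¹ = y := by rw [this]; group
    rw [e]; exact hy
  have hwp : IsPGroup ℓ (zpowers w) := IsPGroup.of_card (n := k) (by rw [Nat.card_zpowers, hwo])
  have hMp : IsPGroup ℓ (L ⊔ zpowers w : Subgroup G) := IsPGroup.to_sup_of_normal_left hLp hwp
  have hMle : L ⊔ zpowers w ≤ cen w :=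
    sup_le (hLZ.trans (center_le_cen w)) (zpowers_le.mpr (self_mem_cen w))
  obtain ⟨j, hj⟩ := IsPGroup.iff_card.mp hMp
  have hjm : j ≤ m := by
    have hd : ℓ ^ j ∣ Nat.card (cen u) := by
      rw [hcard, ← hj]; exact Subgroup.card_dvd_of_le hMle
    exact (Nat.Prime.pow_dvd_iff_le_factorization hℓ Nat.card_pos.ne').mp hd
  have hle : Nat.card (L ⊔ zpowers w : Subgroup G) ≤ Nat.card L := by
    rw [hj, hLcard]; exact Nat.pow_le_pow_right hℓ.pos hjm
  have heq : L = L ⊔ zpowers w := Subgroup.eq_of_le_of_card_ge le_sup_left hle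
  have hwL : w ∈ L := by
    rw [heq]; exact (le_sup_right : zpowers w ≤ L ⊔ zpowers w) (mem_zpowers w)
  exact hw (hLZ hwL)

/-- Step C: with two "bad" primes all centralizers of noncentral elements are abelian. -/
theorem cen_comm [Finite G] {n : ℕ} (h : ∀ x : G, (cen x).index = 1 ∨ (cen x).index = n)
    {q r : ℕ} (hq : q.Prime) (hr : r.Prime) (hqr : q ≠ r)
    {x : G} (hx : x ∉ center G) {kx : ℕ} (hxo : orderOf x = q ^ kx)
    {y : G} (hy : y ∉ center G) {ky : ℕ} (hyo : orderOf y = r ^ ky)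
    {u : G} (hu : u ∉ center G) : ∀ a ∈ cen u, ∀ b ∈ cen u, a * b = b * a := by
  obtain ⟨w, hwz, ℓ, k, hℓ, hwo, hwZ⟩ :=
    Cfsg.Agent.S4085.exists_ppow_not_mem (center G) (orderOf u) u le_rfl hu
  have huw : cen u = cen w := cen_eq_of_le h hu hwZ (cen_le_of_mem_zpowers hwz)
  have hex : ∃ q' : ℕ, q'.Prime ∧ q' ≠ ℓ ∧ ∃ x' : G, x' ∉ center G ∧ ∃ k' : ℕ,
      orderOf x' = q' ^ k' := by
    by_cases hql : q = ℓ
    · exact ⟨r, hr, fun hrl => hqr (hql.trans hrl.symm), y, hy, ky, hyo⟩
    · exact ⟨q, hq, hql, x, hx, kx, hxo⟩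
  obtain ⟨q', hq', hne, x', hx', k', hx'o⟩ := hex
  obtain ⟨y', hy'mem, hy'Z, j, hy'o⟩ := exists_prime_elt_in_cen h hq' hx' hx'o hwZ
  have hprimes : Nat.Coprime ℓ q' := (Nat.coprime_primes hℓ hq').mpr (Ne.symm hne)
  have hco : (orderOf w).Coprime (orderOf y') := by
    rw [hwo, hy'o]; exact Nat.Coprime.pow _ _ hprimes
  have hwy : cen w = cen y' := cen_eq_of_le h hwZ hy'Z (cen_le_of_coprime h hwZ hy'mem hco)
  rw [huw]
  intro a ha b hb
  obtain ⟨i, l, hil, ⟨k'', hk''⟩, hl⟩ := exists_pparts ℓ hℓ b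
  have hbi : b ^ i ∈ cen w := (cen w).pow_mem hb i
  have hbl : b ^ l ∈ cen w := (cen w).pow_mem hb l
  have h1 : cen w ≤ cen (b ^ l) := by
    apply cen_le_of_coprime h hwZ hbl
    rw [hwo]; exact Nat.Coprime.pow_left k hl.symm
  have h2 : cen y' ≤ cen (b ^ i) := by
    apply cen_le_of_coprime h hy'Z (hwy ▸ hbi)
    rw [hy'o, hk'']; exact Nat.Coprime.pow _ _ hprimes.symm
  have e1 : a * b ^ l = b ^ l * a := mem_cen.mp (h1 ha)
  have e2 : a * b ^ i = b ^ i * a := mem_cen.mp (h2 (hwy ▸ ha))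
  rw [← hil]
  calc a * (b ^ i * b ^ l) = (a * b ^ i) * b ^ l := by group
    _ = b ^ i * (a * b ^ l) := by rw [e2]; group
    _ = b ^ i * b ^ l * a := by rw [e1]; group

/-- With abelian centralizers, commuting noncentral elements have the same centralizer. -/
theorem cen_eq_of_mem [Finite G] {n : ℕ} (h : ∀ x : G, (cen x).index = 1 ∨ (cen x).index = n)
    (hab : ∀ u : G, u ∉ center G → ∀ a ∈ cen u, ∀ b ∈ cen u, a * b = b * a)
    {u v : G} (hu : u ∉ center G) (hv : v ∉ center G) (hvu : v ∈ cen u) : cen v = cen u := by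
  refine (cen_eq_of_le h hu hv ?_).symm
  intro g hg
  exact mem_cen.mpr (hab u hu g hg v hvu)

/-- Every bad prime divides `n`. -/
theorem dvd_of_bad [Finite G] {n : ℕ} (h : ∀ x : G, (cen x).index = 1 ∨ (cen x).index = n)
    (hab : ∀ u : G, u ∉ center G → ∀ a ∈ cen u, ∀ b ∈ cen u, a * b = b * a)
    {q : ℕ} (hq : q.Prime) {x : G} (hx : x ∉ center G) {k : ℕ} (hxo : orderOf x = q ^ k) :
    q ∣ n := by
  by_contra hnd
  have : Fact q.Prime := ⟨hq⟩
  apply hx
  rw [← cen_eq_top_iff]
  apply eq_top_of_conj_cover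
  intro g
  by_cases hg : g ∈ center G
  · refine ⟨1, ?_⟩
    have := center_le_cen x hg
    simpa using this
  · have hnd' : ¬ q ∣ (cen g).index := by rw [index_cen h hg]; exact hnd
    obtain ⟨Q, hQ⟩ := exists_sylow_le_of_not_dvd_index q (cen g) hnd'
    obtain ⟨c, -, hc⟩ := exists_conj_mem_sylow_of_le Q ⊤ le_top x (mem_top x) k hxo
    have hcx : c * x * c⁻¹ ∉ center G := conj_not_mem_center hx
    have heq : cen (c * x * c⁻¹) = cen g := cen_eq_of_mem h hab hg hcx (hQ hc)
    refine ⟨c, ?_⟩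
    rw [← mem_cen_conj, heq]
    exact self_mem_cen g

/-- Every prime dividing `n` is bad. -/
theorem exists_bad_of_dvd [Finite G] {n : ℕ} (h : ∀ x : G, (cen x).index = 1 ∨ (cen x).index = n)
    {x₀ : G} (hx₀ : x₀ ∉ center G) {q : ℕ} (hq : q.Prime) (hqn : q ∣ n) :
    ∃ x : G, x ∉ center G ∧ ∃ k : ℕ, orderOf x = q ^ k := by
  have : Fact q.Prime := ⟨hq⟩
  obtain ⟨S⟩ : Nonempty (Sylow q G) := inferInstance
  by_contra hcon
  push Not at hcon
  have hS : (S : Subgroup G) ≤ center G := by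
    intro s hs
    by_contra hsZ
    obtain ⟨j, hj⟩ := (IsPGroup.iff_orderOf.mp S.isPGroup') ⟨s, hs⟩
    rw [← Subgroup.orderOf_coe] at hj
    exact hcon s hsZ j hj
  have h1 : (cen x₀).index ∣ (S : Subgroup G).index :=
    Subgroup.index_dvd_of_le (hS.trans (center_le_cen x₀))
  rw [index_cen h hx₀] at h1
  exact S.not_dvd_index (hqn.trans h1)

/-- A finite nonabelian group whose central quotient is a `p`-group has a noncentral element
`u` with `u ^ p` central and all commutators `[u, s]` central. -/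
theorem exists_second_center' {P : Type*} [Group P] [Finite P] {p : ℕ} [Fact p.Prime]
    (hQ : IsPGroup p (P ⧸ center P)) (hna : ∃ a b : P, a * b ≠ b * a) :
    ∃ u : P, u ∉ center P ∧ u ^ p ∈ center P ∧ ∀ s : P, u * s * u⁻¹ * s⁻¹ ∈ center P := by
  have hp : p.Prime := Fact.out
  have hnt : Nontrivial (P ⧸ center P) := by
    by_contra hcon
    rw [not_nontrivial_iff_subsingleton] at hcon
    obtain ⟨a, b, hne⟩ := hna
    apply hne
    have ha : a ∈ center P := by
      rw [← QuotientGroup.eq_one_iff]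
      exact Subsingleton.elim _ _
    exact (Subgroup.mem_center_iff.mp ha b).symm
  have hcn : Nontrivial (center (P ⧸ center P)) := hQ.center_nontrivial
  have hcp : IsPGroup p (center (P ⧸ center P)) := hQ.to_subgroup _
  obtain ⟨m, hm⟩ := IsPGroup.iff_card.mp hcp
  have hm0 : m ≠ 0 := by
    rintro rfl
    rw [pow_zero] at hm
    have := Finite.one_lt_card_iff_nontrivial.mpr hcn
    omega
  have hdvd : p ∣ Nat.card (center (P ⧸ center P)) := by
    rw [hm]; exact dvd_pow_self p hm0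
  obtain ⟨ū, hū⟩ := exists_prime_orderOf_dvd_card' p hdvd
  obtain ⟨u, hu⟩ := QuotientGroup.mk_surjective (ū : P ⧸ center P)
  have hūo : orderOf (ū : P ⧸ center P) = p := by rw [Subgroup.orderOf_coe]; exact hū
  refine ⟨u, ?_, ?_, ?_⟩
  · intro huc
    have h1 : (ū : P ⧸ center P) = 1 := by
      rw [← hu]; exact (QuotientGroup.eq_one_iff u).mpr huc
    rw [h1, orderOf_one] at hūo
    exact hp.one_lt.ne hūo
  · rw [← QuotientGroup.eq_one_iff, QuotientGroup.mk_pow, hu, ← hūo]
    exact pow_orderOf_eq_one _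
  · intro s
    rw [← QuotientGroup.eq_one_iff]
    have h1 := Subgroup.mem_center_iff.mp ū.2 (s : P ⧸ center P)
    rw [QuotientGroup.mk_mul, QuotientGroup.mk_mul, QuotientGroup.mk_mul, QuotientGroup.mk_inv,
      QuotientGroup.mk_inv, hu, ← h1]
    group

/-- A nonabelian finite `p`-group has a noncentral element `u` with `u ^ p` central and all
commutators `[u, s]` central. -/
theorem exists_second_center {P : Type*} [Group P] [Finite P] {p : ℕ} [Fact p.Prime]
    (hP : IsPGroup p P) (hna : ∃ a b : P, a * b ≠ b * a) :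
    ∃ u : P, u ∉ center P ∧ u ^ p ∈ center P ∧ ∀ s : P, u * s * u⁻¹ * s⁻¹ ∈ center P :=
  exists_second_center' (hP.to_quotient _) hna

/-- `act_key` for a group with a commutativity hypothesis instead of an instance. -/
theorem act_key' {X V : Type*} [Group X] [Group V] [MulDistribMulAction X V]
    (hVc : ∀ a b : V, a * b = b * a) (q : ℕ)
    (hq : q.Prime) (V₀ : Subgroup V) (s t : X)
    (hst : ∀ v : V, (s * t) • v = (t * s) • v)
    (ht : ∀ v : V, (t ^ q) • v = v)
    (hj : ∀ j < q, ∀ v : V, ((s * t ^ j) ^ q) • v = v)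
    (hfixt : ∀ w : V, t • w = w → w ∈ V₀)
    (hfixj : ∀ j < q, ∀ w : V, (s * t ^ j) • w = w → w ∈ V₀)
    (hs0 : ∀ z ∈ V₀, s • z = z) (v : V) : v ^ q ∈ V₀ := by
  let inst : CommGroup V := { ‹Group V› with mul_comm := hVc }
  exact act_key q hq V₀ s t hst ht hj hfixt hfixj hs0 v

/-- conjugation action of the normalizer of a subgroup on the subgroup -/
@[reducible] def normAct (M : Subgroup G) : MulDistribMulAction (normalizer (M : Set G)) M where
  smul g v := ⟨(g : G) * v * (g : G)⁻¹, (mem_normalizer_iff.mp g.2 v).mp v.2⟩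
  one_smul v := by
    apply Subtype.ext
    show (1 : G) * v * (1 : G)⁻¹ = v
    group
  mul_smul g h v := by
    apply Subtype.ext
    show ((g : G) * (h : G)) * v * ((g : G) * (h : G))⁻¹ = (g : G) * ((h : G) * v * (h : G)⁻¹) * (g : G)⁻¹
    group
  smul_mul g v w := by
    apply Subtype.ext
    show (g : G) * ((v : G) * (w : G)) * (g : G)⁻¹ = ((g : G) * v * (g : G)⁻¹) * ((g : G) * w * (g : G)⁻¹)
    group
  smul_one g := by
    apply Subtype.ext
    show (g : G) * (1 : G) * (g : G)⁻¹ = 1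
    group

/-- The norm argument inside a group: `M` abelian, `s`, `t` normalizing `M`. -/
theorem norm_concrete (M : Subgroup G) (hM : ∀ a ∈ M, ∀ b ∈ M, a * b = b * a) (Z₀ : Subgroup G)
    (q : ℕ) (hq : q.Prime) (s t : G) (hs : s ∈ normalizer (M : Set G))
    (ht : t ∈ normalizer (M : Set G))
    (hst : (t * s)⁻¹ * (s * t) ∈ M)
    (htq : t ^ q ∈ M) (hjq : ∀ j < q, (s * t ^ j) ^ q ∈ M)
    (hfixt : ∀ w ∈ M, t * w = w * t → w ∈ Z₀)
    (hfixj : ∀ j < q, ∀ w ∈ M, (s * t ^ j) * w = w * (s * t ^ j) → w ∈ Z₀)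
    (hs0 : ∀ z ∈ Z₀, s * z = z * s) : ∀ v ∈ M, v ^ q ∈ Z₀ := by
  intro v hv
  let _ : MulDistribMulAction (normalizer (M : Set G)) M := normAct M
  have hsm : ∀ (g : normalizer (M : Set G)) (w : M),
      ((g • w : M) : G) = (g : G) * w * (g : G)⁻¹ := fun _ _ => rfl
  have hconj : ∀ (g : G), g ∈ M → ∀ w : M, g * (w : G) * g⁻¹ = w := by
    intro g hg w
    rw [hM g hg w w.2]; group
  have key := act_key' (X := normalizer (M : Set G)) (V := M)
    (fun a b => Subtype.ext (hM a a.2 b b.2)) q hq (Z₀.subgroupOf M) ⟨s, hs⟩ ⟨t, ht⟩ ?_ ?_ ?_ ?_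
    ?_ ?_ ⟨v, hv⟩
  · exact key
  · intro w
    apply Subtype.ext
    rw [hsm, hsm]
    show (s * t) * (w : G) * (s * t)⁻¹ = (t * s) * (w : G) * (t * s)⁻¹
    have hc := hconj _ hst w
    calc (s * t) * (w : G) * (s * t)⁻¹
        = (t * s) * (((t * s)⁻¹ * (s * t)) * (w : G) * ((t * s)⁻¹ * (s * t))⁻¹) * (t * s)⁻¹ := by
          group
      _ = (t * s) * (w : G) * (t * s)⁻¹ := by rw [hc]
  · intro w
    apply Subtype.ext
    rw [hsm]
    exact hconj _ htq w
  · intro j hj w
    apply Subtype.ext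
    rw [hsm]
    exact hconj _ (hjq j hj) w
  · intro w hw
    rw [mem_subgroupOf]
    apply hfixt w w.2
    have h1 := congrArg Subtype.val hw
    rw [hsm] at h1
    exact mul_inv_eq_iff_eq_mul.mp h1
  · intro j hj w hw
    rw [mem_subgroupOf]
    apply hfixj j hj w w.2
    have h1 := congrArg Subtype.val hw
    rw [hsm] at h1
    exact mul_inv_eq_iff_eq_mul.mp h1
  · intro z hz
    apply Subtype.ext
    rw [hsm]
    exact mul_inv_eq_iff_eq_mul.mpr (hs0 z (mem_subgroupOf.mp hz))

theorem cen_central_mul {z x : G} (hz : z ∈ center G) : cen (z * x) = cen x := by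
  ext g
  rw [mem_cen, mem_cen]
  have hzg := Subgroup.mem_center_iff.mp hz g
  constructor
  · intro h1
    have : z * (g * x) = z * (x * g) := by
      calc z * (g * x) = (g * z) * x := by rw [hzg]; group
        _ = g * (z * x) := by group
        _ = z * x * g := h1
        _ = z * (x * g) := by group
    exact mul_left_cancel this
  · intro h1
    calc g * (z * x) = (g * z) * x := by group
      _ = z * (g * x) := by rw [hzg]; group
      _ = z * x * g := by rw [h1]; group

theorem pow_conj_central {s u c : G} (hc : c ∈ center G) (h : s * u * s⁻¹ = c * u) (j : ℕ) :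
    s ^ j * u * (s ^ j)⁻¹ = c ^ j * u := by
  induction j with
  | zero => simp
  | succ j ih =>
    have hcj : c ^ j ∈ center G := (center G).pow_mem hc j
    have hcomm := Subgroup.mem_center_iff.mp hcj s
    calc s ^ (j + 1) * u * (s ^ (j + 1))⁻¹ = s * (s ^ j * u * (s ^ j)⁻¹) * s⁻¹ := by
          rw [pow_succ']; group
      _ = s * (c ^ j * u) * s⁻¹ := by rw [ih]
      _ = (s * c ^ j) * u * s⁻¹ := by group
      _ = c ^ j * (s * u * s⁻¹) := by rw [hcomm]; group
      _ = c ^ (j + 1) * u := by rw [h, pow_succ]; group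

/-- With two bad primes `q ≠ r` (and abelian centralizers), `q ^ 2` does not divide `n`. -/
theorem not_sq_dvd [Finite G] {n : ℕ} (h : ∀ x : G, (cen x).index = 1 ∨ (cen x).index = n)
    (hab : ∀ u : G, u ∉ center G → ∀ a ∈ cen u, ∀ b ∈ cen u, a * b = b * a)
    {q r : ℕ} (hq : q.Prime) (hr : r.Prime) (hqr : q ≠ r)
    {x : G} (hx : x ∉ center G) {kx : ℕ} (hxo : orderOf x = q ^ kx)
    {y : G} (hy : y ∉ center G) {ky : ℕ} (hyo : orderOf y = r ^ ky) : ¬ q ^ 2 ∣ n := by
  intro hsq
  have : Fact q.Prime := ⟨hq⟩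
  have hqn : q ∣ n := dvd_of_bad h hab hq hx hxo
  have hxp : IsPGroup q (zpowers x) := IsPGroup.of_card (n := kx) (by rw [Nat.card_zpowers, hxo])
  obtain ⟨S, hS⟩ := hxp.exists_le_sylow
  have hxS : x ∈ (S : Subgroup G) := hS (mem_zpowers x)
  -- the centre of `S` is central in `G`
  have hZS : ∀ z ∈ (S : Subgroup G), (∀ s ∈ (S : Subgroup G), s * z = z * s) → z ∈ center G := by
    intro z _ hz
    by_contra hzZ
    have h1 : (cen z).index ∣ (S : Subgroup G).index :=
      Subgroup.index_dvd_of_le (fun s hs => mem_cen.mpr (hz s hs))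
    rw [index_cen h hzZ] at h1
    exact S.not_dvd_index (hqn.trans h1)
  have hna : ∃ a b : (S : Subgroup G), a * b ≠ b * a := by
    by_contra hcon
    push Not at hcon
    apply hx
    apply hZS x hxS
    intro s hs
    exact congrArg Subtype.val (hcon ⟨s, hs⟩ ⟨x, hxS⟩)
  obtain ⟨u', hu1, hu2, hu3⟩ := exists_second_center (P := (S : Subgroup G)) S.isPGroup' hna
  set u : G := (u' : G) with hu
  have huS : u ∈ (S : Subgroup G) := u'.2
  have hcenS : ∀ z : (S : Subgroup G), z ∈ center (S : Subgroup G) → (z : G) ∈ center G := by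
    intro z hz
    apply hZS z z.2
    intro s hs
    exact congrArg Subtype.val (Subgroup.mem_center_iff.mp hz ⟨s, hs⟩)
  have huZ : u ∉ center G := by
    intro huc
    apply hu1
    rw [Subgroup.mem_center_iff]
    intro g
    exact Subtype.ext (Subgroup.mem_center_iff.mp huc g)
  have hupZ : u ^ q ∈ center G := hcenS _ hu2
  -- conjugating `u` by elements of `S` multiplies it by a central element
  have hSc : ∀ s ∈ (S : Subgroup G), ∃ c ∈ center G, s * u * s⁻¹ = c * u := by
    intro s hs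
    refine ⟨(u * s * u⁻¹ * s⁻¹)⁻¹, (center G).inv_mem (hcenS _ (hu3 ⟨s, hs⟩)), ?_⟩
    group
  set M : Subgroup G := cen u with hM
  have hMab : ∀ a ∈ M, ∀ b ∈ M, a * b = b * a := hab u huZ
  have hSnorm : ∀ s ∈ (S : Subgroup G), s ∈ normalizer (M : Set G) := by
    intro s hs
    obtain ⟨c, hc, hcu⟩ := hSc s hs
    rw [mem_normalizer_iff]
    intro g
    have e : cen (s * u * s⁻¹) = cen u := by rw [hcu]; exact cen_central_mul hc
    have e2 : s⁻¹ * (s * g * s⁻¹) * s = g := by group
    have key : s * g * s⁻¹ ∈ cen (s * u * s⁻¹) ↔ g ∈ cen u := by rw [mem_cen_conj, e2]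
    rw [e] at key
    exact key.symm
  have hSq : ∀ s ∈ (S : Subgroup G), s ^ q ∈ M := by
    intro s hs
    obtain ⟨c, hc, hcu⟩ := hSc s hs
    have h1 : (s * u * s⁻¹) ^ q = u ^ q := by
      rw [conj_pow]
      have := Subgroup.mem_center_iff.mp hupZ s
      rw [this]; group
    have h2 : (c * u) ^ q = c ^ q * u ^ q := by
      have hcomm : Commute c u := (Subgroup.mem_center_iff.mp hc u).symm
      exact hcomm.mul_pow q
    have hcq : c ^ q = 1 := by
      rw [hcu, h2] at h1
      exact mul_eq_right.mp h1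
    have h3 := pow_conj_central hc hcu q
    rw [hcq, one_mul] at h3
    rw [hM, mem_cen]
    exact mul_inv_eq_iff_eq_mul.mp h3
  have hScomm : ∀ s ∈ (S : Subgroup G), ∀ t ∈ (S : Subgroup G), (t * s)⁻¹ * (s * t) ∈ M := by
    intro s hs t ht
    obtain ⟨c, hc, hcu⟩ := hSc s hs
    obtain ⟨d, hd, hdu⟩ := hSc t ht
    have hds := Subgroup.mem_center_iff.mp hd s
    have hct := Subgroup.mem_center_iff.mp hc t
    have hcd := Subgroup.mem_center_iff.mp hc d
    have h1 : (s * t) * u * (s * t)⁻¹ = d * c * u := by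
      calc (s * t) * u * (s * t)⁻¹ = s * (t * u * t⁻¹) * s⁻¹ := by group
        _ = (s * d) * u * s⁻¹ := by rw [hdu]; group
        _ = d * (s * u * s⁻¹) := by rw [hds]; group
        _ = d * c * u := by rw [hcu]; group
    have h2 : (t * s) * u * (t * s)⁻¹ = d * c * u := by
      calc (t * s) * u * (t * s)⁻¹ = t * (s * u * s⁻¹) * t⁻¹ := by group
        _ = (t * c) * u * t⁻¹ := by rw [hcu]; group
        _ = c * (t * u * t⁻¹) := by rw [hct]; group
        _ = (c * d) * u := by rw [hdu]; group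
        _ = d * c * u := by rw [← hcd]
    rw [hM, mem_cen]
    have h3 : (s * t) * u * (s * t)⁻¹ = (t * s) * u * (t * s)⁻¹ := by rw [h1, h2]
    calc (t * s)⁻¹ * (s * t) * u = (t * s)⁻¹ * ((s * t) * u * (s * t)⁻¹) * (s * t) := by group
      _ = (t * s)⁻¹ * ((t * s) * u * (t * s)⁻¹) * (s * t) := by rw [h3]
      _ = u * ((t * s)⁻¹ * (s * t)) := by group
  -- an element of `S` outside `M`
  obtain ⟨t₀, ht₀S, ht₀M⟩ : ∃ t₀ ∈ (S : Subgroup G), t₀ ∉ M := by
    by_contra hcon
    push Not at hcon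
    apply hu1
    rw [Subgroup.mem_center_iff]
    intro g
    exact Subtype.ext (mem_cen.mp (hcon g g.2))
  have hfix : ∀ g : G, g ∉ M → ∀ w ∈ M, g * w = w * g → w ∈ center G := by
    intro g hg w hw hgw
    by_contra hwZ
    have e : cen w = cen u := cen_eq_of_mem h hab huZ hwZ hw
    apply hg
    rw [hM, ← e]
    exact mem_cen.mpr hgw
  have hclaim : ∀ s ∈ (S : Subgroup G), ∃ j < q, s * t₀ ^ j ∈ M := by
    intro s hs
    by_contra hcon
    push Not at hcon
    have hall := norm_concrete M hMab (center G) q hq s t₀ (hSnorm s hs) (hSnorm t₀ ht₀S)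
      (hScomm s hs t₀ ht₀S) (hSq t₀ ht₀S)
      (fun j _ => hSq _ ((S : Subgroup G).mul_mem hs ((S : Subgroup G).pow_mem ht₀S j)))
      (hfix t₀ ht₀M) (fun j hj => hfix _ (hcon j hj))
      (fun z hz => Subgroup.mem_center_iff.mp hz s)
    obtain ⟨b, hbM, hbZ, jb, hbo⟩ := exists_prime_elt_in_cen h hr hy hyo huZ
    have hbq := hall b hbM
    have hco : Nat.Coprime q (orderOf b) := by
      rw [hbo]; exact Nat.Coprime.pow_right _ ((Nat.coprime_primes hq hr).mpr hqr)
    obtain ⟨m, hm⟩ := exists_pow_eq_self_of_coprime (x := b) hco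
    exact hbZ (hm ▸ (center G).pow_mem hbq m)
  -- counting
  set T : Subgroup G := (S : Subgroup G) ⊓ M with hT
  have hcard : Nat.card (S : Subgroup G) ≤ q * Nat.card T := by
    classical
    let f : ↥(S : Subgroup G) → Fin q × T := fun s =>
      (⟨(hclaim s s.2).choose, (hclaim s s.2).choose_spec.1⟩,
        ⟨(s : G) * t₀ ^ (hclaim s s.2).choose,
          ⟨(S : Subgroup G).mul_mem s.2 ((S : Subgroup G).pow_mem ht₀S _),
            (hclaim s s.2).choose_spec.2⟩⟩)
    have hf : Function.Injective f := by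
      intro s s' hss
      have h1 : (hclaim s s.2).choose = (hclaim s' s'.2).choose :=
        congrArg (fun p : Fin q × T => (p.1 : ℕ)) hss
      have h2 : (s : G) * t₀ ^ (hclaim s s.2).choose = (s' : G) * t₀ ^ (hclaim s' s'.2).choose :=
        congrArg (fun p : Fin q × T => ((p.2 : T) : G)) hss
      rw [h1] at h2
      exact Subtype.ext (mul_right_cancel h2)
    have := Nat.card_le_card_of_injective f hf
    rwa [Nat.card_prod, Nat.card_fin] at this
  have hTp : IsPGroup q T := S.isPGroup'.to_le inf_le_left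
  obtain ⟨e', he'⟩ := IsPGroup.iff_card.mp hTp
  have hScard : Nat.card (S : Subgroup G) = q ^ (Nat.card G).factorization q :=
    Sylow.card_eq_multiplicity S
  have h1 : (Nat.card G).factorization q ≤ e' + 1 := by
    rw [hScard, he', ← pow_succ'] at hcard
    exact (Nat.pow_le_pow_iff_right hq.one_lt).mp hcard
  have h2 : q ^ (e' + 2) ∣ Nat.card G := by
    rw [← Subgroup.card_mul_index M, hM, index_cen h huZ, pow_add]
    refine Nat.mul_dvd_mul ?_ hsq
    rw [← he']
    exact Subgroup.card_dvd_of_le inf_le_right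
  have h3 := (Nat.Prime.pow_dvd_iff_le_factorization hq Nat.card_pos.ne').mp h2
  omega

/-- a `q`-element normalizing `C` but outside `C` makes `q` divide `|N(C) : C|` -/
theorem dvd_relIndex_of_pelt [Finite G] {C : Subgroup G} {g : G}
    (hN : g ∈ normalizer (C : Set G)) (hC : g ∉ C) {q k : ℕ} (hq : q.Prime)
    (ho : orderOf g = q ^ k) : q ∣ C.relIndex (normalizer (C : Set G)) := by
  set N : Subgroup G := normalizer (C : Set G) with hNdef
  set gb : N ⧸ C.subgroupOf N := QuotientGroup.mk (⟨g, hN⟩ : N) with hgb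
  have h1 : gb ≠ 1 := by
    intro h1
    rw [hgb, QuotientGroup.eq_one_iff, mem_subgroupOf] at h1
    exact hC h1
  have h2 : orderOf gb ∣ q ^ k := by
    rw [← ho, ← Subgroup.orderOf_mk g hN]
    exact orderOf_map_dvd (QuotientGroup.mk' (C.subgroupOf N)) (⟨g, hN⟩ : N)
  obtain ⟨j, _, hj⟩ := (Nat.dvd_prime_pow hq).mp h2
  have hj0 : j ≠ 0 := by
    rintro rfl
    rw [pow_zero, orderOf_eq_one_iff] at hj
    exact h1 hj
  have h3 : q ∣ orderOf gb := by rw [hj]; exact dvd_pow_self q hj0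
  exact h3.trans (_root_.orderOf_dvd_natCard gb)

/-- With squarefree `n` all of whose prime divisors are bad, every centralizer is normal. -/
theorem normalizer_cen_eq_top [Finite G] {n : ℕ}
    (h : ∀ x : G, (cen x).index = 1 ∨ (cen x).index = n)
    (hab : ∀ u : G, u ∉ center G → ∀ a ∈ cen u, ∀ b ∈ cen u, a * b = b * a)
    (hsqf : ∀ q : ℕ, q.Prime → q ∣ n → ¬ q ^ 2 ∣ n)
    {w : G} (hw : w ∉ center G) : normalizer (cen w : Set G) = ⊤ := by
  by_contra hne
  have hidx : (normalizer (cen w : Set G)).index ≠ 1 := fun h1 => hne (Subgroup.index_eq_one.mp h1)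
  obtain ⟨q, hq, hqd⟩ := Nat.exists_prime_and_dvd hidx
  have : Fact q.Prime := ⟨hq⟩
  have hmul := Subgroup.relIndex_mul_index (le_normalizer (H := cen w))
  rw [index_cen h hw] at hmul
  have hqn : q ∣ n := by rw [← hmul]; exact Dvd.dvd.mul_left hqd _
  obtain ⟨x, hx, k, hxo⟩ := exists_bad_of_dvd h hw hq hqn
  obtain ⟨x', hx'C, hx'Z, k', hx'o⟩ := exists_prime_elt_in_cen h hq hx hxo hw
  have hxp : IsPGroup q (zpowers x') := IsPGroup.of_card (n := k') (by rw [Nat.card_zpowers, hx'o])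
  obtain ⟨S, hS⟩ := hxp.exists_le_sylow
  have hx'S : x' ∈ (S : Subgroup G) := hS (mem_zpowers x')
  have hlt : (cen w).subgroupOf (S : Subgroup G) < ⊤ := by
    rw [lt_top_iff_ne_top]
    intro htop
    rw [subgroupOf_eq_top] at htop
    have h1 : (cen w).index ∣ (S : Subgroup G).index := Subgroup.index_dvd_of_le htop
    rw [index_cen h hw] at h1
    exact S.not_dvd_index (hqn.trans h1)
  have hnil : Group.IsNilpotent (S : Subgroup G) := S.isPGroup'.isNilpotent
  have hnc := Group.normalizerCondition_of_isNilpotent (G := (S : Subgroup G)) _ hlt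
  obtain ⟨g', hg'N, hg'C⟩ := SetLike.exists_of_lt hnc
  rw [mem_subgroupOf] at hg'C
  have hgconj : (g' : G) * x' * (g' : G)⁻¹ ∈ cen w := by
    have := (mem_normalizer_iff.mp hg'N ⟨x', hx'S⟩).mp (mem_subgroupOf.mpr hx'C)
    exact mem_subgroupOf.mp this
  have e1 : cen ((g' : G) * x' * (g' : G)⁻¹) = cen w :=
    cen_eq_of_mem h hab hw (conj_not_mem_center hx'Z) hgconj
  have e2 : cen x' = cen w := cen_eq_of_mem h hab hw hx'Z hx'C
  have hgN : (g' : G) ∈ normalizer (cen w : Set G) := by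
    rw [mem_normalizer_iff]
    intro a
    have e3 : (g' : G)⁻¹ * ((g' : G) * a * (g' : G)⁻¹) * (g' : G) = a := by group
    have key : (g' : G) * a * (g' : G)⁻¹ ∈ cen ((g' : G) * x' * (g' : G)⁻¹) ↔ a ∈ cen x' := by
      rw [mem_cen_conj, e3]
    rw [e1, e2] at key
    exact key.symm
  obtain ⟨j, hj⟩ := (IsPGroup.iff_orderOf.mp S.isPGroup') g'
  rw [← Subgroup.orderOf_coe] at hj
  have hq1 : q ∣ (cen w).relIndex (normalizer (cen w : Set G)) :=
    dvd_relIndex_of_pelt hgN hg'C hq hj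
  apply hsqf q hq hqn
  rw [← hmul, pow_two]
  exact Nat.mul_dvd_mul hq1 hqd

/-- Two distinct bad primes are impossible. -/
theorem false_of_two_bad [Finite G] {n : ℕ} (h : ∀ x : G, (cen x).index = 1 ∨ (cen x).index = n)
    {q r : ℕ} (hq : q.Prime) (hr : r.Prime) (hqr : q ≠ r)
    {x : G} (hx : x ∉ center G) {kx : ℕ} (hxo : orderOf x = q ^ kx)
    {y : G} (hy : y ∉ center G) {ky : ℕ} (hyo : orderOf y = r ^ ky) : False := by
  have hab : ∀ u : G, u ∉ center G → ∀ a ∈ cen u, ∀ b ∈ cen u, a * b = b * a :=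
    fun u hu => cen_comm h hq hr hqr hx hxo hy hyo hu
  have hsqf : ∀ p : ℕ, p.Prime → p ∣ n → ¬ p ^ 2 ∣ n := by
    intro p hp hpn
    obtain ⟨xp, hxp, kp, hxpo⟩ := exists_bad_of_dvd h hx hp hpn
    by_cases hpq : p = q
    · exact not_sq_dvd h hab hp hr (hpq ▸ hqr) hxp hxpo hy hyo
    · exact not_sq_dvd h hab hp hq hpq hxp hxpo hx hxo
  obtain ⟨g, hg⟩ : ∃ g : G, g ∉ cen x := by
    by_contra hcon
    push Not at hcon
    exact hx (cen_eq_top_iff.mp (eq_top_iff.mpr fun g _ => hcon g))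
  have hgZ : g ∉ center G := fun hgc => hg (center_le_cen x hgc)
  obtain ⟨d, hdg, hdZ, kd, hdo⟩ := exists_prime_elt_in_cen h hr hy hyo hgZ
  have hN1 := normalizer_cen_eq_top h hab hsqf hx
  have hN2 := normalizer_cen_eq_top h hab hsqf hgZ
  -- the commutator `c = x d x⁻¹ d⁻¹`
  have hc1 : x * d * x⁻¹ * d⁻¹ ∈ cen g := by
    have hxN : x ∈ normalizer (cen g : Set G) := by rw [hN2]; exact mem_top x
    exact (cen g).mul_mem ((mem_normalizer_iff.mp hxN d).mp hdg) ((cen g).inv_mem hdg)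
  have hc2 : x * d * x⁻¹ * d⁻¹ ∈ cen x := by
    have hdN : d ∈ normalizer (cen x : Set G) := by rw [hN1]; exact mem_top d
    have h1 : d * x⁻¹ * d⁻¹ ∈ cen x :=
      (mem_normalizer_iff.mp hdN x⁻¹).mp ((cen x).inv_mem (self_mem_cen x))
    have e : x * d * x⁻¹ * d⁻¹ = x * (d * x⁻¹ * d⁻¹) := by group
    rw [e]
    exact (cen x).mul_mem (self_mem_cen x) h1
  have hne : cen x ≠ cen g := fun e => hg (e ▸ self_mem_cen g)
  have hcZ : x * d * x⁻¹ * d⁻¹ ∈ center G := by
    by_contra hcZ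
    exact hne ((cen_eq_of_mem h hab hx hcZ hc2).symm.trans (cen_eq_of_mem h hab hgZ hcZ hc1))
  set c : G := x * d * x⁻¹ * d⁻¹ with hc
  have hconj : x * d * x⁻¹ = c * d := by rw [hc]; group
  have h1 : c ^ orderOf x = 1 := by
    have := pow_conj_central hcZ hconj (orderOf x)
    rw [pow_orderOf_eq_one] at this
    simp only [one_mul, inv_one, mul_one] at this
    exact (mul_eq_right.mp this.symm)
  have h2 : c ^ orderOf d = 1 := by
    have e1 : (x * d * x⁻¹) ^ orderOf d = 1 := by
      rw [conj_pow, pow_orderOf_eq_one]; group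
    have hcomm : Commute c d := (Subgroup.mem_center_iff.mp hcZ d).symm
    rw [hconj, hcomm.mul_pow, pow_orderOf_eq_one, mul_one] at e1
    exact e1
  have hco : Nat.Coprime (orderOf x) (orderOf d) := by
    rw [hxo, hdo]; exact Nat.Coprime.pow _ _ ((Nat.coprime_primes hq hr).mpr hqr)
  have hc1' : c = 1 := by
    have hd1 := orderOf_dvd_of_pow_eq_one h1
    have hd2 := orderOf_dvd_of_pow_eq_one h2
    exact orderOf_eq_one_iff.mp ((Nat.Coprime.coprime_dvd_left hd1 hco).eq_one_of_dvd hd2)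
  rw [hc1', one_mul] at hconj
  have hdx : d ∈ cen x := mem_cen.mpr (mul_inv_eq_iff_eq_mul.mp hconj).symm
  exact hne ((cen_eq_of_mem h hab hx hdZ hdx).symm.trans (cen_eq_of_mem h hab hgZ hdZ hdg))

/-- Claim I: there is a prime dividing the order of every noncentral element. -/
theorem exists_prime_dvd_orderOf [Finite G] {n : ℕ}
    (h : ∀ x : G, (cen x).index = 1 ∨ (cen x).index = n) {x₀ : G} (hx₀ : x₀ ∉ center G) :
    ∃ p : ℕ, p.Prime ∧ ∀ g : G, g ∉ center G → p ∣ orderOf g := by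
  obtain ⟨w, -, p, k, hp, hwo, hwZ⟩ :=
    Cfsg.Agent.S4085.exists_ppow_not_mem (center G) (orderOf x₀) x₀ le_rfl hx₀
  refine ⟨p, hp, ?_⟩
  intro g hg
  obtain ⟨w', hw'g, r, k', hr, hw'o, hw'Z⟩ :=
    Cfsg.Agent.S4085.exists_ppow_not_mem (center G) (orderOf g) g le_rfl hg
  have hrp : r = p := by
    by_contra hrp
    exact false_of_two_bad h hr hp hrp hw'Z hw'o hwZ hwo
  subst hrp
  have hk' : k' ≠ 0 := by
    rintro rfl
    rw [pow_zero, orderOf_eq_one_iff] at hw'o
    exact hw'Z (hw'o ▸ (center G).one_mem)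
  have h1 : r ∣ orderOf w' := by rw [hw'o]; exact dvd_pow_self r hk'
  exact h1.trans (orderOf_dvd_of_mem_zpowers hw'g)

end Cfsg.Agent.H72.Ito
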