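import Mathlib
import Cfsg.Agent.H72.ItoBasic
import Cfsg.Agent.H72.Casolo

set_option autoImplicit false

namespace Cfsg.Agent.H72.BHM

open Subgroup Cfsg.Agent.H72.Ito

variable {G : Type*} [Group G]

/-- a map with small fibers onto a small enough target is surjective -/
theorem surj_of_fibers {α β : Type*} [Finite α] [Finite β] (f : α → β) (c : ℕ) (hc0 : 0 < c)
    (hc : ∀ b, Nat.card {a // f a = b} ≤ c) (hcard : Nat.card β * c ≤ Nat.card α) :
    Function.Surjective f := by
  classical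
  by_contra hns
  obtain ⟨b₀, hb₀⟩ : ∃ b₀, ∀ a, f a ≠ b₀ := by
    unfold Function.Surjective at hns
    push Not at hns
    exact hns
  have := Fintype.ofFinite β
  have h1 : Nat.card α = ∑ b, Nat.card {a // f a = b} := by
    rw [← Nat.card_congr (Equiv.sigmaFiberEquiv f), Nat.card_sigma]
  have h2 : ∑ b, Nat.card {a // f a = b} ≤ ∑ b : β, (if b = b₀ then 0 else c) := by
    refine Finset.sum_le_sum fun b _ => ?_
    split_ifs with hb
    · subst hb
      have : IsEmpty {a // f a = b} := ⟨fun a => hb₀ a.1 a.2⟩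
      simp
    · exact hc b
  have h3 : ∑ b : β, (if b = b₀ then 0 else c) + c = Nat.card β * c := by
    have e : ∑ b : β, (if b = b₀ then 0 else c) + ∑ b : β, (if b = b₀ then c else 0)
        = ∑ _b : β, c := by
      rw [← Finset.sum_add_distrib]
      refine Finset.sum_congr rfl fun b _ => ?_
      split_ifs <;> simp
    rw [Finset.sum_ite_eq' Finset.univ b₀ (fun _ => c)] at e
    simp only [Finset.mem_univ, if_true, Finset.sum_const, Finset.card_univ, smul_eq_mul] at e
    rw [e, Nat.card_eq_fintype_card]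
  omega

/-- the size of a conjugacy class is the index of the centralizer -/
theorem card_conj [Finite G] (w : G) : Nat.card {v : G // IsConj w v} = (cen w).index := by
  let f : G → {v : G // IsConj w v} := fun g => ⟨g * w * g⁻¹, isConj_iff.mpr ⟨g, rfl⟩⟩
  have hf : ∀ b, Nat.card {a // f a = b} = Nat.card (cen w) := by
    intro b
    obtain ⟨g₀, hg₀⟩ := isConj_iff.mp b.2
    refine card_of_left_coset (cen w) {a | f a = b} g₀ ?_
    intro a
    show f a = b ↔ g₀⁻¹ * a ∈ cen w
    rw [mem_cen, Subtype.ext_iff]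
    show a * w * a⁻¹ = b.1 ↔ _
    rw [← hg₀]
    constructor
    · intro h
      calc g₀⁻¹ * a * w = g₀⁻¹ * (a * w * a⁻¹) * a := by group
        _ = g₀⁻¹ * (g₀ * w * g₀⁻¹) * a := by rw [h]
        _ = w * (g₀⁻¹ * a) := by group
    · intro h
      calc a * w * a⁻¹ = g₀ * (g₀⁻¹ * a * w) * a⁻¹ := by group
        _ = g₀ * (w * (g₀⁻¹ * a)) * a⁻¹ := by rw [h]
        _ = g₀ * w * g₀⁻¹ := by group
  have h1 := card_eq_mul_of_fibers f _ hf
  have h2 := (cen w).card_mul_index
  have hpos : 0 < Nat.card (cen w) := Nat.card_pos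
  rw [h1, mul_comm] at h2
  exact (Nat.eq_of_mul_eq_mul_right hpos h2).symm

theorem index_conj (w c : G) : (cen (c * w * c⁻¹)).index = (cen w).index := by
  have : cen (c * w * c⁻¹) = (cen w).comap (MulAut.conj c⁻¹).toMonoidHom := by
    ext g
    rw [mem_cen_conj, Subgroup.mem_comap]
    simp
  rw [this, Subgroup.index_comap_of_surjective _ (MulEquiv.surjective _)]

theorem index_of_isConj {w v : G} (h : IsConj w v) : (cen v).index = (cen w).index := by
  obtain ⟨c, rfl⟩ := isConj_iff.mp h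
  exact index_conj w c

theorem index_inf_of_coprime [Finite G] (H K : Subgroup G) (h : H.index.Coprime K.index) :
    (H ⊓ K).index = H.index * K.index := by
  have h1 : H.index ∣ (H ⊓ K).index := Subgroup.index_dvd_of_le inf_le_left
  have h2 : K.index ∣ (H ⊓ K).index := Subgroup.index_dvd_of_le inf_le_right
  have h3 : H.index * K.index ∣ (H ⊓ K).index := h.mul_dvd_of_dvd_of_dvd h1 h2
  have h4 := Subgroup.index_inf_le (H := H) (K := K)
  have h5 : (H ⊓ K).index ≠ 0 := Subgroup.index_ne_zero_of_finite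
  exact le_antisymm h4 (Nat.le_of_dvd (Nat.pos_of_ne_zero h5) h3)

/-- for elements with coprime class sizes, `G = C(w) C(a)` -/
theorem exists_cen_conj [Finite G] {a w : G} (hco : (cen a).index.Coprime (cen w).index) (r : G) :
    ∃ d ∈ cen w, r * a * r⁻¹ = d * a * d⁻¹ := by
  let f : cen w → {v : G // IsConj a v} :=
    fun d => ⟨(d : G) * a * (d : G)⁻¹, isConj_iff.mpr ⟨d, rfl⟩⟩
  have hsurj : Function.Surjective f := by
    refine surj_of_fibers f (Nat.card (cen a ⊓ cen w : Subgroup G)) Nat.card_pos ?_ ?_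
    · intro b
      by_cases hb : Nonempty {d // f d = b}
      · obtain ⟨⟨d₀, hd₀⟩⟩ := hb
        have key : ∀ d : {d // f d = b}, (d₀ : G)⁻¹ * (d.1 : G) ∈ cen a ⊓ cen w := by
          intro d
          refine Subgroup.mem_inf.mpr ⟨?_, (cen w).mul_mem ((cen w).inv_mem d₀.2) d.1.2⟩
          have h := Subtype.ext_iff.mp (d.2.trans hd₀.symm)
          have h' : (d.1 : G) * a * (d.1 : G)⁻¹ = (d₀ : G) * a * (d₀ : G)⁻¹ := h
          rw [mem_cen]
          calc (d₀ : G)⁻¹ * (d.1 : G) * a
              = (d₀ : G)⁻¹ * ((d.1 : G) * a * (d.1 : G)⁻¹) * (d.1 : G) := by group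
            _ = (d₀ : G)⁻¹ * ((d₀ : G) * a * (d₀ : G)⁻¹) * (d.1 : G) := by rw [h']
            _ = a * ((d₀ : G)⁻¹ * (d.1 : G)) := by group
        refine Nat.card_le_card_of_injective
          (fun d => (⟨(d₀ : G)⁻¹ * (d.1 : G), key d⟩ : (cen a ⊓ cen w : Subgroup G))) ?_
        intro d₁ d₂ h
        have h' : (d₀ : G)⁻¹ * (d₁.1 : G) = (d₀ : G)⁻¹ * (d₂.1 : G) := Subtype.ext_iff.mp h
        exact Subtype.ext (Subtype.ext (mul_left_cancel h'))
      · rw [not_nonempty_iff] at hb
        simp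
    · rw [card_conj]
      have h1 := index_inf_of_coprime _ _ hco
      have h2 := (cen a ⊓ cen w).card_mul_index
      have h3 := (cen w).card_mul_index
      rw [h1, ← h3, ← mul_assoc] at h2
      have hpos : 0 < (cen w).index := Nat.pos_of_ne_zero Subgroup.index_ne_zero_of_finite
      have := Nat.eq_of_mul_eq_mul_right hpos h2
      rw [← this, mul_comm]
  obtain ⟨d, hd⟩ := hsurj ⟨r * a * r⁻¹, isConj_iff.mpr ⟨r, rfl⟩⟩
  exact ⟨d, d.2, (Subtype.ext_iff.mp hd).symm⟩

/-- the product of two classes of coprime sizes is a single class -/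
theorem isConj_mul [Finite G] {a w a' w' : G} (hco : (cen a).index.Coprime (cen w).index)
    (ha : IsConj a a') (hw : IsConj w w') : IsConj (a * w) (a' * w') := by
  obtain ⟨g, rfl⟩ := isConj_iff.mp ha
  obtain ⟨h, rfl⟩ := isConj_iff.mp hw
  obtain ⟨d, hd, hda⟩ := exists_cen_conj hco (h⁻¹ * g)
  rw [mem_cen] at hd
  refine isConj_iff.mpr ⟨h * d, ?_⟩
  have hdw : d * w * d⁻¹ = w := by rw [hd]; group
  calc h * d * (a * w) * (h * d)⁻¹ = h * (d * a * d⁻¹) * (d * w * d⁻¹) * h⁻¹ := by group
    _ = h * (h⁻¹ * g * a * (h⁻¹ * g)⁻¹) * w * h⁻¹ := by rw [← hda, hdw]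
    _ = g * a * g⁻¹ * (h * w * h⁻¹) := by group

theorem isConj_mul_div [Finite G] {v b b' : G} (hco : (cen v).index.Coprime (cen b).index)
    (hbb' : IsConj b b') (hle : (cen (v * b)).index ≤ (cen v).index) :
    IsConj v (v * b * b'⁻¹) := by
  let f : {w' : G // IsConj v w'} → {u : G // IsConj (v * b) u} :=
    fun w' => ⟨w'.1 * b', isConj_mul hco w'.2 hbb'⟩
  have hinj : Function.Injective f := by
    intro w₁ w₂ h
    have h' : w₁.1 * b' = w₂.1 * b' := Subtype.ext_iff.mp h
    exact Subtype.ext (mul_right_cancel h')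
  have hsurj : Function.Surjective f :=
    (hinj.bijective_of_nat_card_le (by rw [card_conj, card_conj]; exact hle)).2
  obtain ⟨w', hw'⟩ := hsurj ⟨v * b, IsConj.refl _⟩
  have h1 : w'.1 * b' = v * b := Subtype.ext_iff.mp hw'
  have h2 : w'.1 = v * b * b'⁻¹ := by rw [← h1]; group
  rw [← h2]
  exact w'.2

/-- the (right) stabilizer of a conjugation-invariant family of classes -/
def stabP (P : G → Prop) (hP : ∀ v c, P v → P (c * v * c⁻¹)) : Subgroup G where
  carrier := {t | ∀ v, P v → IsConj v (v * t) ∧ IsConj v (v * t⁻¹)}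
  one_mem' := fun v _ => by
    rw [inv_one, mul_one]
    exact ⟨IsConj.refl v, IsConj.refl v⟩
  mul_mem' := by
    intro t₁ t₂ h₁ h₂ v hv
    have hP' : ∀ v w, P v → IsConj v w → P w := by
      intro v w hv hvw
      obtain ⟨c, rfl⟩ := isConj_iff.mp hvw
      exact hP v c hv
    constructor
    · have h := (h₁ v hv).1
      have h3 := (h₂ _ (hP' _ _ hv h)).1
      rw [← mul_assoc]
      exact h.trans h3
    · have h := (h₂ v hv).2
      have h3 := (h₁ _ (hP' _ _ hv h)).2
      rw [mul_inv_rev, ← mul_assoc]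
      exact h.trans h3
  inv_mem' := by
    intro t h v hv
    rw [inv_inv]
    exact ⟨(h v hv).2, (h v hv).1⟩

theorem mem_stabP {P : G → Prop} {hP : ∀ v c, P v → P (c * v * c⁻¹)} {t : G} :
    t ∈ stabP P hP ↔ ∀ v, P v → IsConj v (v * t) ∧ IsConj v (v * t⁻¹) := Iff.rfl

instance stabP_normal (P : G → Prop) (hP : ∀ v c, P v → P (c * v * c⁻¹)) :
    (stabP P hP).Normal := by
  constructor
  intro t ht g v hv
  have hv' : P (g⁻¹ * v * g) := by
    have := hP v g⁻¹ hv
    rwa [inv_inv] at this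
  have key : ∀ s : G, IsConj (g⁻¹ * v * g) (g⁻¹ * v * g * s) → IsConj v (v * (g * s * g⁻¹)) := by
    intro s hs
    have h1 : IsConj v (g⁻¹ * v * g) := isConj_iff.mpr ⟨g⁻¹, by simp⟩
    have h2 : IsConj (g⁻¹ * v * g * s) (v * (g * s * g⁻¹)) := isConj_iff.mpr ⟨g, by group⟩
    exact (h1.trans hs).trans h2
  refine ⟨key t (ht _ hv').1, ?_⟩
  have e : (g * t * g⁻¹)⁻¹ = g * t⁻¹ * g⁻¹ := by group
  rw [e]
  exact key t⁻¹ (ht _ hv').2

theorem card_stabP_dvd [Finite G] (P : G → Prop) (hP : ∀ v c, P v → P (c * v * c⁻¹)) {w : G}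
    (hw : P w) : Nat.card (stabP P hP) ∣ (cen w).index := by
  rw [← card_conj]
  have hP' : ∀ v, IsConj w v → P v := by
    intro v hvw
    obtain ⟨c, rfl⟩ := isConj_iff.mp hvw
    exact hP w c hw
  let g : {v : G // IsConj w v} → G ⧸ stabP P hP := fun v => (v.1 : G ⧸ stabP P hP)
  let f : {v : G // IsConj w v} → Set.range g := Set.rangeFactorization g
  have hf : ∀ b, Nat.card {a // f a = b} = Nat.card (stabP P hP) := by
    rintro ⟨b, v₀, rfl⟩
    have hmem : ∀ a : {v : G // IsConj w v}, f a = ⟨g v₀, v₀, rfl⟩ ↔ v₀.1⁻¹ * a.1 ∈ stabP P hP := by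
      intro a
      rw [Subtype.ext_iff]
      show (a.1 : G ⧸ stabP P hP) = (v₀.1 : G ⧸ stabP P hP) ↔ _
      rw [eq_comm, QuotientGroup.eq]
    refine Nat.card_congr
      { toFun := fun a => ⟨v₀.1⁻¹ * a.1.1, (hmem a.1).mp a.2⟩
        invFun := fun t => ⟨⟨v₀.1 * t.1, v₀.2.trans (t.2 v₀.1 (hP' _ v₀.2)).1⟩,
          (hmem _).mpr (by simp)⟩
        left_inv := fun a => by simp
        right_inv := fun t => by simp }
  exact ⟨_, (card_eq_mul_of_fibers f _ hf).trans (mul_comm _ _)⟩

/-- differences of conjugates of `b` stabilize the classes in `P` -/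
theorem diff_mem_stabP [Finite G] (P : G → Prop) (hP : ∀ v c, P v → P (c * v * c⁻¹)) (b : G)
    (h1 : ∀ w, P w → (cen w).index.Coprime (cen b).index)
    (h2 : ∀ w, P w → (cen (w * b)).index ≤ (cen w).index) (c : G) :
    (c * b * c⁻¹) * b⁻¹ ∈ stabP P hP := by
  intro v hv
  have hbc : IsConj b (c * b * c⁻¹) := isConj_iff.mpr ⟨c, rfl⟩
  constructor
  · have hco : (cen v).index.Coprime (cen (c * b * c⁻¹)).index := by
      rw [index_conj]
      exact h1 v hv
    have hle : (cen (v * (c * b * c⁻¹))).index ≤ (cen v).index := by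
      have hv' : P (c⁻¹ * v * c) := by
        have := hP v c⁻¹ hv
        rwa [inv_inv] at this
      have e : v * (c * b * c⁻¹) = c * ((c⁻¹ * v * c) * b) * c⁻¹ := by group
      have e2 : v = c * (c⁻¹ * v * c) * c⁻¹ := by group
      rw [e, index_conj]
      conv_rhs => rw [e2, index_conj]
      exact h2 _ hv'
    have := isConj_mul_div hco hbc.symm hle
    rwa [mul_assoc] at this
  · have e : (c * b * c⁻¹ * b⁻¹)⁻¹ = b * (c * b * c⁻¹)⁻¹ := by group
    rw [e, ← mul_assoc]
    exact isConj_mul_div (h1 v hv) hbc (h2 v hv)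

theorem relIndex_dvd_index_of_normal_right [Finite G] (C N : Subgroup G) [N.Normal] :
    C.relIndex N ∣ C.index := by
  have key : C.relIndex (C ⊔ N) = C.relIndex N := by
    have h1 : Nat.card N * N.relIndex (C ⊔ N) = Nat.card (C ⊔ N : Subgroup G) := by
      rw [← Subgroup.relIndex_bot_left, Subgroup.relIndex_mul_relIndex _ _ _ bot_le le_sup_right,
        Subgroup.relIndex_bot_left]
    have h2 : Nat.card C * C.relIndex (C ⊔ N) = Nat.card (C ⊔ N : Subgroup G) := by
      rw [← Subgroup.relIndex_bot_left, Subgroup.relIndex_mul_relIndex _ _ _ bot_le le_sup_left,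
        Subgroup.relIndex_bot_left]
    have h3 : Nat.card (C ⊓ N : Subgroup G) * N.relIndex C = Nat.card C := by
      rw [← Subgroup.inf_relIndex_left C N, ← Subgroup.relIndex_bot_left,
        Subgroup.relIndex_mul_relIndex _ _ _ bot_le inf_le_left, Subgroup.relIndex_bot_left]
    have h4 : Nat.card (C ⊓ N : Subgroup G) * C.relIndex N = Nat.card N := by
      rw [← Subgroup.inf_relIndex_right C N, ← Subgroup.relIndex_bot_left,
        Subgroup.relIndex_mul_relIndex _ _ _ bot_le inf_le_right, Subgroup.relIndex_bot_left]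
    rw [Subgroup.relIndex_sup_right] at h1
    have hpos : 0 < Nat.card C := Nat.card_pos
    apply Nat.eq_of_mul_eq_mul_left hpos
    rw [h2, ← h1, ← h4, ← h3]
    ring
  rw [← key]
  exact Subgroup.relIndex_dvd_index_of_le le_sup_left

theorem cen_of_diff [Finite G] (N : Subgroup G) [N.Normal] (b : G)
    (hdiff : ∀ c, (c * b * c⁻¹) * b⁻¹ ∈ N) (hco : (Nat.card N).Coprime (cen b).index) :
    N ≤ cen b ∧ b ^ (Nat.card N) ∈ center G := by
  have h1 : (cen b).relIndex N ∣ Nat.card N := Subgroup.relIndex_dvd_card _ _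
  have h2 : (cen b).relIndex N ∣ (cen b).index := relIndex_dvd_index_of_normal_right _ _
  have h3 : (cen b).relIndex N = 1 := Nat.eq_one_of_dvd_coprimes hco h1 h2
  have hle : N ≤ cen b := Subgroup.relIndex_eq_one.mp h3
  refine ⟨hle, ?_⟩
  rw [Subgroup.mem_center_iff]
  intro g
  have htN : (g * b * g⁻¹) * b⁻¹ ∈ N := hdiff g
  have htb : Commute ((g * b * g⁻¹) * b⁻¹) b := mem_cen.mp (hle htN)
  have hpow : ((g * b * g⁻¹) * b⁻¹) ^ Nat.card N = 1 := by
    have := pow_card_eq_one' (G := N) (x := ⟨_, htN⟩)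
    exact congrArg Subtype.val this
  have e1 : g * b * g⁻¹ = (g * b * g⁻¹) * b⁻¹ * b := by group
  have e2 : g * b ^ Nat.card N * g⁻¹ = b ^ Nat.card N := by
    rw [← conj_pow, e1, htb.mul_pow, hpow, one_mul]
  calc g * b ^ Nat.card N = (g * b ^ Nat.card N * g⁻¹) * g := by group
    _ = b ^ Nat.card N * g := by rw [e2]

theorem mem_of_pow_mem_coprime (K : Subgroup G) (g : G) (e f : ℕ) (he : g ^ e ∈ K)
    (hf : g ^ f ∈ K) (hco : e.Coprime f) : g ∈ K := by
  have h := Nat.gcd_eq_gcd_ab e f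
  rw [hco] at h
  have : g = (g ^ e) ^ (Nat.gcdA e f) * (g ^ f) ^ (Nat.gcdB e f) := by
    rw [← zpow_natCast, ← zpow_natCast, ← zpow_mul, ← zpow_mul, ← zpow_add, ← h]
    simp
  rw [this]
  exact K.mul_mem (K.zpow_mem he _) (K.zpow_mem hf _)

theorem eq_one_of_pow_coprime (g : G) (e f : ℕ) (he : g ^ e = 1) (hf : g ^ f = 1)
    (hco : e.Coprime f) : g = 1 := by
  have := mem_of_pow_mem_coprime ⊥ g e f (by rw [he]; exact Subgroup.one_mem _)
    (by rw [hf]; exact Subgroup.one_mem _) hco
  exact Subgroup.mem_bot.mp this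

/-- commuting elements with coprime orders modulo the centre -/
theorem cen_mul_le_of_pow {w x : G} (hwx : w * x = x * w) (e f : ℕ) (hx : x ^ e ∈ center G)
    (hw : w ^ f ∈ center G) (hco : e.Coprime f) : cen (w * x) ≤ cen w ⊓ cen x := by
  intro g hg
  rw [mem_cen] at hg
  have h1 : Commute g (w * x) := hg
  have h2 : Commute g ((w * x) ^ e) := h1.pow_right e
  rw [(show Commute w x from hwx).mul_pow] at h2
  have h3 : Commute g (x ^ e) := Subgroup.mem_center_iff.mp hx g
  have h4 : Commute g (w ^ e) := by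
    have := h2.mul_right h3.inv_right
    simpa using this
  have h5 : Commute g (w ^ f) := Subgroup.mem_center_iff.mp hw g
  have h6 : w ∈ cen g := mem_of_pow_mem_coprime (cen g) w e f (mem_cen.mpr h4.eq.symm)
    (mem_cen.mpr h5.eq.symm) hco
  have h7 : Commute g w := (mem_cen.mp h6).symm
  have h8 : Commute g x := by
    have := h7.inv_right.mul_right h1
    simpa using this
  exact Subgroup.mem_inf.mpr ⟨mem_cen.mpr h7.eq, mem_cen.mpr h8.eq⟩

/-- a central commutator of elements with coprime orders modulo the centre is trivial -/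
theorem central_comm_trivial {k u z : G} (hz : z ∈ center G) (h : k * u * k⁻¹ = z * u) (e f : ℕ)
    (hk : k ^ e ∈ center G) (hu : u ^ f ∈ center G) (hco : e.Coprime f) : z = 1 := by
  have h1 := pow_conj_central hz h e
  have h2 : k ^ e * u * (k ^ e)⁻¹ = u := by
    have := Subgroup.mem_center_iff.mp hk u
    rw [← this]
    group
  have h3 : z ^ e = 1 := by
    rw [h2] at h1
    exact mul_eq_right.mp h1.symm
  have h4 : z ^ f = 1 := by
    have e1 : k * u ^ f * k⁻¹ = (z * u) ^ f := by rw [← h, conj_pow]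
    have hzu : Commute z u := (Subgroup.mem_center_iff.mp hz u).symm
    have e3 : k * u ^ f * k⁻¹ = u ^ f := by
      have := Subgroup.mem_center_iff.mp hu k
      rw [this]
      group
    rw [e3, hzu.mul_pow] at e1
    exact mul_eq_right.mp e1.symm
  exact eq_one_of_pow_coprime z e f h3 h4 hco

end Cfsg.Agent.H72.BHM
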