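import Mathlib
import Cfsg.Agent.H72.ClassSize
import Cfsg.Agent.H72.ItoBasic
import Cfsg.Agent.H72.BHM1
import Cfsg.Agent.S4085

set_option autoImplicit false

namespace Cfsg.Agent.H72.Four

open Subgroup Cfsg.Agent.H72 Cfsg.Agent.H72.Ito Cfsg.Agent.H72.BHM

variable {G : Type*} [Group G]

/-- `p`-elements -/
abbrev PE (p : ℕ) (x : G) : Prop := ∃ k : ℕ, orderOf x = p ^ k

/-- class sizes are among `1, n, m, n * m` -/
def CS (G : Type*) [Group G] (n m : ℕ) : Prop :=
  ∀ x : G, (cen x).index = 1 ∨ (cen x).index = n ∨ (cen x).index = m ∨ (cen x).index = n * m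

theorem CS.symm {n m : ℕ} (h : CS G n m) : CS G m n := by
  intro x
  rcases h x with h1 | h1 | h1 | h1
  · exact Or.inl h1
  · exact Or.inr (Or.inr (Or.inl h1))
  · exact Or.inr (Or.inl h1)
  · exact Or.inr (Or.inr (Or.inr (by rw [h1, mul_comm])))

theorem four_cases {n m k : ℕ} (hn : 1 < n) (hm : 1 < m) (hco : n.Coprime m)
    (hk : k = 1 ∨ k = n ∨ k = m ∨ k = n * m) :
    (k ∣ n → k = 1 ∨ k = n) ∧ (n ∣ k → k = n ∨ k = n * m) ∧
    (k ∣ m → k = 1 ∨ k = m) ∧ (m ∣ k → k = m ∨ k = n * m) := by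
  have h1 : ¬ n ∣ m := fun hd => by
    have := Nat.Coprime.eq_one_of_dvd hco hd
    omega
  have h2 : ¬ m ∣ n := fun hd => by
    have := Nat.Coprime.eq_one_of_dvd hco.symm hd
    omega
  have h3 : ¬ n * m ∣ n := fun hd => by
    have := Nat.le_of_dvd (by omega) hd
    nlinarith
  have h4 : ¬ n * m ∣ m := fun hd => by
    have := Nat.le_of_dvd (by omega) hd
    nlinarith
  have h5 : ¬ n ∣ 1 := fun hd => by
    have := Nat.le_of_dvd (by omega) hd
    omega
  have h6 : ¬ m ∣ 1 := fun hd => by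
    have := Nat.le_of_dvd (by omega) hd
    omega
  rcases hk with rfl | rfl | rfl | rfl
  · exact ⟨fun _ => Or.inl rfl, fun hd => absurd hd h5, fun _ => Or.inl rfl,
      fun hd => absurd hd h6⟩
  · exact ⟨fun _ => Or.inr rfl, fun _ => Or.inl rfl, fun hd => absurd hd h1,
      fun hd => absurd hd h2⟩
  · exact ⟨fun hd => absurd hd h2, fun hd => absurd hd h1, fun _ => Or.inr rfl,
      fun _ => Or.inl rfl⟩
  · exact ⟨fun hd => absurd hd h3, fun _ => Or.inr rfl, fun hd => absurd hd h4,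
      fun _ => Or.inr rfl⟩

theorem cen_mul_eq [Finite G] {a b : G} (hab : Commute a b)
    (hco : (orderOf a).Coprime (orderOf b)) : cen (a * b) = cen a ⊓ cen b := by
  refine le_antisymm (le_inf (cen_mul_le_left hab hco) (cen_mul_le_right hab hco)) ?_
  intro g hg
  rw [mem_inf, mem_cen, mem_cen] at hg
  rw [mem_cen]
  obtain ⟨h1, h2⟩ := hg
  rw [← mul_assoc, h1, mul_assoc, h2, mul_assoc]

theorem eq_of_le_of_index_eq' [Finite G] (A B : Subgroup G) (hle : A ≤ B)
    (hidx : A.index = B.index) : A = B := by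
  have h1 := Subgroup.relIndex_mul_index hle
  rw [hidx] at h1
  have h2 : A.relIndex B = 1 := by
    have hpos : 0 < B.index := Nat.pos_of_ne_zero Subgroup.index_ne_zero_of_finite
    exact Nat.eq_of_mul_eq_mul_right hpos (by rw [h1, one_mul])
  exact le_antisymm hle (Subgroup.relIndex_eq_one.mp h2)

/-- in the centralizer of an element of maximal class size, elements of coprime order
are central -/
theorem cen_le_of_max [Finite G] {n m : ℕ} (hn : 1 < n) (hm : 1 < m) (hco : n.Coprime m)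
    (h : CS G n m) {x y : G} (hx : (cen x).index = n * m) (hy : y ∈ cen x)
    (hco' : (orderOf x).Coprime (orderOf y)) : cen x ≤ cen y := by
  have hxy : Commute x y := (mem_cen.mp hy).symm
  have h1 : cen (x * y) ≤ cen x := cen_mul_le_left hxy hco'
  have h2 : (cen x).index ∣ (cen (x * y)).index := Subgroup.index_dvd_of_le h1
  rw [hx] at h2
  have h3 : (cen (x * y)).index = n * m := by
    have hn' : n ∣ (cen (x * y)).index := (Dvd.intro _ rfl).trans h2
    have hm' : m ∣ (cen (x * y)).index := (Dvd.intro_left _ rfl).trans h2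
    have hc := four_cases hn hm hco (h (x * y))
    rcases hc.2.1 hn' with h4 | h4
    · rcases hc.2.2.2 hm' with h5 | h5
      · exfalso
        rw [h4] at h5
        have := Nat.Coprime.eq_one_of_dvd hco (h5 ▸ dvd_refl n)
        omega
      · exact h5
    · exact h4
  have h4 : cen (x * y) = cen x := eq_of_le_of_index_eq' _ _ h1 (h3.trans hx.symm)
  rw [← h4]
  exact cen_mul_le_right hxy hco'

theorem index_cen_subtype (H : Subgroup G) (y : H) :
    (cen y).index = (cen (y : G)).relIndex H := by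
  unfold Subgroup.relIndex
  congr 1
  ext z
  simp only [mem_subgroupOf, mem_cen, Subtype.ext_iff, Subgroup.coe_mul]

theorem relIndex_mul_index_inf (H K : Subgroup G) : K.relIndex H * H.index = (H ⊓ K).index := by
  rw [← Subgroup.inf_relIndex_left H K]
  exact Subgroup.relIndex_mul_index inf_le_left

/-- a `p`-element of `H` is `H`-conjugate into a subgroup of relative index prime to `p` -/
theorem exists_conj_mem_of_not_dvd_relIndex [Finite G] {p : ℕ} [Fact p.Prime] (H C : Subgroup G)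
    (hC : ¬ p ∣ C.relIndex H) {b : G} (hb : b ∈ H) (hbo : PE p b) :
    ∃ h ∈ H, h * b * h⁻¹ ∈ C := by
  obtain ⟨k, hk⟩ := hbo
  obtain ⟨Q, hQ⟩ := exists_sylow_le_of_not_dvd_index p (C.subgroupOf H) hC
  obtain ⟨c, -, hc⟩ := exists_conj_mem_sylow_of_le Q ⊤ le_top (⟨b, hb⟩ : H) (mem_top _) k
    (by rw [← Subgroup.orderOf_coe]; exact hk)
  exact ⟨c, c.2, mem_subgroupOf.mp (hQ hc)⟩

theorem exists_conj_mem_of_not_dvd_index [Finite G] {p : ℕ} [Fact p.Prime] (C : Subgroup G)
    (hC : ¬ p ∣ C.index) {b : G} (hbo : PE p b) : ∃ h : G, h * b * h⁻¹ ∈ C := by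
  obtain ⟨h, -, hh⟩ := exists_conj_mem_of_not_dvd_relIndex ⊤ C
    (by rw [Subgroup.relIndex_top_right]; exact hC) (mem_top b) hbo
  exact ⟨h, hh⟩

theorem mem_of_normal_sylow [Finite G] {p : ℕ} [Fact p.Prime] (P : Sylow p G)
    (hP : (P : Subgroup G).Normal) {x : G} (hx : PE p x) : x ∈ P := by
  obtain ⟨k, hk⟩ := hx
  obtain ⟨c, -, hc⟩ := exists_conj_mem_sylow_of_le P ⊤ le_top x (mem_top _) k hk
  have := hP.conj_mem _ hc c⁻¹
  have e : c⁻¹ * (c * x * c⁻¹) * c⁻¹⁻¹ = x := by group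
  rwa [e] at this

theorem sylow_normal_of_one [Finite G] {p : ℕ} [Fact p.Prime] (P₀ : Sylow p G)
    (hP : (P₀ : Subgroup G).Normal) (P : Sylow p G) : (P : Subgroup G).Normal := by
  obtain ⟨g, rfl⟩ := MulAction.exists_smul_eq G P₀ P
  rw [Sylow.smul_eq_of_normal]
  exact hP

theorem PE.coprime {p q : ℕ} (hp : p.Prime) (hq : q.Prime) (hpq : p ≠ q) {x : G}
    (hx : PE p x) : (orderOf x).Coprime q := by
  obtain ⟨k, hk⟩ := hx
  rw [hk]
  exact Nat.Coprime.pow_left _ ((Nat.coprime_primes hp hq).mpr hpq)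

theorem PE.conj {p : ℕ} {x : G} (hx : PE p x) (c : G) : PE p (c * x * c⁻¹) := by
  obtain ⟨k, hk⟩ := hx
  refine ⟨k, ?_⟩
  have h1 := (MulAut.conj c).orderOf_eq x
  rw [MulAut.conj_apply] at h1
  rw [h1]; exact hk

theorem PE.eq_one_of_coprime {p : ℕ} (hp : p.Prime) {x : G} (hx : PE p x)
    (hco : (orderOf x).Coprime p) : x = 1 := by
  obtain ⟨k, hk⟩ := hx
  rw [hk] at hco
  rcases Nat.eq_zero_or_pos k with hk0 | hk0
  · rw [hk0, pow_zero] at hk
    exact orderOf_eq_one_iff.mp hk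
  · exfalso
    have h1 : p ∣ p ^ k := dvd_pow_self p hk0.ne'
    have := Nat.Coprime.eq_one_of_dvd (Nat.Coprime.coprime_dvd_left h1 hco) (dvd_refl p)
    exact hp.one_lt.ne' this

end Cfsg.Agent.H72.Four
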