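import Cfsg.Agent.H72.C2PermRel

/-!
# S2070 (Out(Co2) = 1) piece C2-NOINV: `x z^3 t` has order dividing 11 but `x^m z^3 t` has not for
`1 < m < 22`; `x t x t x z^2` has order dividing 9 but `x⁻¹ t x⁻¹ t x⁻¹ z^2` has not
(port of `H24/C3NoInv.lean`)
-/

set_option autoImplicit false

namespace Cfsg.Agent.H72.C2

open Cfsg Cfsg.Agent.H9 Cfsg.Agent.H33 Cfsg.Agent.H33.C3 Cfsg.Agent.H33.C2

/-- the code function of `pX2 ^ m * pZ2 ^ 3 * pT2` -/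
def fXmZ3T (m j : ℕ) : ℕ := itN2 (g16 cX2) m (g16 cZ2 (g16 cZ2 (g16 cZ2 (g16 cT2 j))))

/-- the code function of `pX2 * pT2 * pX2 * pT2 * pX2 * pZ2 ^ 2` -/
def fW9 (j : ℕ) : ℕ :=
  g16 cX2 (g16 cT2 (g16 cX2 (g16 cT2 (g16 cX2 (g16 cZ2 (g16 cZ2 j))))))

/-- the code function of `pX2⁻¹ * pT2 * pX2⁻¹ * pT2 * pX2⁻¹ * pZ2 ^ 2` -/
def fW9i (j : ℕ) : ℕ :=
  g16 cXi2 (g16 cT2 (g16 cXi2 (g16 cT2 (g16 cXi2 (g16 cZ2 (g16 cZ2 j))))))

theorem pZ2_cube : pZ2 ^ 3 = pZ2 * pZ2 * pZ2 := by rw [pow_succ, pow_two]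

theorem xmz3t_val (m : ℕ) (j : Fin 4600) :
    ((pX2 ^ m * pZ2 ^ 3 * pT2) j).val = fXmZ3T m j.val := by
  rw [pZ2_cube, Equiv.Perm.mul_apply, Equiv.Perm.mul_apply, pow_val2 pX2 (g16 cX2) pX2_val]
  rfl

theorem xz3t_val (j : Fin 4600) : ((pX2 * pZ2 ^ 3 * pT2) j).val = fXmZ3T 1 j.val := by
  rw [pZ2_cube]
  rfl

theorem w9_val (j : Fin 4600) :
    ((pX2 * pT2 * pX2 * pT2 * pX2 * pZ2 ^ 2) j).val = fW9 j.val := by
  rw [pow_two]
  rfl

theorem w9i_val (j : Fin 4600) :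
    ((pX2⁻¹ * pT2 * pX2⁻¹ * pT2 * pX2⁻¹ * pZ2 ^ 2) j).val = fW9i j.val := by
  rw [pow_two]
  rfl

theorem chk2_xz3t : allB (fun j => Nat.beq (itN2 (fXmZ3T 1) 11 j) j) 4600 = true := by
  decide +kernel

theorem chk2_xmz3t :
    allB (fun m => Nat.ble m 1 ||
      !(allB (fun j => Nat.beq (itN2 (fXmZ3T m) 11 j) j) 4600)) 22 = true := by
  decide +kernel

theorem chk2_w9 : allB (fun j => Nat.beq (itN2 fW9 9 j) j) 4600 = true := by decide +kernel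
theorem chk2_w9i : allB (fun j => Nat.beq (itN2 fW9i 9 j) j) 4600 = false := by decide +kernel

/-- a permutation whose code function `f` satisfies `f^n = id` on `0, …, 4599` has `g^n = 1` -/
theorem pow_eq_one_of_chk (g : Equiv.Perm (Fin 4600)) (f : ℕ → ℕ)
    (h : ∀ j : Fin 4600, (g j).val = f j.val) (n : ℕ)
    (hc : allB (fun j => Nat.beq (itN2 f n j) j) 4600 = true) : g ^ n = 1 := by
  apply Equiv.ext
  intro j
  apply Fin.ext
  rw [pow_val2 g f h]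
  exact (allB_beq2 _ _ _).mp hc j.val j.isLt

/-- conversely -/
theorem chk_of_pow_eq_one (g : Equiv.Perm (Fin 4600)) (f : ℕ → ℕ)
    (h : ∀ j : Fin 4600, (g j).val = f j.val) (n : ℕ) (e : g ^ n = 1) :
    allB (fun j => Nat.beq (itN2 f n j) j) 4600 = true := by
  rw [allB_beq2]
  intro p hp
  have h1 := pow_val2 g f h n ⟨p, hp⟩
  rw [e] at h1
  exact h1.symm

/-- C2-NOINV. -/
theorem noInv2 : StNoInv2 := by
  refine ⟨pow_eq_one_of_chk _ _ xz3t_val 11 chk2_xz3t, ?_,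
    pow_eq_one_of_chk _ _ w9_val 9 chk2_w9, ?_⟩
  · intro m hm1 hm22 e
    have h := chk_of_pow_eq_one _ _ (xmz3t_val m) 11 e
    have h2 := (allB_iff _ _).mp chk2_xmz3t m hm22
    simp only [Bool.or_eq_true, Nat.ble_eq, Bool.not_eq_true'] at h2
    rcases h2 with h2 | h2
    · omega
    · rw [h] at h2
      exact Bool.noConfusion h2
  · intro e
    have h := chk_of_pow_eq_one _ _ w9i_val 9 e
    rw [chk2_w9i] at h
    exact Bool.false_ne_true h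

end Cfsg.Agent.H72.C2

example : Cfsg.Agent.H33.C2.StNoInv2 := Cfsg.Agent.H72.C2.noInv2
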