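import Cfsg.Agent.H33.C2.Defs

/-!
# S2070 (Out(Co2) = 1) piece C2-PERMREL: relations between the three coded permutations of the
4600 table vectors (port of `H24/C3PermRel.lean`)
-/

set_option autoImplicit false

namespace Cfsg.Agent.H72.C2

open Cfsg Cfsg.Agent.H9 Cfsg.Agent.H33 Cfsg.Agent.H33.C3 Cfsg.Agent.H33.C2

/-- iterate on naturals (kernel-friendly) -/
def itN2 (f : ℕ → ℕ) : ℕ → ℕ → ℕ
  | 0, j => j
  | n + 1, j => f (itN2 f n j)

theorem pow_val2 (g : Equiv.Perm (Fin 4600)) (f : ℕ → ℕ)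
    (h : ∀ j : Fin 4600, (g j).val = f j.val) :
    ∀ (n : ℕ) (j : Fin 4600), ((g ^ n) j).val = itN2 f n j.val := by
  intro n
  induction n with
  | zero => intro j; rfl
  | succ n ih =>
    intro j
    rw [pow_succ', Equiv.Perm.mul_apply, h, ih]
    rfl

theorem allB_beq2 (f g : ℕ → ℕ) (n : ℕ) :
    allB (fun p => Nat.beq (f p) (g p)) n = true ↔ ∀ p < n, f p = g p := by
  rw [allB_iff]
  constructor
  · intro h j hj
    exact Nat.eq_of_beq_eq_true (h j hj)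
  · intro h j hj
    rw [h j hj]
    exact Nat.beq_refl _

theorem pX2_val (j : Fin 4600) : (pX2 j).val = g16 cX2 j.val := rfl
theorem pZ2_val (j : Fin 4600) : (pZ2 j).val = g16 cZ2 j.val := rfl
theorem pT2_val (j : Fin 4600) : (pT2 j).val = g16 cT2 j.val := rfl
theorem pXi2_val (j : Fin 4600) : (pX2⁻¹ j).val = g16 cXi2 j.val := rfl
theorem pZi2_val (j : Fin 4600) : (pZ2⁻¹ j).val = g16 cZi2 j.val := rfl

theorem chk2_x23 : allB (fun j => Nat.beq (itN2 (g16 cX2) 23 j) j) 4600 = true := by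
  decide +kernel
theorem chk2_z11 : allB (fun j => Nat.beq (itN2 (g16 cZ2) 11 j) j) 4600 = true := by
  decide +kernel
theorem chk2_t2 : allB (fun j => Nat.beq (g16 cT2 (g16 cT2 j)) j) 4600 = true := by
  decide +kernel
theorem chk2_zx :
    allB (fun j => Nat.beq (g16 cZ2 (g16 cX2 j)) (itN2 (g16 cX2) 12 (g16 cZ2 j))) 4600
    = true := by decide +kernel
theorem chk2_tz : allB (fun j => Nat.beq (g16 cT2 (g16 cZ2 j)) (g16 cZi2 (g16 cT2 j))) 4600
    = true := by decide +kernel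
theorem chk2_zfix :
    allB (fun j => (!Nat.beq (g16 cZ2 j) j) || (Nat.beq j 0 || Nat.beq j 4599)) 4600
    = true := by decide +kernel
theorem chk2_x0 : Nat.beq (g16 cX2 0) 0 = false := by decide +kernel
theorem chk2_z1 : Nat.beq (g16 cZ2 1) 1 = false := by decide +kernel
theorem chk2_t0 : g16 cT2 0 = 4599 := by decide +kernel
theorem chk2_t4599 : g16 cT2 4599 = 0 := by decide +kernel

theorem pX2_pow23 : pX2 ^ 23 = 1 := by
  apply Equiv.ext
  intro j
  apply Fin.ext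
  rw [pow_val2 pX2 (g16 cX2) pX2_val]
  exact (allB_beq2 _ _ _).mp chk2_x23 j.val j.isLt

theorem pZ2_pow11 : pZ2 ^ 11 = 1 := by
  apply Equiv.ext
  intro j
  apply Fin.ext
  rw [pow_val2 pZ2 (g16 cZ2) pZ2_val]
  exact (allB_beq2 _ _ _).mp chk2_z11 j.val j.isLt

theorem pT2_sq : pT2 ^ 2 = 1 := by
  apply Equiv.ext
  intro j
  apply Fin.ext
  rw [pow_two, Equiv.Perm.mul_apply, pT2_val, pT2_val]
  exact (allB_beq2 _ _ _).mp chk2_t2 j.val j.isLt

theorem pX2_ne_one : pX2 ≠ 1 := by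
  intro e
  have h := pX2_val ⟨0, by norm_num⟩
  rw [e] at h
  have h2 : Nat.beq (g16 cX2 0) 0 = true := by
    rw [Nat.beq_eq]
    exact h.symm
  rw [chk2_x0] at h2
  exact Bool.false_ne_true h2

theorem pZ2_ne_one : pZ2 ≠ 1 := by
  intro e
  have h := pZ2_val ⟨1, by norm_num⟩
  rw [e] at h
  have h2 : Nat.beq (g16 cZ2 1) 1 = true := by
    rw [Nat.beq_eq]
    exact h.symm
  rw [chk2_z1] at h2
  exact Bool.false_ne_true h2

theorem pZ2_conj : pZ2 * pX2 * pZ2⁻¹ = pX2 ^ 12 := by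
  rw [mul_inv_eq_iff_eq_mul]
  apply Equiv.ext
  intro j
  apply Fin.ext
  rw [Equiv.Perm.mul_apply, Equiv.Perm.mul_apply, pZ2_val, pX2_val,
    pow_val2 pX2 (g16 cX2) pX2_val, pZ2_val]
  exact (allB_beq2 _ _ _).mp chk2_zx j.val j.isLt

theorem pT2_conj : pT2 * pZ2 * pT2⁻¹ = pZ2⁻¹ := by
  rw [mul_inv_eq_iff_eq_mul]
  apply Equiv.ext
  intro j
  apply Fin.ext
  rw [Equiv.Perm.mul_apply, Equiv.Perm.mul_apply, pT2_val, pZ2_val, pZi2_val, pT2_val]
  exact (allB_beq2 _ _ _).mp chk2_tz j.val j.isLt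

theorem pZ2_fix (j : Fin 4600) (h : pZ2 j = j) : j.val = 0 ∨ j.val = 4599 := by
  have h1 : g16 cZ2 j.val = j.val := by rw [← pZ2_val, h]
  have h2 := (allB_iff _ _).mp chk2_zfix j.val j.isLt
  simp only [Bool.or_eq_true, Bool.not_eq_true', Nat.beq_eq] at h2
  rcases h2 with h2 | h2 | h2
  · rw [h1, Nat.beq_refl] at h2
    exact absurd h2 (by decide)
  · exact Or.inl h2
  · exact Or.inr h2

/-- C2-PERMREL. -/
theorem permRel2 : StPermRel2 :=
  ⟨pX2_pow23, pX2_ne_one, pZ2_pow11, pZ2_ne_one, pZ2_conj, pT2_sq, pT2_conj, pZ2_fix,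
    (pT2_val _).trans chk2_t0, (pT2_val _).trans chk2_t4599⟩

end Cfsg.Agent.H72.C2

example : Cfsg.Agent.H33.C2.StPermRel2 := Cfsg.Agent.H72.C2.permRel2
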