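import Mathlib
import Cfsg.Agent.H45.S8Defs2

/-!
# S1158 (helper45's project): piece S8-CASE34 (helper72).
-/

set_option autoImplicit false

namespace Cfsg.Agent.H72.S8

open Cfsg.Agent.H45.S8

universe u

/-- A cyclic subgroup is commutative (element form). -/
theorem cyc_comm {G : Type u} [Group G] (A : Subgroup G) (hA : IsCyclic ↥A) :
    ∀ x ∈ A, ∀ y ∈ A, x * y = y * x := by
  intro x hx y hy
  obtain ⟨g, hg⟩ := hA.exists_generator
  obtain ⟨i, hi⟩ := Subgroup.mem_zpowers_iff.mp (hg ⟨x, hx⟩)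
  obtain ⟨j, hj⟩ := Subgroup.mem_zpowers_iff.mp (hg ⟨y, hy⟩)
  have h1 : (⟨x, hx⟩ : ↥A) * ⟨y, hy⟩ = ⟨y, hy⟩ * ⟨x, hx⟩ := by
    rw [← hi, ← hj, ← zpow_add, ← zpow_add, add_comm]
  exact congrArg Subtype.val h1

theorem case34 : StCase34.{u} := by
  intro G _ _ A hcyc hself hSubC hNormEq A₀ hA₀ hne
  have hcomm := cyc_comm A hcyc
  have h1 := hSubC G A hself hcomm
  have hcop : (Nat.card ↥A).Coprime (Nat.card ↥A / Nat.card ↥A) := by
    rw [Nat.div_self Nat.card_pos]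
    exact Nat.coprime_one_right _
  exact hNormEq G A A hcyc le_rfl hcomm hcop h1 A₀ hA₀ hne

example : StCase34.{u} := case34

end Cfsg.Agent.H72.S8
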