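import Mathlib
import Cfsg.Agent.H45.S8Defs2
import Cfsg.Agent.H72.S8Case34

/-!
# S1158 (helper45's project): piece S8-CASE1 (helper72).
-/

set_option autoImplicit false

namespace Cfsg.Agent.H72.S8

open Cfsg.Agent.H45.S8

universe u

theorem case1 : StCase1.{u} := by
  intro G _ _ m hm hSplit hCycSub hNormEq hAr Hd hcyc hcard hN
  obtain ⟨-, -, -, -, -, -, -, -, -, hodd, h2, h1lt, -⟩ := hAr m hm
  have hdvd : (qq m - 1) / 2 ∣ Nat.card ↥Hd := by
    rw [hcard]; exact Dvd.intro_left 2 h2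
  obtain ⟨A, hAle, hAcyc, hAcard⟩ := hCycSub G Hd hcyc _ hdvd
  obtain ⟨-, hCcard, hCsub⟩ := hSplit A hAcyc hAcard
  have hHdcomm := cyc_comm Hd hcyc
  have hle : Hd ≤ Subgroup.centralizer (A : Set G) := by
    intro x hx
    rw [Subgroup.mem_centralizer_iff]
    intro a ha
    exact hHdcomm a (hAle ha) x hx
  have hCeq : Subgroup.centralizer (A : Set G) = Hd := by
    symm
    apply Subgroup.eq_of_le_of_card_ge hle
    rw [hCcard, hcard]
  have hAne : A ≠ ⊥ := by
    intro h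
    rw [h, Subgroup.card_bot] at hAcard
    omega
  have hcop : (Nat.card ↥A).Coprime (Nat.card ↥Hd / Nat.card ↥A) := by
    have e : (qq m - 1) / ((qq m - 1) / 2) = 2 :=
      Nat.div_eq_of_eq_mul_left (by omega) h2.symm
    rw [hAcard, hcard, e]
    exact (Nat.coprime_two_left.mpr hodd).symm
  have key := hNormEq G A Hd hAcyc hAle hHdcomm hcop
    (fun A₀ h1 h2' => by rw [hCsub A₀ h1 h2', hCeq])
  have hNA : Subgroup.normalizer (A : Set G) = Subgroup.normalizer (Hd : Set G) :=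
    key A le_rfl hAne
  refine ⟨A, hAcyc, hAcard, ?_, ?_⟩
  · rw [hNA, hN]
  · intro A₀ h1 h2'
    rw [key A₀ h1 h2', hNA]

example : StCase1.{u} := case1

end Cfsg.Agent.H72.S8
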