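import Mathlib
import Cfsg.Agent.H45.S8Defs2

/-!
# S1158 (helper45's project): piece S8-HCOMM (helper72).
-/

set_option autoImplicit false

namespace Cfsg.Agent.H72.S8

open Cfsg.Agent.H45.S8

universe u v

theorem hComm : StHComm.{u, v} := by
  intro G _ _ Ω _ m hm hG hSplit hSyl hConj hAr Hd hcyc hcard x₀ hfix h3 z g hz hz2 hdvd hgz
  obtain ⟨-, -, -, -, -, -, -, -, -, -, h2, -⟩ := hAr m hm
  rcases (Nat.Prime.dvd_mul hz).mp hdvd with hq | hq
  · -- the order is 3
    have h3' : orderOf z ∣ 3 := by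
      unfold qq at hq
      exact hz.dvd_of_dvd_pow hq
    have : orderOf z = 3 := (Nat.prime_dvd_prime_iff_eq hz Nat.prime_three).mp h3'
    exact h3 z g this hgz
  · rw [← h2] at hq
    rcases (Nat.Prime.dvd_mul hz).mp hq with hq2 | hq2
    · exact absurd ((Nat.prime_dvd_prime_iff_eq hz Nat.prime_two).mp hq2) hz2
    · obtain ⟨c, hc⟩ := hConj G m hm hG hSplit hSyl Hd hcyc hcard z g hz hq2 hgz
      refine ⟨c⁻¹ • x₀, ?_⟩
      have := hfix _ hc
      rw [mul_smul, mul_smul] at this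
      exact eq_inv_smul_iff.mpr this

example : StHComm.{u, v} := hComm

end Cfsg.Agent.H72.S8
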