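import Mathlib
import Cfsg.Agent.H45.S8Defs2

/-!
# S1158 (helper45's project): piece S8-KCENT (helper72).
-/

set_option autoImplicit false

namespace Cfsg.Agent.H72.S8

open Cfsg.Agent.H45.S8

universe u

/-- In a finite cyclic group, an element killed by `s` lies in the subgroup generated by an
element of order `s`. -/
theorem cyc_mem_zpowers {P : Type u} [Group P] [Finite P] [IsCyclic P] (s : ℕ) (hs : 0 < s)
    (a b : P) (ha : orderOf a = s) (hb : b ^ s = 1) : b ∈ Subgroup.zpowers a := by
  classical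
  have := Fintype.ofFinite P
  have h1 : (Finset.univ.filter (fun x : P => x ^ s = 1)).card ≤ s :=
    IsCyclic.card_pow_eq_one_le hs
  have h2 : (Finset.univ.filter (fun x : P => x ∈ Subgroup.zpowers a)) ⊆
      Finset.univ.filter (fun x : P => x ^ s = 1) := by
    intro x hx
    simp only [Finset.mem_filter, Finset.mem_univ, true_and] at hx ⊢
    obtain ⟨i, rfl⟩ := Subgroup.mem_zpowers_iff.mp hx
    rw [← zpow_natCast, ← zpow_mul, mul_comm, zpow_mul, zpow_natCast, ← ha, pow_orderOf_eq_one,
      one_zpow]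
  have h3 : (Finset.univ.filter (fun x : P => x ∈ Subgroup.zpowers a)).card = s := by
    rw [← ha, ← Nat.card_zpowers]
    exact (Nat.subtype_card _ (by simp)).symm
  have h4 := Finset.eq_of_subset_of_card_le h2 (by rw [h3]; exact h1)
  have : b ∈ Finset.univ.filter (fun x : P => x ^ s = 1) := by simp [hb]
  rw [← h4] at this
  simpa using this

/-- The centralizer of an element is the centralizer of the subgroup it generates. -/
theorem centralizer_zpowers_eq {G : Type u} [Group G] (z : G) :
    Subgroup.centralizer ((Subgroup.zpowers z : Subgroup G) : Set G) =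
      Subgroup.centralizer ({z} : Set G) := by
  ext x
  rw [Subgroup.mem_centralizer_iff, Subgroup.mem_centralizer_singleton_iff]
  constructor
  · intro h
    exact (h z (Subgroup.mem_zpowers z)).symm
  · intro h y hy
    obtain ⟨i, rfl⟩ := Subgroup.mem_zpowers_iff.mp hy
    have : Commute x z := h
    exact (this.zpow_right i).eq.symm

/-- Conjugate elements have centralizers of the same order. -/
theorem card_centralizer_conj {G : Type u} [Group G] (g z : G) :
    Nat.card ↥(Subgroup.centralizer ({g * z * g⁻¹} : Set G)) =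
      Nat.card ↥(Subgroup.centralizer ({z} : Set G)) := by
  refine Nat.card_congr
    { toFun := fun x => ⟨g⁻¹ * x.1 * g, ?_⟩
      invFun := fun y => ⟨g * y.1 * g⁻¹, ?_⟩
      left_inv := ?_
      right_inv := ?_ }
  · have := Subgroup.mem_centralizer_singleton_iff.mp x.2
    rw [Subgroup.mem_centralizer_singleton_iff]
    calc g⁻¹ * x.1 * g * z = g⁻¹ * (x.1 * (g * z * g⁻¹)) * g := by group
      _ = g⁻¹ * (g * z * g⁻¹ * x.1) * g := by rw [this]
      _ = z * (g⁻¹ * x.1 * g) := by group
  · have := Subgroup.mem_centralizer_singleton_iff.mp y.2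
    rw [Subgroup.mem_centralizer_singleton_iff]
    calc g * y.1 * g⁻¹ * (g * z * g⁻¹) = g * (y.1 * z) * g⁻¹ := by group
      _ = g * (z * y.1) * g⁻¹ := by rw [this]
      _ = g * z * g⁻¹ * (g * y.1 * g⁻¹) := by group
  · intro x
    apply Subtype.ext
    show g * (g⁻¹ * x.1 * g) * g⁻¹ = x.1
    group
  · intro y
    apply Subtype.ext
    show g⁻¹ * (g * y.1 * g⁻¹) * g = y.1
    group

theorem kCent : StKCent.{u} := by
  intro G _ _ m hQ hSyl A₁ hcyc hcard z hz hdvd
  have hz1 : z ≠ 1 := by
    rintro rfl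
    rw [orderOf_one] at hz
    exact Nat.not_prime_one hz
  set s := orderOf z with hs
  have : Fact s.Prime := ⟨hz⟩
  -- an element of order `s` in `A₁`
  obtain ⟨w, hw⟩ := exists_prime_orderOf_dvd_card' (G := ↥A₁) s (by rw [hcard]; exact hdvd)
  have hwG : orderOf (w : G) = s := by rw [Subgroup.orderOf_coe]; exact hw
  -- Sylow subgroups
  have hZ : IsPGroup s ↥(Subgroup.zpowers z) :=
    IsPGroup.of_card (n := 1) (by rw [Nat.card_zpowers, pow_one])
  have hW : IsPGroup s ↥(Subgroup.zpowers (w : G)) :=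
    IsPGroup.of_card (n := 1) (by rw [Nat.card_zpowers, pow_one, hwG])
  obtain ⟨Q, hQz⟩ := hZ.exists_le_sylow
  obtain ⟨Q', hQw⟩ := hW.exists_le_sylow
  obtain ⟨g, hg⟩ := MulAction.exists_smul_eq G Q Q'
  have hz'Q : g * z * g⁻¹ ∈ (Q' : Subgroup G) := by
    rw [← hg, Sylow.coe_subgroup_smul]
    have := Subgroup.smul_mem_pointwise_smul z (MulAut.conj g) (Q : Subgroup G)
      (hQz (Subgroup.mem_zpowers z))
    simpa [MulAut.smul_def] using this
  have hwQ : (w : G) ∈ (Q' : Subgroup G) := hQw (Subgroup.mem_zpowers _)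
  have : IsCyclic ↥(Q' : Subgroup G) := hSyl s hdvd Q'
  have hpow : (g * z * g⁻¹) ^ s = 1 := by
    rw [conj_pow, hs, pow_orderOf_eq_one]; group
  have hmem := cyc_mem_zpowers (P := ↥(Q' : Subgroup G)) s hz.pos ⟨(w : G), hwQ⟩
    ⟨g * z * g⁻¹, hz'Q⟩ ((Subgroup.orderOf_mk _ _).trans hwG)
    (Subtype.ext (by simpa using hpow))
  obtain ⟨i, hi⟩ := Subgroup.mem_zpowers_iff.mp hmem
  have hi' : (w : G) ^ i = g * z * g⁻¹ := by
    have := congrArg Subtype.val hi
    simpa using this
  have hz'A : g * z * g⁻¹ ∈ A₁ := by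
    rw [← hi']
    exact A₁.zpow_mem w.2 i
  -- apply HQuarter
  obtain ⟨-, hCcard, -, hCsub⟩ := hQ A₁ hcyc hcard
  have hle : Subgroup.zpowers (g * z * g⁻¹) ≤ A₁ := by
    rw [Subgroup.zpowers_le]; exact hz'A
  have hne : Subgroup.zpowers (g * z * g⁻¹) ≠ ⊥ := by
    intro h
    rw [Subgroup.zpowers_eq_bot] at h
    apply hz1
    have : z = g⁻¹ * (g * z * g⁻¹) * g := by group
    rw [this, h]; group
  have h1 := hCsub _ hle hne
  rw [centralizer_zpowers_eq] at h1
  rw [← card_centralizer_conj g z, h1, hCcard]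

example : StKCent.{u} := kCent

end Cfsg.Agent.H72.S8
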