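import Mathlib
import Cfsg.Agent.H72.BaerDefs
import Cfsg.Agent.H72.BHM1

/-!
# Basic API for Lemma T (S4125 team project)
-/

set_option autoImplicit false

namespace Cfsg.Agent.H72.BaerT

universe u

section general

variable {H : Type*} [Group H] {X : Type*} [MulAction H X]

/-- The orbit of `x` under a subgroup `K` has `(stabilizer H x).relIndex K` elements. -/
theorem card_orbit_subgroup (K : Subgroup H) (x : X) :
    Nat.card (MulAction.orbit K x) = (MulAction.stabilizer H x).relIndex K := by
  rw [Nat.card_coe_set_eq, ← MulAction.index_stabilizer]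
  have : MulAction.stabilizer K x = (MulAction.stabilizer H x).subgroupOf K := by
    ext k
    simp [MulAction.mem_stabilizer_iff, Subgroup.mem_subgroupOf, Subgroup.smul_def]
  rw [this]; rfl

theorem orbit_subgroup_mono {K L : Subgroup H} (hKL : K ≤ L) (x : X) :
    MulAction.orbit K x ⊆ MulAction.orbit L x := by
  rintro _ ⟨k, rfl⟩
  exact ⟨⟨k.1, hKL k.2⟩, rfl⟩

theorem mem_orbit_subgroup_iff {K : Subgroup H} {x y : X} :
    y ∈ MulAction.orbit K x ↔ ∃ k ∈ K, k • x = y := by
  constructor
  · rintro ⟨k, rfl⟩; exact ⟨k.1, k.2, rfl⟩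
  · rintro ⟨k, hk, rfl⟩; exact ⟨⟨k, hk⟩, rfl⟩

end general

variable {p q : ℕ} {V : Type u} [CommGroup V] [Finite V] {A P N : Subgroup (MulAut V)}

instance instFiniteMulAut : Finite (MulAut V) :=
  Finite.of_injective (fun e : MulAut V => (e : V → V)) DFunLike.coe_injective

theorem NormalIn.normal_subgroupOf {H : Type*} [Group H] {N A : Subgroup H} (hN : NormalIn N A) :
    (N.subgroupOf A).Normal := by
  constructor
  intro n hn a
  rw [Subgroup.mem_subgroupOf] at hn ⊢
  exact hN.2 a.1 a.2 n.1 hn

theorem NormalIn.refl {H : Type*} [Group H] (A : Subgroup H) : NormalIn A A :=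
  ⟨le_refl A, fun a ha n hn => A.mul_mem (A.mul_mem ha hn) (A.inv_mem ha)⟩

theorem NormalIn.trans_le {H : Type*} [Group H] {N A B : Subgroup H} (hN : NormalIn N A)
    (hNB : N ≤ B) (hBA : B ≤ A) : NormalIn N B :=
  ⟨hNB, fun b hb n hn => hN.2 b (hBA hb) n hn⟩

/-- orbit sizes of a subgroup normalized by `A` divide the orbit sizes of `A` -/
theorem card_orbit_dvd_of_normalIn (hN : NormalIn N A) (v : V) :
    Nat.card (MulAction.orbit N v) ∣ Nat.card (MulAction.orbit A v) := by
  rw [card_orbit_subgroup, card_orbit_subgroup]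
  set S := MulAction.stabilizer (MulAut V) v
  have := hN.normal_subgroupOf
  have h1 := Cfsg.Agent.H72.relIndex_dvd_index_of_normal_right (S.subgroupOf A) (N.subgroupOf A)
  rwa [Subgroup.relIndex_subgroupOf hN.1] at h1

/-- T1: the hypotheses of Lemma T pass to subgroups normalized by `A`. -/
theorem TH.of_normalIn (h : TH p q V A) (hN : NormalIn N A) : TH p q V N where
  hp := h.hp
  hq := h.hq
  hV := h.hV
  hA := Nat.Coprime.coprime_dvd_left (Subgroup.card_dvd_of_le hN.1) h.hA
  horb := fun v => by
    obtain ⟨a, ha⟩ := h.horb v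
    have h1 := card_orbit_dvd_of_normalIn hN v
    rw [ha] at h1
    obtain ⟨b, _, hb⟩ := (Nat.dvd_prime_pow h.hp).mp h1
    exact ⟨b, hb⟩

/-- T2: a subgroup of `A` normalized by `A` of order prime to `p` is trivial. -/
theorem TH.eq_bot_of_coprime (h : TH p q V A) (hN : NormalIn N A)
    (hc : (Nat.card N).Coprime p) : N = ⊥ := by
  have hp := h.hp
  rw [eq_bot_iff]
  intro n hn
  rw [Subgroup.mem_bot]
  ext v
  obtain ⟨b, hb⟩ := (h.of_normalIn hN).horb v
  have h1 : Nat.card (MulAction.orbit N v) ∣ Nat.card N := by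
    rw [Nat.card_coe_set_eq, ← MulAction.index_stabilizer]
    exact Subgroup.index_dvd_card _
  have h2 : Nat.card (MulAction.orbit N v) = 1 := by
    rw [hb] at h1 ⊢
    rcases Nat.eq_zero_or_pos b with hb0 | hb0
    · rw [hb0, pow_zero]
    · exfalso
      have : p ∣ Nat.card N := (dvd_pow_self p hb0.ne').trans h1
      have h3 := Nat.Coprime.eq_one_of_dvd hc.symm this
      exact hp.one_lt.ne' h3
  have h3 : (n • v : V) ∈ MulAction.orbit N v := ⟨⟨n, hn⟩, rfl⟩
  have h4 : v ∈ MulAction.orbit N v := MulAction.mem_orbit_self v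
  have h5 := Nat.card_eq_one_iff_unique.mp h2
  have := h5.1.elim ⟨n • v, h3⟩ ⟨v, h4⟩
  simpa using congrArg Subtype.val this

/-- T3: `A`-orbits are `P`-orbits for a Sylow `p`-subgroup `P` of `A`. -/
theorem TH.orbit_syl (h : TH p q V A) (hP : IsSyl p P A) (a : MulAut V) (ha : a ∈ A) (v : V) :
    ∃ g ∈ P, a v = g v := by
  obtain ⟨k, hk⟩ := h.horb v
  have hsub := orbit_subgroup_mono hP.1 v
  have hcard : Nat.card (MulAction.orbit P v) = Nat.card (MulAction.orbit A v) := by
    rw [card_orbit_subgroup, card_orbit_subgroup] at *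
    set S := MulAction.stabilizer (MulAut V) v
    set S' := S.subgroupOf A
    set P' := P.subgroupOf A
    have hS' : S'.index = p ^ k := hk
    have hP' : ¬ p ∣ P'.index := hP.2.2
    have hco : P'.index.Coprime S'.index := by
      rw [hS']
      exact Nat.Coprime.pow_right k ((Nat.Prime.coprime_iff_not_dvd h.hp).mpr hP').symm
    have h1 := Cfsg.Agent.H72.BHM.index_inf_of_coprime P' S' hco
    have h2 : (S' ⊓ P').relIndex P' * P'.index = (S' ⊓ P').index :=
      Subgroup.relIndex_mul_index inf_le_right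
    rw [Subgroup.inf_relIndex_right, inf_comm, h1, mul_comm] at h2
    have h3 : P'.index ≠ 0 := Subgroup.index_ne_zero_of_finite
    have h4 : S'.relIndex P' = S'.index := Nat.eq_of_mul_eq_mul_left (Nat.pos_of_ne_zero h3) h2
    rw [Subgroup.relIndex_subgroupOf hP.1] at h4
    exact h4
  have hfin : (MulAction.orbit A v).Finite := Set.toFinite _
  have heq : MulAction.orbit P v = MulAction.orbit A v := by
    apply Set.eq_of_subset_of_ncard_le hsub _ hfin
    rw [← Nat.card_coe_set_eq, ← Nat.card_coe_set_eq, hcard]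
  have h1 : (a v : V) ∈ MulAction.orbit A v := ⟨⟨a, ha⟩, rfl⟩
  rw [← heq] at h1
  obtain ⟨g, hg, hgv⟩ := mem_orbit_subgroup_iff.mp h1
  exact ⟨g, hg, hgv.symm⟩

/-- `P`-invariant subgroups are `A`-invariant. -/
theorem TH.inv_of_syl (h : TH p q V A) (hP : IsSyl p P A) {W : Subgroup V} (hW : Inv P W) :
    Inv A W := by
  intro a ha w hw
  obtain ⟨g, hg, hgv⟩ := h.orbit_syl hP a ha w
  rw [hgv]; exact hW g hg w hw

/-- If `V` is `A`-irreducible it is `P`-irreducible. -/
theorem TH.irr_of_syl (h : TH p q V A) (hP : IsSyl p P A) (hA : Irr A) : Irr P :=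
  fun W hW => hA W (h.inv_of_syl hP hW)

/-- Fixed points of an automorphism. -/
def fix (z : MulAut V) : Subgroup V where
  carrier := {v | z v = v}
  one_mem' := map_one z
  mul_mem' := fun {a b} ha hb => by
    simp only [Set.mem_ofPred_eq] at ha hb ⊢
    rw [map_mul, ha, hb]
  inv_mem' := fun {a} ha => by
    simp only [Set.mem_ofPred_eq] at ha ⊢
    rw [map_inv, ha]

omit [Finite V] in
theorem mem_fix {z : MulAut V} {v : V} : v ∈ fix z ↔ z v = v := Iff.rfl

omit [Finite V] in
/-- the fixed points of `z` are invariant under automorphisms commuting with `z` -/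
theorem fix_inv_of_comm {z : MulAut V} {P : Subgroup (MulAut V)}
    (hz : ∀ g ∈ P, g * z = z * g) : Inv P (fix z) := by
  intro g hg w hw
  rw [mem_fix] at hw ⊢
  have : z (g w) = (z * g) w := rfl
  rw [this, ← hz g hg]
  show g (z w) = g w
  rw [hw]

omit [Finite V] in
/-- In the context `MC`: a nontrivial element commuting with all of `P` is fixed-point-free. -/
theorem MC.fpf (h : MC p q V A P) {z : MulAut V} (hz1 : z ≠ 1) (hz : ∀ g ∈ P, g * z = z * g)
    {v : V} (hv : z v = v) : v = 1 := by
  rcases h.irr (fix z) (fix_inv_of_comm hz) with h0 | h1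
  · have : v ∈ fix z := hv
    rw [h0, Subgroup.mem_bot] at this
    exact this
  · exfalso
    apply hz1
    ext w
    have : w ∈ fix z := by rw [h1]; trivial
    exact this

/-- In the context `MC`, `V` has exponent `q`. -/
theorem MC.exp (h : MC p q V A P) (v : V) : v ^ q = 1 := by
  have : Fact q.Prime := ⟨h.th.hq⟩
  let W : Subgroup V := (powMonoidHom q : V →* V).range
  have hW : Inv P W := by
    rintro g _ _ ⟨x, rfl⟩
    exact ⟨g x, by simp [powMonoidHom_apply]⟩
  rcases h.irr W hW with h0 | h1
  · have : v ^ q ∈ W := ⟨v, rfl⟩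
    rw [h0, Subgroup.mem_bot] at this
    exact this
  · -- the power map is surjective, hence injective; but `V` is a `q`-group
    have hsurj : Function.Surjective (powMonoidHom q : V →* V) := by
      intro w
      have : w ∈ W := by rw [h1]; trivial
      exact this
    have hinj : Function.Injective (powMonoidHom q : V →* V) :=
      Finite.injective_iff_surjective.mpr hsurj
    -- every element has `q`-power order, so iterating the injective power map gives `v = 1`
    obtain ⟨k, hk⟩ := h.th.hV v
    have key : ∀ k : ℕ, ∀ w : V, w ^ q ^ k = 1 → w = 1 := by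
      intro k
      induction k with
      | zero => intro w hw; simpa using hw
      | succ n ih =>
        intro w hw
        apply ih
        apply hinj
        simp only [powMonoidHom_apply, one_pow]
        rw [← pow_mul, ← pow_succ]
        exact hw
    rw [key k v hk, one_pow]

/-- In the context `MC` with `P ≠ ⊥`: `p ≠ q`. -/
theorem MC.p_ne_q (h : MC p q V A P) (hP : P ≠ ⊥) : p ≠ q := by
  have : Fact p.Prime := ⟨h.th.hp⟩
  intro hpq
  have h1 : p ∣ Nat.card P := by
    obtain ⟨n, hn⟩ := IsPGroup.iff_card.mp h.syl.2.1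
    rcases Nat.eq_zero_or_pos n with h0 | h0
    · exfalso
      apply hP
      rw [h0, pow_zero] at hn
      exact Subgroup.card_eq_one.mp hn
    · rw [hn]; exact dvd_pow_self p h0.ne'
  have h2 : p ∣ Nat.card A := h1.trans (Subgroup.card_dvd_of_le h.syl.1)
  have h3 := h.th.hA
  rw [← hpq] at h3
  exact h.th.hp.one_lt.ne' (Nat.Coprime.eq_one_of_dvd h3.symm h2)

end Cfsg.Agent.H72.BaerT
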