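import Mathlib
import Cfsg.Agent.H7.RTDefs0

/-!
# S2359 piece RT-ABSK (helper72): the normal 2-complement `K` of `C_G(x)` lies in `D`
-/

set_option autoImplicit false

namespace Cfsg.Agent.H72.RT

open Cfsg.Agent.H7.RT

universe u

theorem absK (hs : StInvSyl.{u}) (hf : StFourCyc.{u}) : StAbsK.{u} := by
  intro G _ _ x a D V K hDx hDab ha1 haa haV hVD hV4 hVexp hCa hCv h3 hcyc hKx hKn hKodd hdec
  have hV2 : IsPGroup 2 V := IsPGroup.of_card (n := 2) (by rw [hV4]; norm_num)
  have hVK : ∀ v ∈ V, ∀ k ∈ K, v * k * v⁻¹ ∈ K := fun v hv k hk =>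
    hKn v (hDx v (hVD hv)) k hk
  have hK0 : Nat.card K ≠ 0 := Nat.card_pos.ne'
  have hKD0 : Nat.card (K ⊓ D : Subgroup G) ≠ 0 := Nat.card_pos.ne'
  have hdvd : Nat.card K ∣ Nat.card (K ⊓ D : Subgroup G) := by
    rw [← Nat.factorization_prime_le_iff_dvd hK0 hKD0]
    intro r hr
    by_cases hrK : r ∣ Nat.card K
    · have : Fact r.Prime := ⟨hr⟩
      obtain ⟨k, hk⟩ := exists_prime_orderOf_dvd_card' r hrK
      have hr2 : r ≠ 2 := by
        rintro rfl
        exact (Nat.not_even_iff_odd.mpr hKodd) (even_iff_two_dvd.mpr hrK)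
      have hr3 : r ≠ 3 := by
        rintro rfl
        have h1 := h3 (k : G) (hKx _ k.2)
        rw [Subgroup.orderOf_coe] at h1
        exact h1 hk
      have hr4 : r ≠ 4 := by
        rintro rfl
        exact absurd hr (by norm_num)
      have hr5 : 3 < r := by
        have := hr.two_le
        omega
      obtain ⟨R, hRK, hRp, hRfac, hRV⟩ := hs G r K V hKodd hV2 hVK
      have hRx : ∀ y ∈ R, y * x = x * y := fun y hy => hKx y (hRK hy)
      have hRcyc : IsCyclic R := hcyc r hr5 R hRx hRp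
      obtain ⟨v, hv, hv1, hvR⟩ := hf G r R V hr2 hRp hRcyc hV4 hVexp hRV
      have hRD : R ≤ K ⊓ D := by
        intro y hy
        refine ⟨hRK hy, ?_⟩
        have hya : y * a = a * y :=
          hCv v hv hv1 y a (hRx y hy) (hvR y hy).symm (hDx a (hVD haV))
            (hDab a (hVD haV) v (hVD hv))
        exact hCa y (hRx y hy) hya
      have h1 : (Nat.card R).factorization r ≤ (Nat.card (K ⊓ D : Subgroup G)).factorization r :=
        (Nat.factorization_le_iff_dvd Nat.card_pos.ne' hKD0).mpr (Subgroup.card_dvd_of_le hRD) r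
      exact hRfac.trans h1
    · rw [Nat.factorization_eq_zero_of_not_dvd hrK]
      exact Nat.zero_le _
  have heq : K ⊓ D = K :=
    Subgroup.eq_of_le_of_card_ge inf_le_left (Nat.le_of_dvd (Nat.pos_of_ne_zero hKD0) hdvd)
  rw [← heq]
  exact inf_le_right

example (hs : StInvSyl.{u}) (hf : StFourCyc.{u}) : StAbsK.{u} := absK hs hf

end Cfsg.Agent.H72.RT
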