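import Mathlib
import Cfsg.Agent.H7.RTDefs0

/-!
# S2359 piece RT-ABSNC (helper72): transport of NORMCENT + BURN to the centralizer of `x`
-/

set_option autoImplicit false

namespace Cfsg.Agent.H72.RT

open Cfsg.Agent.H7.RT

universe u

theorem absNC (hn : StNormCent.{u}) (hb : StBurn.{u}) : StAbsNC.{u} := by
  intro G _ _ x a D V hDx hDab ha1 haa haV hVD hV4 hVexp hCa hCv hT h3
  -- the centralizer of `x`
  have hmem : ∀ y : G, y ∈ Subgroup.centralizer ({x} : Set G) ↔ y * x = x * y := by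
    intro y
    rw [Subgroup.mem_centralizer_iff]
    constructor
    · intro h
      exact (h x (Set.mem_singleton x)).symm
    · intro h w hw
      rw [Set.mem_singleton_iff] at hw
      rw [hw]
      exact h.symm
  have hVC : V ≤ Subgroup.centralizer ({x} : Set G) := fun v hv => (hmem v).mpr (hDx v (hVD hv))
  have hV'4 : Nat.card (V.subgroupOf (Subgroup.centralizer ({x} : Set G))) = 4 := by
    rw [Nat.card_congr (Subgroup.subgroupOfEquivOfLe hVC).toEquiv, hV4]
  have hV'exp : ∀ v ∈ V.subgroupOf (Subgroup.centralizer ({x} : Set G)), v * v = 1 := by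
    intro v hv
    apply Subtype.ext
    rw [Subgroup.coe_mul, Subgroup.coe_one]
    exact hVexp _ (Subgroup.mem_subgroupOf.mp hv)
  have hT' : ∀ T : Subgroup (Subgroup.centralizer ({x} : Set G)), IsPGroup 2 T →
      Nat.card T ≤ 4 := by
    intro T hTp
    have h1 := hT (T.map (Subgroup.centralizer ({x} : Set G)).subtype)
      (by
        rintro _ ⟨w, -, rfl⟩
        exact (hmem _).mp w.2)
      (hTp.map _)
    rwa [Subgroup.card_subtype] at h1
  have h3' : ∀ y : Subgroup.centralizer ({x} : Set G), orderOf y ≠ 3 := by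
    intro y
    rw [← Subgroup.orderOf_coe]
    exact h3 _ ((hmem _).mp y.2)
  have hnc := hn (Subgroup.centralizer ({x} : Set G))
    (V.subgroupOf (Subgroup.centralizer ({x} : Set G))) hV'4 hV'exp hT' h3'
  obtain ⟨K', hK'n, hK'odd, hK'dec⟩ := hb (Subgroup.centralizer ({x} : Set G))
    (V.subgroupOf (Subgroup.centralizer ({x} : Set G))) hV'4 hV'exp hT' hnc
  refine ⟨K'.map (Subgroup.centralizer ({x} : Set G)).subtype, ?_, ?_, ?_, ?_⟩
  · rintro _ ⟨w, -, rfl⟩
    exact (hmem _).mp w.2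
  · rintro c hc _ ⟨w, hw, rfl⟩
    refine ⟨⟨c, (hmem c).mpr hc⟩ * w * ⟨c, (hmem c).mpr hc⟩⁻¹, hK'n.conj_mem w hw _, rfl⟩
  · rw [Subgroup.card_subtype]
    exact hK'odd
  · intro y hy
    obtain ⟨k, hk, v, hv, hkv⟩ := hK'dec ⟨y, (hmem y).mpr hy⟩
    refine ⟨k, ⟨k, hk, rfl⟩, v, Subgroup.mem_subgroupOf.mp hv, ?_⟩
    have h1 := congrArg Subtype.val hkv
    exact h1

example (hn : StNormCent.{u}) (hb : StBurn.{u}) : StAbsNC.{u} := absNC hn hb

end Cfsg.Agent.H72.RT
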