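import Mathlib
import Cfsg.Agent.H7.RTDefs0

/-!
# S2359 piece RT-FINAL (helper72)
-/

set_option autoImplicit false

namespace Cfsg.Agent.H72.RT

open Cfsg.Agent.H7.RT

universe u

theorem final : StFinal.{u} := by
  intro G _ _ n H hHc hHn hab
  have hcomm : ∀ h ∈ H, ∀ y ∈ H, h * y = y * h := by
    intro h hh y hy
    let _ := hHc.commGroup
    have h1 : (⟨h, hh⟩ : H) * ⟨y, hy⟩ = ⟨y, hy⟩ * ⟨h, hh⟩ := mul_comm _ _
    exact congrArg Subtype.val h1
  have part1 : ∀ y ∈ H, y ≠ 1 →
      Subgroup.centralizer (H : Set G) = Subgroup.centralizer ({y} : Set G) := by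
    intro y hy hy1
    have hord : orderOf y ∣ n := by
      rw [← hHn]
      have h1 := orderOf_dvd_natCard (⟨y, hy⟩ : H)
      rwa [Subgroup.orderOf_mk] at h1
    apply le_antisymm
    · exact Subgroup.centralizer_le (by
        intro w hw
        rw [Set.mem_singleton_iff] at hw
        rw [hw]
        exact hy)
    · intro z hz
      rw [Subgroup.mem_centralizer_iff]
      intro h hh
      have hhC : h ∈ Subgroup.centralizer ({y} : Set G) := by
        rw [Subgroup.mem_centralizer_iff]
        intro w hw
        rw [Set.mem_singleton_iff] at hw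
        rw [hw]
        exact (hcomm h hh y hy).symm
      exact hab y hy1 hord h hhC z hz
  refine ⟨part1, ?_⟩
  intro A hAH hA
  obtain ⟨⟨y, hyA⟩, hy1⟩ := (Subgroup.ne_bot_iff_exists_ne_one).mp hA
  have hy1' : y ≠ 1 := fun h => hy1 (Subtype.ext h)
  apply le_antisymm
  · rw [part1 y (hAH hyA) hy1']
    exact Subgroup.centralizer_le (by
      intro w hw
      rw [Set.mem_singleton_iff] at hw
      rw [hw]
      exact hyA)
  · exact Subgroup.centralizer_le hAH

example : StFinal.{u} := final

end Cfsg.Agent.H72.RT
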