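import Mathlib
import Cfsg.Agent.H7.RTDefs0

/-!
# S2359 piece RT-NO4 (helper72)
-/

set_option autoImplicit false

namespace Cfsg.Agent.H72.RT

open Cfsg.Agent.H7.RT

universe u

theorem no4 : StNo4.{u} := by
  intro G _ _ D V hDab h8 hVD hV4 hVexp y hyD hy4
  -- the subgroup of the elements of `D` of exponent 4
  let E : Subgroup G :=
    { carrier := {w | w ∈ D ∧ w ^ 4 = 1}
      mul_mem' := by
        rintro a b ⟨ha, ha4⟩ ⟨hb, hb4⟩
        refine ⟨D.mul_mem ha hb, ?_⟩
        have hc : Commute a b := hDab a ha b hb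
        rw [hc.mul_pow, ha4, hb4, one_mul]
      one_mem' := ⟨D.one_mem, one_pow 4⟩
      inv_mem' := by
        rintro a ⟨ha, ha4⟩
        exact ⟨D.inv_mem ha, by rw [inv_pow, ha4, inv_one]⟩ }
  have hED : E ≤ D := fun w hw => hw.1
  have hVE : V ≤ E := by
    intro v hv
    refine ⟨hVD hv, ?_⟩
    have h1 : v ^ 4 = (v * v) * (v * v) := by
      rw [show (4 : ℕ) = 2 + 2 from rfl, pow_add, pow_two]
    rw [h1, hVexp v hv, one_mul]
  have hyE : y ∈ E := ⟨hyD, by rw [← hy4]; exact pow_orderOf_eq_one y⟩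
  have hyV : y ∉ V := by
    intro h
    have h1 := hVexp y h
    have h2 : orderOf y ∣ 2 := orderOf_dvd_of_pow_eq_one (by rw [pow_two]; exact h1)
    rw [hy4] at h2
    exact absurd h2 (by decide)
  have hEp : IsPGroup 2 E := by
    rintro ⟨w, hw⟩
    refine ⟨2, ?_⟩
    apply Subtype.ext
    rw [Subgroup.coe_pow, Subgroup.coe_one]
    exact hw.2
  obtain ⟨j, hj⟩ := IsPGroup.iff_card.mp hEp
  have hdvd4 : 4 ∣ Nat.card E := by
    rw [← hV4]
    exact Subgroup.card_dvd_of_le hVE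
  have hne4 : Nat.card E ≠ 4 := by
    intro h
    have h1 : V = E := Subgroup.eq_of_le_of_card_ge hVE (by rw [h, hV4])
    rw [h1] at hyV
    exact hyV hyE
  have hj3 : 3 ≤ j := by
    by_contra hlt
    have hj' : j ≤ 2 := by omega
    rw [hj] at hdvd4 hne4
    interval_cases j
    · norm_num at hdvd4
    · norm_num at hdvd4
    · exact hne4 (by norm_num)
  apply h8
  have h8E : 8 ∣ Nat.card E := by
    rw [hj]
    exact (show (8 : ℕ) = 2 ^ 3 by norm_num) ▸ pow_dvd_pow 2 hj3
  exact h8E.trans (Subgroup.card_dvd_of_le hED)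

example : StNo4.{u} := no4

end Cfsg.Agent.H72.RT
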