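import Mathlib
import Cfsg.Agent.H72.BHM1

set_option autoImplicit false

namespace Cfsg.Agent.H72.BHM

open Subgroup Cfsg.Agent.H72.Ito

variable {G : Type*} [Group G]

/-- the hypotheses on class sizes: `m > n > 1` coprime, all class sizes at most `m`, and those
smaller than `m` at most `n` -/
structure Hyp (G : Type*) [Group G] (m n : ℕ) : Prop where
  hmn : n < m
  hn : 1 < n
  hcop : m.Coprime n
  htop : ∀ z : G, (cen z).index ≤ m
  hsec : ∀ z : G, (cen z).index < m → (cen z).index ≤ n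

/-- the stabilizer of the classes of size `m` -/
def SS (G : Type*) [Group G] (m : ℕ) : Subgroup G :=
  stabP (fun v : G => (cen v).index = m) (fun v c hv => by rw [index_conj]; exact hv)

instance SS_normal (m : ℕ) : (SS G m).Normal := by
  unfold SS
  infer_instance

/-- the stabilizer of the class of `x₁` -/
def TT (x₁ : G) : Subgroup G :=
  stabP (fun v : G => IsConj x₁ v) (fun _ c hv => hv.trans (isConj_iff.mpr ⟨c, rfl⟩))

instance TT_normal (x₁ : G) : (TT x₁).Normal := by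
  unfold TT
  infer_instance

variable [Finite G] {m n : ℕ}

theorem card_SS_dvd {y : G} (hy : (cen y).index = m) : Nat.card (SS G m) ∣ m := by
  have h := card_stabP_dvd (fun v : G => (cen v).index = m)
    (fun v c hv => by rw [index_conj]; exact hv) (w := y) hy
  rw [hy] at h
  exact h

theorem card_TT_dvd (x₁ : G) : Nat.card (TT x₁) ∣ (cen x₁).index :=
  card_stabP_dvd _ _ (IsConj.refl x₁)

theorem SS_facts (h : Hyp G m n) {y : G} (hy : (cen y).index = m) (a : G)
    (ha : ((cen a).index).Coprime m) :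
    SS G m ≤ cen a ∧ (∀ c, (c * a * c⁻¹) * a⁻¹ ∈ SS G m) ∧ a ^ Nat.card (SS G m) ∈ center G := by
  have hdiff : ∀ c, (c * a * c⁻¹) * a⁻¹ ∈ SS G m := by
    intro c
    refine diff_mem_stabP _ _ a ?_ ?_ c
    · intro w hw
      have hw' : (cen w).index = m := hw
      rw [hw']
      exact ha.symm
    · intro w hw
      have hw' : (cen w).index = m := hw
      rw [hw']
      exact h.htop _
  have hco : (Nat.card (SS G m)).Coprime (cen a).index :=
    Nat.Coprime.coprime_dvd_left (card_SS_dvd hy) ha.symm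
  obtain ⟨h1, h2⟩ := cen_of_diff (SS G m) a hdiff hco
  exact ⟨h1, hdiff, h2⟩

theorem TT_facts (h : Hyp G m n) (x₁ : G) (hx₁ : (cen x₁).index = n) (b : G)
    (hb : (cen b).index < m) (hbn : ((cen b).index).Coprime n) :
    TT x₁ ≤ cen b ∧ (∀ c, (c * b * c⁻¹) * b⁻¹ ∈ TT x₁) ∧ b ^ Nat.card (TT x₁) ∈ center G := by
  have hdiff : ∀ c, (c * b * c⁻¹) * b⁻¹ ∈ TT x₁ := by
    intro c
    refine diff_mem_stabP _ _ b ?_ ?_ c
    · intro w hw
      have hw' : IsConj x₁ w := hw
      rw [index_of_isConj hw', hx₁]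
      exact hbn.symm
    · intro w hw
      have hw' : IsConj x₁ w := hw
      have hwn : (cen w).index = n := by rw [index_of_isConj hw', hx₁]
      rw [hwn]
      apply h.hsec
      refine lt_of_le_of_ne (h.htop _) ?_
      intro heq
      have hle : cen w ⊓ cen b ≤ cen (w * b) := by
        intro g hg
        obtain ⟨hg1, hg2⟩ := Subgroup.mem_inf.mp hg
        rw [mem_cen] at hg1 hg2 ⊢
        rw [← mul_assoc, hg1, mul_assoc, hg2, mul_assoc]
      have hdvd := Subgroup.index_dvd_of_le hle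
      rw [index_inf_of_coprime _ _ (by rw [hwn]; exact hbn.symm), heq, hwn] at hdvd
      have h3 : m ∣ (cen b).index := h.hcop.dvd_of_dvd_mul_left hdvd
      have hpos : 0 < (cen b).index := Nat.pos_of_ne_zero Subgroup.index_ne_zero_of_finite
      exact absurd (Nat.le_of_dvd hpos h3) (not_le.mpr hb)
  have hco : (Nat.card (TT x₁)).Coprime (cen b).index :=
    Nat.Coprime.coprime_dvd_left (by rw [← hx₁]; exact card_TT_dvd x₁) hbn.symm
  obtain ⟨h1, h2⟩ := cen_of_diff (TT x₁) b hdiff hco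
  exact ⟨h1, hdiff, h2⟩

/-- an element with small class size coprime to `n` commutes with all elements of type `n` -/
theorem comm_of_small (h : Hyp G m n) {y : G} (hy : (cen y).index = m) (x₁ : G)
    (hx₁ : (cen x₁).index = n) (b : G) (hb : (cen b).index < m)
    (hbn : ((cen b).index).Coprime n) : b * x₁ = x₁ * b := by
  obtain ⟨-, hS, -⟩ := SS_facts h hy x₁ (by rw [hx₁]; exact h.hcop.symm)
  obtain ⟨-, hT, -⟩ := TT_facts h x₁ hx₁ b hb hbn
  have h1 : (b * x₁ * b⁻¹) * x₁⁻¹ ∈ SS G m := hS b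
  have h2 : (b * x₁ * b⁻¹) * x₁⁻¹ ∈ TT x₁ := by
    have h3 := (TT_normal x₁).conj_mem _ (hT x₁⁻¹) x₁
    have e : x₁ * (x₁⁻¹ * b * x₁⁻¹⁻¹ * b⁻¹) * x₁⁻¹ = (b * x₁ * b⁻¹) * x₁⁻¹ := by group
    rwa [e] at h3
  have h4 : ((b * x₁ * b⁻¹) * x₁⁻¹) ^ Nat.card (SS G m) = 1 := by
    have := pow_card_eq_one' (G := SS G m) (x := ⟨_, h1⟩)
    exact congrArg Subtype.val this
  have h5 : ((b * x₁ * b⁻¹) * x₁⁻¹) ^ Nat.card (TT x₁) = 1 := by
    have := pow_card_eq_one' (G := TT x₁) (x := ⟨_, h2⟩)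
    exact congrArg Subtype.val this
  have hco : (Nat.card (SS G m)).Coprime (Nat.card (TT x₁)) :=
    Nat.Coprime.coprime_dvd_left (card_SS_dvd hy)
      (Nat.Coprime.coprime_dvd_right (by rw [← hx₁]; exact card_TT_dvd x₁) h.hcop)
  have h6 := eq_one_of_pow_coprime _ _ _ h4 h5 hco
  calc b * x₁ = (b * x₁ * b⁻¹ * x₁⁻¹) * x₁ * b := by group
    _ = x₁ * b := by rw [h6, one_mul]

theorem pow_mem_center_of_small (h : Hyp G m n) (x₁ : G) (hx₁ : (cen x₁).index = n) (b : G)
    (hb : (cen b).index < m) (hbn : ((cen b).index).Coprime n) :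
    ∃ f, f ∣ n ∧ b ^ f ∈ center G :=
  ⟨Nat.card (TT x₁), by rw [← hx₁]; exact card_TT_dvd x₁, (TT_facts h x₁ hx₁ b hb hbn).2.2⟩

theorem eq_of_le_of_index_eq (A B : Subgroup G) (hle : A ≤ B) (hidx : A.index = B.index) :
    A = B := by
  have h1 := Subgroup.relIndex_mul_index hle
  rw [hidx] at h1
  have hpos : 0 < B.index := Nat.pos_of_ne_zero Subgroup.index_ne_zero_of_finite
  have h2 : A.relIndex B = 1 := by
    have : A.relIndex B * B.index = 1 * B.index := by rw [h1, one_mul]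
    exact Nat.eq_of_mul_eq_mul_right hpos this
  exact le_antisymm hle (Subgroup.relIndex_eq_one.mp h2)

theorem type_m_of_le (h : Hyp G m n) {u y₁ : G} (hy₁ : (cen y₁).index = m)
    (hle : cen u ≤ cen y₁) : (cen u).index = m ∧ cen u = cen y₁ := by
  have h1 : (cen y₁).index ∣ (cen u).index := Subgroup.index_dvd_of_le hle
  rw [hy₁] at h1
  have hpos : 0 < (cen u).index := Nat.pos_of_ne_zero Subgroup.index_ne_zero_of_finite
  have h2 : (cen u).index = m := le_antisymm (h.htop u) (Nat.le_of_dvd hpos h1)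
  exact ⟨h2, eq_of_le_of_index_eq _ _ hle (h2.trans hy₁.symm)⟩

theorem type_n_of_le (h : Hyp G m n) {u x₁ : G} (hx₁ : (cen x₁).index = n)
    (hle : cen u ≤ cen x₁) : (cen u).index = n ∧ cen u = cen x₁ := by
  have h1 : (cen x₁).index ∣ (cen u).index := Subgroup.index_dvd_of_le hle
  rw [hx₁] at h1
  have hpos : 0 < (cen u).index := Nat.pos_of_ne_zero Subgroup.index_ne_zero_of_finite
  have h2 : (cen u).index = n := by
    by_contra hne
    have h3 : ¬ (cen u).index < m := fun hlt =>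
      hne (le_antisymm (h.hsec u hlt) (Nat.le_of_dvd hpos h1))
    have h4 : (cen u).index = m := le_antisymm (h.htop u) (not_lt.mp h3)
    rw [h4] at h1
    have h5 := Nat.eq_one_of_dvd_coprimes h.hcop h1 dvd_rfl
    have := h.hn
    omega
  exact ⟨h2, eq_of_le_of_index_eq _ _ hle (h2.trans hx₁.symm)⟩

theorem false_of_le_both (h : Hyp G m n) {v x₁ g : G} (hv : (cen v).index = m)
    (hx₁ : (cen x₁).index = n) (h1 : cen g ≤ cen v) (h2 : cen g ≤ cen x₁) : False := by
  have h3 := (type_m_of_le h hv h1).1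
  have h4 := (type_n_of_le h hx₁ h2).1
  have := h.hmn
  omega

/-- a type-`n` element commuting with a type-`m` `p`-element has its `p`-part of type `n` -/
theorem ppart_n (h : Hyp G m n) {p : ℕ} (hp : p.Prime) {v : G} (hv : (cen v).index = m) {k : ℕ}
    (hvo : orderOf v = p ^ k) {x₁ : G} (hx₁ : (cen x₁).index = n) (hc : v * x₁ = x₁ * v) :
    ∃ x₂ : G, cen x₂ = cen x₁ ∧ ∃ j : ℕ, orderOf x₂ = p ^ j := by
  obtain ⟨a, b, hab, ⟨j, hj⟩, hb⟩ := exists_pparts p hp x₁
  refine ⟨x₁ ^ a, ?_, j, hj⟩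
  have hcb : Commute v (x₁ ^ b) := (show Commute v x₁ from hc).pow_right b
  have hco : (orderOf v).Coprime (orderOf (x₁ ^ b)) := by
    rw [hvo]
    exact Nat.Coprime.pow_left k hb.symm
  have h1 := cen_mul_le_left hcb hco
  have h2 := cen_mul_le_right hcb hco
  have h3 := (type_m_of_le h hv h1).2
  have h4 : cen v ≤ cen (x₁ ^ b) := h3 ▸ h2
  have h5 : (cen (x₁ ^ b)).index ∣ m := hv ▸ Subgroup.index_dvd_of_le h4
  have h6 : cen x₁ ≤ cen (x₁ ^ b) := cen_le_of_mem_zpowers (Subgroup.npow_mem_zpowers x₁ b)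
  have h7 : (cen (x₁ ^ b)).index ∣ n := hx₁ ▸ Subgroup.index_dvd_of_le h6
  have h8 : (cen (x₁ ^ b)).index = 1 := Nat.eq_one_of_dvd_coprimes h.hcop h5 h7
  have h9 : x₁ ^ b ∈ center G := cen_eq_top_iff.mp (Subgroup.index_eq_one.mp h8)
  have h10 : x₁ = x₁ ^ b * x₁ ^ a := by rw [← pow_add, add_comm, pow_add, hab]
  conv_rhs => rw [h10]
  exact (cen_central_mul h9).symm

/-- there is no element of type `m` and of `p`-power order for a prime `p` not dividing `n` -/
theorem no_pelt_m (h : Hyp G m n) {x y : G} (hx : (cen x).index = n) (hy : (cen y).index = m)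
    {p : ℕ} (hp : p.Prime) (hpn : ¬ p ∣ n) {v : G} (hv : (cen v).index = m) {k : ℕ}
    (hvo : orderOf v = p ^ k) : False := by
  have : Fact p.Prime := ⟨hp⟩
  obtain ⟨S, hS⟩ := exists_sylow_le_of_not_dvd_index p (cen x) (by rw [hx]; exact hpn)
  obtain ⟨c, -, hc⟩ := exists_conj_mem_sylow_of_le S ⊤ le_top v (Subgroup.mem_top v) k hvo
  have hv₁ : (cen (c * v * c⁻¹)).index = m := by rw [index_conj]; exact hv
  have hv₁o : orderOf (c * v * c⁻¹) = p ^ k := by
    rw [← hvo, ← MulAut.conj_apply]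
    exact MulEquiv.orderOf_eq _ _
  have hv₁x : (c * v * c⁻¹) * x = x * (c * v * c⁻¹) := mem_cen.mp (hS hc)
  obtain ⟨x₂, hx₂c, j, hx₂o⟩ := ppart_n h hp hv₁ hv₁o hx hv₁x
  have hx₂ : (cen x₂).index = n := by rw [hx₂c]; exact hx
  have hv₁x₂ : (c * v * c⁻¹) * x₂ = x₂ * (c * v * c⁻¹) := by
    have : c * v * c⁻¹ ∈ cen x₂ := by rw [hx₂c]; exact mem_cen.mpr hv₁x
    exact mem_cen.mp this
  obtain ⟨q, hq, hqn⟩ := Nat.exists_prime_and_dvd (show n ≠ 1 from by have := h.hn; omega)
  have : Fact q.Prime := ⟨hq⟩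
  have hqm : ¬ q ∣ m := fun hqm => hq.one_lt.ne' (Nat.eq_one_of_dvd_coprimes h.hcop hqm hqn)
  have hqp : q ≠ p := fun e => hpn (e ▸ hqn)
  obtain ⟨Q, hQ⟩ := exists_sylow_le_of_not_dvd_index q (cen (c * v * c⁻¹))
    (by rw [hv₁]; exact hqm)
  have hQx : (Q : Subgroup G) ≤ cen x₂ := by
    intro u hu
    obtain ⟨i, hi⟩ : ∃ i, orderOf u = q ^ i := by
      obtain ⟨i, hi⟩ := (IsPGroup.iff_orderOf.mp Q.isPGroup') ⟨u, hu⟩
      exact ⟨i, by rw [← hi, ← Subgroup.orderOf_coe]⟩
    have huv : Commute u (c * v * c⁻¹) := mem_cen.mp (hQ hu)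
    have hco : (orderOf u).Coprime (orderOf (c * v * c⁻¹)) := by
      rw [hi, hv₁o]
      exact Nat.Coprime.pow _ _ ((Nat.coprime_primes hq hp).mpr hqp)
    have h1 := cen_mul_le_left huv hco
    have h2 := cen_mul_le_right huv hco
    have h3 := (type_m_of_le h hv₁ h2).2
    have h4 : cen (c * v * c⁻¹) ≤ cen u := h3 ▸ h1
    by_cases hum : (cen u).index = m
    · exfalso
      have h5 : cen (c * v * c⁻¹) = cen u := eq_of_le_of_index_eq _ _ h4 (hv₁.trans hum.symm)
      have hux₂ : Commute u x₂ := by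
        have : x₂ ∈ cen u := by rw [← h5]; exact mem_cen.mpr hv₁x₂.symm
        exact (mem_cen.mp this).symm
      have hco2 : (orderOf u).Coprime (orderOf x₂) := by
        rw [hi, hx₂o]
        exact Nat.Coprime.pow _ _ ((Nat.coprime_primes hq hp).mpr hqp)
      exact false_of_le_both h hum hx₂ (cen_mul_le_left hux₂ hco2) (cen_mul_le_right hux₂ hco2)
    · have hlt : (cen u).index < m := lt_of_le_of_ne (h.htop u) hum
      have hdvd : (cen u).index ∣ m := hv₁ ▸ Subgroup.index_dvd_of_le h4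
      have hcop : ((cen u).index).Coprime n := Nat.Coprime.coprime_dvd_left hdvd h.hcop
      exact mem_cen.mpr (comm_of_small h hy x₂ hx₂ u hlt hcop)
  have h1 : (cen x₂).index ∣ (Q : Subgroup G).index := Subgroup.index_dvd_of_le hQx
  rw [hx₂] at h1
  exact Q.not_dvd_index (hqn.trans h1)

/-- a `p`-element (`p ∤ n`) centralized by the centralizer of a type-`m` element is central -/
theorem ppart_central (h : Hyp G m n) {x y : G} (hx : (cen x).index = n)
    (hy : (cen y).index = m) {p : ℕ} (hp : p.Prime) (hpn : ¬ p ∣ n) {w y₁ : G}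
    (hy₁ : (cen y₁).index = m) (hle : cen y₁ ≤ cen w) {k : ℕ} (hwo : orderOf w = p ^ k) :
    w ∈ center G := by
  have hdvd : (cen w).index ∣ m := hy₁ ▸ Subgroup.index_dvd_of_le hle
  by_cases hwm : (cen w).index = m
  · exact (no_pelt_m h hx hy hp hpn hwm hwo).elim
  · have hlt : (cen w).index < m := lt_of_le_of_ne (h.htop w) hwm
    have hcop : ((cen w).index).Coprime n := Nat.Coprime.coprime_dvd_left hdvd h.hcop
    obtain ⟨f, hfn, hf⟩ := pow_mem_center_of_small h x hx w hlt hcop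
    have h1 : w ^ (p ^ k) ∈ center G := by
      rw [← hwo, pow_orderOf_eq_one]
      exact Subgroup.one_mem _
    have hco : (p ^ k).Coprime f := Nat.Coprime.pow_left k
      (Nat.Coprime.coprime_dvd_right hfn ((Nat.Prime.coprime_iff_not_dvd hp).mpr hpn))
    exact mem_of_pow_mem_coprime _ w _ _ h1 hf hco

/-- a type-`m` element has order coprime to `m` modulo the centre -/
theorem pow_mem_center_m (h : Hyp G m n) {x y : G} (hx : (cen x).index = n)
    (hy : (cen y).index = m) {y₁ : G} (hy₁ : (cen y₁).index = m) :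
    ∃ j : ℕ, j.Coprime m ∧ y₁ ^ j ∈ center G := by
  refine ⟨orderOf (y₁ : G ⧸ center G), ?_, ?_⟩
  · by_contra hnc
    obtain ⟨p, hp, hpj, hpm⟩ := Nat.Prime.not_coprime_iff_dvd.mp hnc
    have hpn : ¬ p ∣ n := fun hpn => hp.one_lt.ne' (Nat.eq_one_of_dvd_coprimes h.hcop hpm hpn)
    obtain ⟨a, b, hab, ⟨k, hk⟩, hb⟩ := exists_pparts p hp y₁
    have hcen : y₁ ^ a ∈ center G := ppart_central h hx hy hp hpn hy₁
      (cen_le_of_mem_zpowers (Subgroup.npow_mem_zpowers y₁ a)) hk
    have h1 : (y₁ : G ⧸ center G) ^ orderOf (y₁ ^ b) = 1 := by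
      have e1 : (y₁ : G ⧸ center G) = ((y₁ ^ b : G) : G ⧸ center G) := by
        conv_lhs => rw [← hab]
        rw [QuotientGroup.mk_mul, (QuotientGroup.eq_one_iff _).mpr hcen, one_mul]
      rw [e1, ← QuotientGroup.mk_pow, pow_orderOf_eq_one]
      rfl
    have hdvd : orderOf (y₁ : G ⧸ center G) ∣ orderOf (y₁ ^ b) := orderOf_dvd_of_pow_eq_one h1
    exact (Nat.Prime.coprime_iff_not_dvd hp).mp hb.symm (hpj.trans hdvd)
  · rw [← QuotientGroup.eq_one_iff, QuotientGroup.mk_pow, pow_orderOf_eq_one]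

/-- `C(x₁) ∩ C(y₁) = Z(G)` for `x₁` of type `n` and `y₁` of type `m` -/
theorem mem_center_of_comm (h : Hyp G m n) {x₁ y₁ : G} (hx₁ : (cen x₁).index = n)
    (hy₁ : (cen y₁).index = m) {w : G} (hwx : w * x₁ = x₁ * w) (hwy : w * y₁ = y₁ * w) :
    w ∈ center G := by
  by_contra hw
  obtain ⟨w', hw'z, r, k, hr, hw'o, hw'Z⟩ :=
    Cfsg.Agent.S4085.exists_ppow_not_mem (center G) (orderOf w) w le_rfl hw
  have hcw : cen w ≤ cen w' := cen_le_of_mem_zpowers hw'z
  have hw'x : w' * x₁ = x₁ * w' := by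
    have : x₁ ∈ cen w' := hcw (mem_cen.mpr hwx.symm)
    exact (mem_cen.mp this).symm
  have hw'y : w' * y₁ = y₁ * w' := by
    have : y₁ ∈ cen w' := hcw (mem_cen.mpr hwy.symm)
    exact (mem_cen.mp this).symm
  have h1 : w' ^ (r ^ k) ∈ center G := by
    rw [← hw'o, pow_orderOf_eq_one]
    exact Subgroup.one_mem _
  by_cases hrn : r ∣ n
  · have hrm : ¬ r ∣ m := fun hrm => hr.one_lt.ne' (Nat.eq_one_of_dvd_coprimes h.hcop hrm hrn)
    obtain ⟨-, -, hxe⟩ := SS_facts h hy₁ x₁ (by rw [hx₁]; exact h.hcop.symm)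
    have he := card_SS_dvd hy₁
    have hco : (Nat.card (SS G m)).Coprime (r ^ k) := Nat.Coprime.pow_right k
      (Nat.Coprime.coprime_dvd_left he ((Nat.Prime.coprime_iff_not_dvd hr).mpr hrm).symm)
    have h2 := cen_mul_le_of_pow hw'x _ _ hxe h1 hco
    have h3 := (type_n_of_le h hx₁ (h2.trans inf_le_right)).2
    have h4 : cen x₁ ≤ cen w' := h3 ▸ (h2.trans inf_le_left)
    have h5 : (cen w').index ∣ n := hx₁ ▸ Subgroup.index_dvd_of_le h4
    obtain ⟨-, -, hwe⟩ := SS_facts h hy₁ w' (Nat.Coprime.coprime_dvd_left h5 h.hcop.symm)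
    exact hw'Z (mem_of_pow_mem_coprime _ w' _ _ hwe h1 hco)
  · obtain ⟨a, b, hab, ⟨j, hj⟩, hb⟩ := exists_pparts r hr y₁
    have hya : y₁ ^ a ∈ center G := ppart_central h hx₁ hy₁ hr hrn hy₁
      (cen_le_of_mem_zpowers (Subgroup.npow_mem_zpowers y₁ a)) hj
    have hyb : cen (y₁ ^ b) = cen y₁ := by
      conv_rhs => rw [← hab]
      exact (cen_central_mul hya).symm
    have hybm : (cen (y₁ ^ b)).index = m := by rw [hyb]; exact hy₁
    have hc : Commute w' (y₁ ^ b) := (show Commute w' y₁ from hw'y).pow_right b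
    have hco : (orderOf w').Coprime (orderOf (y₁ ^ b)) := by
      rw [hw'o]
      exact Nat.Coprime.pow_left k hb.symm
    have h2 := cen_mul_le_left hc hco
    have h3 := cen_mul_le_right hc hco
    have h4 := (type_m_of_le h hybm h3).2
    have h5 : cen (y₁ ^ b) ≤ cen w' := h4 ▸ h2
    exact hw'Z (ppart_central h hx₁ hy₁ hr hrn hybm h5 hw'o)

theorem inf_cen_eq_center (h : Hyp G m n) {x y : G} (hx : (cen x).index = n)
    (hy : (cen y).index = m) : cen x ⊓ cen y = center G := by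
  apply le_antisymm
  · intro w hw
    obtain ⟨h1, h2⟩ := Subgroup.mem_inf.mp hw
    exact mem_center_of_comm h hx hy (mem_cen.mp h1) (mem_cen.mp h2)
  · exact le_inf (center_le_cen x) (center_le_cen y)

theorem index_center (h : Hyp G m n) {x y : G} (hx : (cen x).index = n)
    (hy : (cen y).index = m) : (center G).index = n * m := by
  rw [← inf_cen_eq_center h hx hy, index_inf_of_coprime _ _ (by rw [hx, hy]; exact h.hcop.symm),
    hx, hy]

theorem relIndex_center_m (h : Hyp G m n) {x y : G} (hx : (cen x).index = n)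
    (hy : (cen y).index = m) : (center G).relIndex (cen y) = n := by
  have h1 := Subgroup.relIndex_mul_index (center_le_cen y)
  rw [index_center h hx hy, hy] at h1
  exact Nat.eq_of_mul_eq_mul_right (by have := h.hmn; omega) h1

theorem relIndex_center_n (h : Hyp G m n) {x y : G} (hx : (cen x).index = n)
    (hy : (cen y).index = m) : (center G).relIndex (cen x) = m := by
  have h1 := Subgroup.relIndex_mul_index (center_le_cen x)
  rw [index_center h hx hy, hx, mul_comm n m] at h1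
  exact Nat.eq_of_mul_eq_mul_right (by have := h.hn; omega) h1

omit [Finite G] in
theorem pow_relIndex_mem_center (K : Subgroup G) {u : G} (hu : u ∈ K) :
    u ^ ((center G).relIndex K) ∈ center G := by
  have h1 : (center G).relIndex K = Nat.card (K.map (QuotientGroup.mk' (center G))) := by
    have := Subgroup.relIndex_ker (QuotientGroup.mk' (center G)) (K := K)
    rwa [QuotientGroup.ker_mk'] at this
  rw [h1, ← QuotientGroup.eq_one_iff, QuotientGroup.mk_pow]
  have hmem : (u : G ⧸ center G) ∈ K.map (QuotientGroup.mk' (center G)) :=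
    Subgroup.mem_map_of_mem _ hu
  have := pow_card_eq_one' (G := K.map (QuotientGroup.mk' (center G))) (x := ⟨_, hmem⟩)
  exact congrArg Subtype.val this

theorem pow_n_mem_center (h : Hyp G m n) {x y : G} (hx : (cen x).index = n)
    (hy : (cen y).index = m) {u : G} (hu : u ∈ cen y) : u ^ n ∈ center G := by
  have := pow_relIndex_mem_center (cen y) hu
  rwa [relIndex_center_m h hx hy] at this

theorem pow_m_mem_center (h : Hyp G m n) {x y : G} (hx : (cen x).index = n)
    (hy : (cen y).index = m) {k : G} (hk : k ∈ cen x) : k ^ m ∈ center G := by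
  have := pow_relIndex_mem_center (cen x) hk
  rwa [relIndex_center_n h hx hy] at this

theorem card_cen_m (h : Hyp G m n) {x y : G} (hx : (cen x).index = n)
    (hy : (cen y).index = m) : Nat.card (cen y) = Nat.card (center G) * n := by
  have h1 := Subgroup.relIndex_mul_relIndex ⊥ (center G) (cen y) bot_le (center_le_cen y)
  rw [Subgroup.relIndex_bot_left, Subgroup.relIndex_bot_left, relIndex_center_m h hx hy] at h1
  exact h1.symm

/-- the stabilizer meets the centralizer of a type-`m` element trivially -/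
theorem SS_inf_cen_m (h : Hyp G m n) {x y : G} (hx : (cen x).index = n)
    (hy : (cen y).index = m) {v : G} (hv : (cen v).index = m) {t : G}
    (ht : t ∈ SS G m) (htv : t * v = v * t) : t = 1 := by
  obtain ⟨j, hj, hvj⟩ := pow_mem_center_m h hx hy hv
  have hconj : IsConj v (v * t) := (ht v hv).1
  obtain ⟨c, hc⟩ := isConj_iff.mp hconj
  have h1 : (v * t) ^ j = v ^ j := by
    rw [← hc, conj_pow]
    have := Subgroup.mem_center_iff.mp hvj c
    rw [this]
    group
  have hvt : Commute v t := htv.symm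
  rw [hvt.mul_pow] at h1
  have h2 : t ^ j = 1 := mul_eq_left.mp h1
  have h3 : t ^ Nat.card (SS G m) = 1 := by
    have := pow_card_eq_one' (G := SS G m) (x := ⟨t, ht⟩)
    exact congrArg Subtype.val this
  exact eq_one_of_pow_coprime t _ _ h2 h3 (Nat.Coprime.coprime_dvd_right (card_SS_dvd hy) hj)

/-- the centre of the stabilizer -/
def LL (G : Type*) [Group G] (m : ℕ) : Subgroup G := SS G m ⊓ centralizer (SS G m : Set G)

omit [Finite G] in
instance LL_normal (m : ℕ) : (LL G m).Normal := by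
  unfold LL
  infer_instance

omit [Finite G] in
theorem LL_le_SS (m : ℕ) : LL G m ≤ SS G m := inf_le_left

omit [Finite G] in
theorem LL_comm {m : ℕ} {a b : G} (ha : a ∈ LL G m) (hb : b ∈ LL G m) : a * b = b * a :=
  Subgroup.mem_centralizer_iff.mp (Subgroup.mem_inf.mp hb).2 a (Subgroup.mem_inf.mp ha).1

/-- every element of type `n` lies in `L Z(G)` -/
theorem exists_LL_of_n (h : Hyp G m n) {x y : G} (hx : (cen x).index = n)
    (hy : (cen y).index = m) {a : G} (ha : (cen a).index = n) :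
    ∃ s ∈ LL G m, ∃ z ∈ center G, a = s * z := by
  obtain ⟨hSa, hdiff, -⟩ := SS_facts h hy a (by rw [ha]; exact h.hcop.symm)
  have h1 : a * y * a⁻¹ * y⁻¹ ∈ SS G m := by
    have h3 := (SS_normal (G := G) m).conj_mem _ (hdiff y⁻¹) y
    have e : y * (y⁻¹ * a * y⁻¹⁻¹ * a⁻¹) * y⁻¹ = a * y * a⁻¹ * y⁻¹ := by group
    rwa [e] at h3
  let φ : SS G m → SS G m := fun s => ⟨(s : G) * y * (s : G)⁻¹ * y⁻¹, by
    have h2 := (SS_normal (G := G) m).conj_mem _ ((SS G m).inv_mem s.2) y
    have e : (s : G) * y * (s : G)⁻¹ * y⁻¹ = (s : G) * (y * (s : G)⁻¹ * y⁻¹) := by group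
    rw [e]
    exact (SS G m).mul_mem s.2 h2⟩
  have hinj : Function.Injective φ := by
    intro s₁ s₂ hs
    have hs' : (s₁ : G) * y * (s₁ : G)⁻¹ * y⁻¹ = (s₂ : G) * y * (s₂ : G)⁻¹ * y⁻¹ :=
      Subtype.ext_iff.mp hs
    have h2 : ((s₂ : G)⁻¹ * (s₁ : G)) * y = y * ((s₂ : G)⁻¹ * (s₁ : G)) := by
      calc (s₂ : G)⁻¹ * (s₁ : G) * y
          = (s₂ : G)⁻¹ * ((s₁ : G) * y * (s₁ : G)⁻¹ * y⁻¹) * y * (s₁ : G) := by group
        _ = (s₂ : G)⁻¹ * ((s₂ : G) * y * (s₂ : G)⁻¹ * y⁻¹) * y * (s₁ : G) := by rw [hs']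
        _ = y * ((s₂ : G)⁻¹ * (s₁ : G)) := by group
    have h3 := SS_inf_cen_m h hx hy hy ((SS G m).mul_mem ((SS G m).inv_mem s₂.2) s₁.2) h2
    exact Subtype.ext (inv_mul_eq_one.mp h3).symm
  have hsurj : Function.Surjective φ := Finite.surjective_of_injective hinj
  obtain ⟨s, hs⟩ := hsurj ⟨_, h1⟩
  have hs' : (s : G) * y * (s : G)⁻¹ * y⁻¹ = a * y * a⁻¹ * y⁻¹ := Subtype.ext_iff.mp hs
  have hsa : (s : G) * a = a * (s : G) := mem_cen.mp (hSa s.2)
  have hz : (s : G)⁻¹ * a ∈ center G := by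
    apply mem_center_of_comm h ha hy
    · calc (s : G)⁻¹ * a * a = (s : G)⁻¹ * (a * (s : G)) * (s : G)⁻¹ * a := by group
        _ = (s : G)⁻¹ * ((s : G) * a) * (s : G)⁻¹ * a := by rw [hsa]
        _ = a * ((s : G)⁻¹ * a) := by group
    · calc (s : G)⁻¹ * a * y = (s : G)⁻¹ * (a * y * a⁻¹ * y⁻¹) * y * a := by group
        _ = (s : G)⁻¹ * ((s : G) * y * (s : G)⁻¹ * y⁻¹) * y * a := by rw [hs']
        _ = y * ((s : G)⁻¹ * a) := by group
  refine ⟨s, Subgroup.mem_inf.mpr ⟨s.2, ?_⟩, (s : G)⁻¹ * a, hz, by group⟩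
  rw [Subgroup.mem_centralizer_iff]
  intro t ht
  have c1 : Commute t a := mem_cen.mp (hSa ht)
  have c2 : Commute t ((s : G)⁻¹ * a)⁻¹ :=
    (show Commute t ((s : G)⁻¹ * a) from Subgroup.mem_center_iff.mp hz t).inv_right
  have c3 := c1.mul_right c2
  calc t * (s : G) = t * (a * ((s : G)⁻¹ * a)⁻¹) := by group
    _ = (a * ((s : G)⁻¹ * a)⁻¹) * t := c3.eq
    _ = (s : G) * t := by group

/-- any two elements of type `n` commute -/
theorem comm_of_n_n (h : Hyp G m n) {x y : G} (hx : (cen x).index = n)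
    (hy : (cen y).index = m) {a a' : G} (ha : (cen a).index = n) (ha' : (cen a').index = n) :
    a * a' = a' * a := by
  obtain ⟨s, hs, z, hz, rfl⟩ := exists_LL_of_n h hx hy ha
  obtain ⟨s', hs', z', hz', rfl⟩ := exists_LL_of_n h hx hy ha'
  have c1 : Commute s s' := LL_comm hs hs'
  have c2 : Commute z s' := (Subgroup.mem_center_iff.mp hz s').symm
  have c3 : Commute s z' := Subgroup.mem_center_iff.mp hz' s
  have c4 : Commute z z' := (Subgroup.mem_center_iff.mp hz z').symm
  exact ((c1.mul_right c3).mul_left (c2.mul_right c4)).eq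

end Cfsg.Agent.H72.BHM
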