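import Mathlib
import Cfsg.Agent.H72.BHM2

set_option autoImplicit false

namespace Cfsg.Agent.H72.BHM

open Subgroup Cfsg.Agent.H72.Ito

variable {G : Type*} [Group G]

theorem card_le_mul_of_fibers {α β : Type*} [Finite α] [Finite β] (f : α → β) (c : ℕ)
    (h : ∀ b, Nat.card {a // f a = b} ≤ c) : Nat.card α ≤ Nat.card β * c := by
  classical
  have := Fintype.ofFinite β
  rw [← Nat.card_congr (Equiv.sigmaFiberEquiv f), Nat.card_sigma]
  calc ∑ b, Nat.card {a // f a = b} ≤ ∑ _b : β, c := Finset.sum_le_sum (fun b _ => h b)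
    _ = Nat.card β * c := by simp [Nat.card_eq_fintype_card]

variable [Finite G] {m n : ℕ}

/-- every noncentral element of the centralizer of a type-`m` element has type `m` -/
theorem type_m_of_mem_cen (h : Hyp G m n) {x y : G} (hx : (cen x).index = n)
    (hy : (cen y).index = m) {u : G} (hu : u ∈ cen y) (huZ : u ∉ center G) :
    (cen u).index = m := by
  by_contra hum
  have hun : (cen u).index ≤ n := h.hsec u (lt_of_le_of_ne (h.htop u) hum)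
  obtain ⟨ℓ₀, hℓ₀, z₀, hz₀, hxℓ⟩ := exists_LL_of_n h hx hy hx
  have hcenℓ : cen ℓ₀ = cen x := by
    have e : x = z₀ * ℓ₀ := by
      rw [hxℓ]
      exact Subgroup.mem_center_iff.mp hz₀ ℓ₀
    rw [e]
    exact (cen_central_mul hz₀).symm
  have hLexp : ∀ k ∈ LL G m, k ^ Nat.card (SS G m) = 1 := by
    intro k hk
    have := pow_card_eq_one' (G := SS G m) (x := ⟨k, LL_le_SS m hk⟩)
    exact congrArg Subtype.val this
  have hcoe : n.Coprime (Nat.card (SS G m)) :=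
    Nat.Coprime.coprime_dvd_right (card_SS_dvd hy) h.hcop.symm
  have hLH : ∀ t ∈ LL G m, t ∈ cen y → t = 1 := fun t ht hty =>
    SS_inf_cen_m h hx hy hy (LL_le_SS m ht) (mem_cen.mp hty)
  have huy : u * y = y * u := mem_cen.mp hu
  obtain ⟨U, hU⟩ : ∃ U : G, U = u ^ n := ⟨_, rfl⟩
  have hUc : U ∈ center G := by
    rw [hU]
    exact pow_n_mem_center h hx hy hu
  have hκmem : ∀ t ∈ LL G m, t * u * t⁻¹ * u⁻¹ ∈ LL G m := by
    intro t ht
    have h1 := (LL_normal (G := G) m).conj_mem _ ((LL G m).inv_mem ht) u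
    have e : t * u * t⁻¹ * u⁻¹ = t * (u * t⁻¹ * u⁻¹) := by group
    rw [e]
    exact (LL G m).mul_mem ht h1
  -- (F1)
  have F1 : ∀ t ∈ LL G m, (t * u * t⁻¹ * u⁻¹) * u = u * (t * u * t⁻¹ * u⁻¹) →
      t * u * t⁻¹ * u⁻¹ = 1 := by
    intro t ht hc
    have hkL := hκmem t ht
    obtain ⟨k, hk⟩ : ∃ k : G, k = t * u * t⁻¹ * u⁻¹ := ⟨_, rfl⟩
    rw [← hk] at hc hkL ⊢
    have e1 : t * u * t⁻¹ = k * u := by rw [hk]; group
    have e2 : t * u ^ n * t⁻¹ = k ^ n * u ^ n := by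
      rw [← conj_pow, e1, (show Commute k u from hc).mul_pow]
    have e3 : t * u ^ n * t⁻¹ = u ^ n := by
      rw [← hU]
      have := Subgroup.mem_center_iff.mp hUc t
      rw [this]
      group
    have h4 : k ^ n = 1 := by
      rw [e3] at e2
      exact mul_eq_right.mp e2.symm
    exact eq_one_of_pow_coprime k _ _ h4 (hLexp k hkL) hcoe
  -- the element `c*`
  obtain ⟨P, hP⟩ : ∃ P : G, P = (ℓ₀ * u) ^ n := ⟨_, rfl⟩
  obtain ⟨cs, hcs⟩ : ∃ cs : G, cs = P * U⁻¹ := ⟨_, rfl⟩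
  have hcsL : cs ∈ LL G m := by
    have key : ∀ j : ℕ, (ℓ₀ * u) ^ j * (u ^ j)⁻¹ ∈ LL G m := by
      intro j
      induction j with
      | zero => simp
      | succ j ih =>
        have h1 := (LL_normal (G := G) m).conj_mem _ hℓ₀ (u ^ j)
        have e : (ℓ₀ * u) ^ (j + 1) * (u ^ (j + 1))⁻¹
            = ((ℓ₀ * u) ^ j * (u ^ j)⁻¹) * (u ^ j * ℓ₀ * (u ^ j)⁻¹) := by
          rw [pow_succ, pow_succ]
          group
        rw [e]
        exact (LL G m).mul_mem ih h1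
    rw [hcs, hP, hU]
    exact key n
  have hcsu : cs * u = u * cs := by
    have c1 : Commute cs (ℓ₀ * u) := by
      have a1 : Commute P (ℓ₀ * u) := by
        rw [hP]
        exact (Commute.refl _).pow_left n
      have a2 : Commute U⁻¹ (ℓ₀ * u) :=
        (show Commute (ℓ₀ * u) U from Subgroup.mem_center_iff.mp hUc _).symm.inv_left
      rw [hcs]
      exact a1.mul_left a2
    have c2 : Commute cs ℓ₀ := LL_comm hcsL hℓ₀
    have c3 : Commute cs (ℓ₀⁻¹ * (ℓ₀ * u)) := c2.inv_right.mul_right c1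
    have e : ℓ₀⁻¹ * (ℓ₀ * u) = u := by group
    rw [e] at c3
    exact c3.eq
  have hgn : (cen (u * cs)).index ≤ n := by
    by_cases hcs1 : cs = 1
    · rw [hcs1, mul_one]
      exact hun
    · apply h.hsec
      refine lt_of_le_of_ne (h.htop _) ?_
      intro hgm
      apply hcs1
      refine SS_inf_cen_m h hx hy hgm (LL_le_SS m hcsL) ?_
      rw [← mul_assoc, hcsu]
  -- the key claim on centralizers
  have claimΦ : ∀ a ∈ cen y, ∀ t ∈ LL G m, (a * t) * (u * cs) = (u * cs) * (a * t) →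
      a * u = u * a ∧ a * cs = cs * a ∧ t * u = u * t := by
    intro a ha t ht hat
    have hκL := hκmem t ht
    obtain ⟨κ, hκ⟩ : ∃ κ : G, κ = t * u * t⁻¹ * u⁻¹ := ⟨_, rfl⟩
    rw [← hκ] at hκL
    have htcs : t * cs = cs * t := LL_comm ht hcsL
    have e0 : (a * t) * (u * cs) * (a * t)⁻¹ = u * cs := by rw [hat]; group
    have e2 : t * (u * cs) * t⁻¹ = κ * cs * u := by
      calc t * (u * cs) * t⁻¹ = t * u * t⁻¹ * (t * cs) * t⁻¹ := by group
        _ = t * u * t⁻¹ * (cs * t) * t⁻¹ := by rw [htcs]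
        _ = κ * (u * cs) := by rw [hκ]; group
        _ = κ * (cs * u) := by rw [hcsu]
        _ = κ * cs * u := by group
    have e3 : (a * (κ * cs) * a⁻¹) * (a * u * a⁻¹) = cs * u := by
      calc (a * (κ * cs) * a⁻¹) * (a * u * a⁻¹) = a * (κ * cs * u) * a⁻¹ := by group
        _ = a * (t * (u * cs) * t⁻¹) * a⁻¹ := by rw [e2]
        _ = (a * t) * (u * cs) * (a * t)⁻¹ := by group
        _ = cs * u := by rw [e0, hcsu]
    have hδ : cs⁻¹ * (a * (κ * cs) * a⁻¹) = u * (a * u * a⁻¹)⁻¹ := by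
      calc cs⁻¹ * (a * (κ * cs) * a⁻¹)
          = cs⁻¹ * ((a * (κ * cs) * a⁻¹) * (a * u * a⁻¹)) * (a * u * a⁻¹)⁻¹ := by group
        _ = cs⁻¹ * (cs * u) * (a * u * a⁻¹)⁻¹ := by rw [e3]
        _ = u * (a * u * a⁻¹)⁻¹ := by group
    have hδL : cs⁻¹ * (a * (κ * cs) * a⁻¹) ∈ LL G m :=
      (LL G m).mul_mem ((LL G m).inv_mem hcsL)
        ((LL_normal (G := G) m).conj_mem _ ((LL G m).mul_mem hκL hcsL) a)
    have hδH : cs⁻¹ * (a * (κ * cs) * a⁻¹) ∈ cen y := by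
      rw [hδ]
      exact (cen y).mul_mem hu ((cen y).inv_mem
        ((cen y).mul_mem ((cen y).mul_mem ha hu) ((cen y).inv_mem ha)))
    have hδ1 := hLH _ hδL hδH
    have hau : a * u = u * a := by
      have h5 : u * (a * u * a⁻¹)⁻¹ = 1 := by rw [← hδ, hδ1]
      have h6 : u = a * u * a⁻¹ := mul_inv_eq_one.mp h5
      calc a * u = (a * u * a⁻¹) * a := by group
        _ = u * a := by rw [← h6]
    have h7 : a * (κ * cs) * a⁻¹ = cs := (inv_mul_eq_one.mp hδ1).symm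
    have hau2 : a * u * a⁻¹ = u := by rw [hau]; group
    have h8 : (a * t * a⁻¹) * u * (a * t * a⁻¹)⁻¹ * u⁻¹ = a * κ * a⁻¹ := by
      calc (a * t * a⁻¹) * u * (a * t * a⁻¹)⁻¹ * u⁻¹
          = (a * t * a⁻¹) * (a * u * a⁻¹) * (a * t * a⁻¹)⁻¹ * (a * u * a⁻¹)⁻¹ := by rw [hau2]
        _ = a * κ * a⁻¹ := by rw [hκ]; group
    have h9 : a * κ * a⁻¹ = cs * (a * cs * a⁻¹)⁻¹ := by
      calc a * κ * a⁻¹ = (a * (κ * cs) * a⁻¹) * (a * cs * a⁻¹)⁻¹ := by group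
        _ = cs * (a * cs * a⁻¹)⁻¹ := by rw [h7]
    have h10 : Commute (cs * (a * cs * a⁻¹)⁻¹) u := by
      have c1 : Commute cs u := hcsu
      have c2 : Commute a u := hau
      exact c1.mul_left (((c2.mul_left c1).mul_left c2.inv_left).inv_left)
    have ht' : a * t * a⁻¹ ∈ LL G m := (LL_normal (G := G) m).conj_mem _ ht a
    have h11 := F1 _ ht' (by rw [h8, h9]; exact h10.eq)
    rw [h8] at h11
    have hκ1 : κ = 1 := by
      calc κ = a⁻¹ * (a * κ * a⁻¹) * a := by group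
        _ = 1 := by rw [h11]; group
    have htu : t * u = u * t := by
      calc t * u = (t * u * t⁻¹ * u⁻¹) * u * t := by group
        _ = u * t := by rw [← hκ, hκ1, one_mul]
    have hacs : a * cs = cs * a := by
      have h12 : cs * (a * cs * a⁻¹)⁻¹ = 1 := by rw [← h9, h11]
      have h13 : cs = a * cs * a⁻¹ := mul_inv_eq_one.mp h12
      calc a * cs = (a * cs * a⁻¹) * a := by group
        _ = cs * a := by rw [← h13]
    exact ⟨hau, hacs, htu⟩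
  -- the subgroups
  obtain ⟨A', hA'⟩ : ∃ A' : Subgroup G, A' = cen y ⊓ cen u ⊓ cen cs := ⟨_, rfl⟩
  obtain ⟨CL, hCL⟩ : ∃ CL : Subgroup G, CL = LL G m ⊓ cen u := ⟨_, rfl⟩
  have hA'y : ∀ a ∈ A', a ∈ cen y := fun a ha => by
    rw [hA'] at ha
    exact (Subgroup.mem_inf.mp (Subgroup.mem_inf.mp ha).1).1
  have hA'u : ∀ a ∈ A', a ∈ cen u := fun a ha => by
    rw [hA'] at ha
    exact (Subgroup.mem_inf.mp (Subgroup.mem_inf.mp ha).1).2
  have hA'c : ∀ a ∈ A', a ∈ cen cs := fun a ha => by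
    rw [hA'] at ha
    exact (Subgroup.mem_inf.mp ha).2
  have hCLL : ∀ k ∈ CL, k ∈ LL G m := fun k hk => by
    rw [hCL] at hk
    exact (Subgroup.mem_inf.mp hk).1
  have hCLu : ∀ k ∈ CL, k ∈ cen u := fun k hk => by
    rw [hCL] at hk
    exact (Subgroup.mem_inf.mp hk).2
  have hCLmk : ∀ k : G, k ∈ LL G m → k ∈ cen u → k ∈ CL := fun k h1 h2 => by
    rw [hCL]
    exact Subgroup.mem_inf.mpr ⟨h1, h2⟩
  -- first count
  have keyΦ : ∀ h₁ ∈ cen y, ∀ s ∈ LL G m, ∀ h' ∈ cen y, ∀ s' ∈ LL G m,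
      (h₁ * s) * (u * cs) * (h₁ * s)⁻¹ = (h' * s') * (u * cs) * (h' * s')⁻¹ →
      h'⁻¹ * h₁ ∈ A' ∧ (h'⁻¹ * h₁)⁻¹ * s'⁻¹ * (h'⁻¹ * h₁) * s ∈ CL := by
    intro h₁ hh₁ s hs h' hh' s' hs' heq
    have ha : h'⁻¹ * h₁ ∈ cen y := (cen y).mul_mem ((cen y).inv_mem hh') hh₁
    have ht : (h'⁻¹ * h₁)⁻¹ * s'⁻¹ * (h'⁻¹ * h₁) * s ∈ LL G m := by
      have h1 := (LL_normal (G := G) m).conj_mem _ ((LL G m).inv_mem hs') (h'⁻¹ * h₁)⁻¹
      rw [inv_inv] at h1
      exact (LL G m).mul_mem h1 hs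
    have hat : ((h'⁻¹ * h₁) * ((h'⁻¹ * h₁)⁻¹ * s'⁻¹ * (h'⁻¹ * h₁) * s)) * (u * cs)
        = (u * cs) * ((h'⁻¹ * h₁) * ((h'⁻¹ * h₁)⁻¹ * s'⁻¹ * (h'⁻¹ * h₁) * s)) := by
      calc ((h'⁻¹ * h₁) * ((h'⁻¹ * h₁)⁻¹ * s'⁻¹ * (h'⁻¹ * h₁) * s)) * (u * cs)
          = (h' * s')⁻¹ * ((h₁ * s) * (u * cs) * (h₁ * s)⁻¹) * (h₁ * s) := by group
        _ = (h' * s')⁻¹ * ((h' * s') * (u * cs) * (h' * s')⁻¹) * (h₁ * s) := by rw [heq]
        _ = (u * cs) * ((h'⁻¹ * h₁) * ((h'⁻¹ * h₁)⁻¹ * s'⁻¹ * (h'⁻¹ * h₁) * s)) := by group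
    obtain ⟨c1, c2, c3⟩ := claimΦ _ ha _ ht hat
    refine ⟨?_, ?_⟩
    · rw [hA']
      exact Subgroup.mem_inf.mpr ⟨Subgroup.mem_inf.mpr ⟨ha, mem_cen.mpr c1⟩, mem_cen.mpr c2⟩
    · rw [hCL]
      exact Subgroup.mem_inf.mpr ⟨ht, mem_cen.mpr c3⟩
  have hcount1 : Nat.card (cen y) * Nat.card (LL G m)
      ≤ (cen (u * cs)).index * (Nat.card A' * Nat.card CL) := by
    let Φ : (cen y) × (LL G m) → {v : G // IsConj (u * cs) v} := fun p =>
      ⟨((p.1 : G) * (p.2 : G)) * (u * cs) * ((p.1 : G) * (p.2 : G))⁻¹, isConj_iff.mpr ⟨_, rfl⟩⟩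
    have hfib : ∀ b, Nat.card {p // Φ p = b} ≤ Nat.card A' * Nat.card CL := by
      intro b
      by_cases hb : Nonempty {p // Φ p = b}
      · obtain ⟨⟨p₀, hp₀⟩⟩ := hb
        rw [← Nat.card_prod]
        have key : ∀ p : {p // Φ p = b}, (p₀.1 : G)⁻¹ * (p.1.1 : G) ∈ A' ∧
            ((p₀.1 : G)⁻¹ * (p.1.1 : G))⁻¹ * (p₀.2 : G)⁻¹ * ((p₀.1 : G)⁻¹ * (p.1.1 : G))
              * (p.1.2 : G) ∈ CL := by
          intro p
          exact keyΦ _ p.1.1.2 _ p.1.2.2 _ p₀.1.2 _ p₀.2.2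
            (congrArg Subtype.val (p.2.trans hp₀.symm))
        refine Nat.card_le_card_of_injective (fun p : {p // Φ p = b} =>
          ((⟨_, (key p).1⟩ : A'), (⟨_, (key p).2⟩ : CL))) ?_
        intro p q hpq
        have e1 : (p₀.1 : G)⁻¹ * (p.1.1 : G) = (p₀.1 : G)⁻¹ * (q.1.1 : G) :=
          congrArg (fun z : A' × CL => (z.1 : G)) hpq
        have e2 : ((p₀.1 : G)⁻¹ * (p.1.1 : G))⁻¹ * (p₀.2 : G)⁻¹ * ((p₀.1 : G)⁻¹ * (p.1.1 : G))
              * (p.1.2 : G) = ((p₀.1 : G)⁻¹ * (q.1.1 : G))⁻¹ * (p₀.2 : G)⁻¹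
              * ((p₀.1 : G)⁻¹ * (q.1.1 : G)) * (q.1.2 : G) :=
          congrArg (fun z : A' × CL => (z.2 : G)) hpq
        have e3 : (p.1.1 : G) = (q.1.1 : G) := mul_left_cancel e1
        rw [e3] at e2
        have e4 : (p.1.2 : G) = (q.1.2 : G) := mul_left_cancel e2
        exact Subtype.ext (Prod.ext (Subtype.ext e3) (Subtype.ext e4))
      · rw [not_nonempty_iff] at hb
        simp
    have h1 := card_le_mul_of_fibers Φ _ hfib
    rwa [Nat.card_prod, card_conj] at h1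
  have hcount2 : Nat.card (center G) * Nat.card (LL G m) ≤ Nat.card A' * Nat.card CL := by
    have h1 := card_cen_m h hx hy
    rw [h1] at hcount1
    have h2 : (cen (u * cs)).index * (Nat.card A' * Nat.card CL)
        ≤ n * (Nat.card A' * Nat.card CL) := Nat.mul_le_mul_right _ hgn
    have h3 : n * (Nat.card (center G) * Nat.card (LL G m))
        ≤ n * (Nat.card A' * Nat.card CL) := by
      calc n * (Nat.card (center G) * Nat.card (LL G m))
          = Nat.card (center G) * n * Nat.card (LL G m) := by ring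
        _ ≤ n * (Nat.card A' * Nat.card CL) := hcount1.trans h2
    exact Nat.le_of_mul_le_mul_left h3 (by have := h.hn; omega)
  -- (F2)
  have F2 : ∀ d ∈ A', ∀ k ∈ CL, d * ℓ₀ * d⁻¹ = ℓ₀ * k → k = 1 := by
    intro d hd k hk hdk
    have hd2 : d * u = u * d := mem_cen.mp (hA'u d hd)
    have hd3 : d * cs = cs * d := mem_cen.mp (hA'c d hd)
    have hkL := hCLL k hk
    have hku : k * u = u * k := mem_cen.mp (hCLu k hk)
    have hdu : d * u * d⁻¹ = u := by rw [hd2]; group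
    have e1 : d * (ℓ₀ * u) * d⁻¹ = k * (ℓ₀ * u) := by
      calc d * (ℓ₀ * u) * d⁻¹ = (d * ℓ₀ * d⁻¹) * (d * u * d⁻¹) := by group
        _ = ℓ₀ * k * u := by rw [hdk, hdu]
        _ = k * ℓ₀ * u := by rw [LL_comm hℓ₀ hkL]
        _ = k * (ℓ₀ * u) := by group
    have ck : Commute k (ℓ₀ * u) := (show Commute k ℓ₀ from LL_comm hkL hℓ₀).mul_right hku
    have e2 : d * P * d⁻¹ = k ^ n * P := by
      rw [hP, ← conj_pow, e1, ck.mul_pow]
    have hdU : d * U⁻¹ * d⁻¹ = U⁻¹ := by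
      have := Subgroup.mem_center_iff.mp hUc d
      calc d * U⁻¹ * d⁻¹ = U⁻¹ * (U * d) * U⁻¹ * d⁻¹ := by group
        _ = U⁻¹ * (d * U) * U⁻¹ * d⁻¹ := by rw [this]
        _ = U⁻¹ := by group
    have e3 : d * cs * d⁻¹ = k ^ n * cs := by
      calc d * cs * d⁻¹ = (d * P * d⁻¹) * (d * U⁻¹ * d⁻¹) := by rw [hcs]; group
        _ = k ^ n * P * U⁻¹ := by rw [e2, hdU]
        _ = k ^ n * cs := by rw [hcs]; group
    have e4 : d * cs * d⁻¹ = cs := by rw [hd3]; group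
    have h4 : k ^ n = 1 := by
      rw [e4] at e3
      exact mul_eq_right.mp e3.symm
    exact eq_one_of_pow_coprime k _ _ h4 (hLexp k hkL) hcoe
  -- second count
  have hex : ∃ a ∈ A', ∃ k ∈ CL, a * ℓ₀ * a⁻¹ * k = 1 := by
    let Ψ : A' × CL → LL G m := fun p =>
      ⟨(p.1 : G) * ℓ₀ * (p.1 : G)⁻¹ * (p.2 : G),
        (LL G m).mul_mem ((LL_normal (G := G) m).conj_mem _ hℓ₀ _) (hCLL _ p.2.2)⟩
    have hsurj : Function.Surjective Ψ := by
      refine surj_of_fibers Ψ (Nat.card (center G)) Nat.card_pos ?_ ?_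
      · intro b
        by_cases hb : Nonempty {p // Ψ p = b}
        · obtain ⟨⟨p₀, hp₀⟩⟩ := hb
          have key : ∀ p : {p // Ψ p = b}, (p₀.1 : G)⁻¹ * (p.1.1 : G) ∈ center G := by
            intro p
            have hpp : (p.1.1 : G) * ℓ₀ * (p.1.1 : G)⁻¹ * (p.1.2 : G)
                = (p₀.1 : G) * ℓ₀ * (p₀.1 : G)⁻¹ * (p₀.2 : G) :=
              congrArg Subtype.val (p.2.trans hp₀.symm)
            have hd : (p₀.1 : G)⁻¹ * (p.1.1 : G) ∈ A' := A'.mul_mem (A'.inv_mem p₀.1.2) p.1.1.2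
            have hk : (p₀.1 : G)⁻¹ * ((p₀.2 : G) * (p.1.2 : G)⁻¹) * (p₀.1 : G) ∈ CL := by
              have hkk : (p₀.2 : G) * (p.1.2 : G)⁻¹ ∈ CL := CL.mul_mem p₀.2.2 (CL.inv_mem p.1.2.2)
              refine hCLmk _ ?_ ?_
              · have h1 := (LL_normal (G := G) m).conj_mem _ (hCLL _ hkk) (p₀.1 : G)⁻¹
                rwa [inv_inv] at h1
              · exact (cen u).mul_mem ((cen u).mul_mem ((cen u).inv_mem (hA'u _ p₀.1.2))
                  (hCLu _ hkk)) (hA'u _ p₀.1.2)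
            have hdk : ((p₀.1 : G)⁻¹ * (p.1.1 : G)) * ℓ₀ * ((p₀.1 : G)⁻¹ * (p.1.1 : G))⁻¹
                = ℓ₀ * ((p₀.1 : G)⁻¹ * ((p₀.2 : G) * (p.1.2 : G)⁻¹) * (p₀.1 : G)) := by
              calc ((p₀.1 : G)⁻¹ * (p.1.1 : G)) * ℓ₀ * ((p₀.1 : G)⁻¹ * (p.1.1 : G))⁻¹
                  = (p₀.1 : G)⁻¹ * ((p.1.1 : G) * ℓ₀ * (p.1.1 : G)⁻¹ * (p.1.2 : G))
                    * (p.1.2 : G)⁻¹ * (p₀.1 : G) := by group
                _ = (p₀.1 : G)⁻¹ * ((p₀.1 : G) * ℓ₀ * (p₀.1 : G)⁻¹ * (p₀.2 : G))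
                    * (p.1.2 : G)⁻¹ * (p₀.1 : G) := by rw [hpp]
                _ = ℓ₀ * ((p₀.1 : G)⁻¹ * ((p₀.2 : G) * (p.1.2 : G)⁻¹) * (p₀.1 : G)) := by group
            have hk1 := F2 _ hd _ hk hdk
            rw [hk1, mul_one] at hdk
            have hdx : (p₀.1 : G)⁻¹ * (p.1.1 : G) ∈ cen x := by
              rw [← hcenℓ, mem_cen]
              calc (p₀.1 : G)⁻¹ * (p.1.1 : G) * ℓ₀
                  = (((p₀.1 : G)⁻¹ * (p.1.1 : G)) * ℓ₀ * ((p₀.1 : G)⁻¹ * (p.1.1 : G))⁻¹)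
                    * ((p₀.1 : G)⁻¹ * (p.1.1 : G)) := by group
                _ = ℓ₀ * ((p₀.1 : G)⁻¹ * (p.1.1 : G)) := by rw [hdk]
            exact mem_center_of_comm h hx hy (mem_cen.mp hdx) (mem_cen.mp (hA'y _ hd))
          refine Nat.card_le_card_of_injective
            (fun p : {p // Ψ p = b} => (⟨_, key p⟩ : center G)) ?_
          intro p q hpq
          have e1 : (p₀.1 : G)⁻¹ * (p.1.1 : G) = (p₀.1 : G)⁻¹ * (q.1.1 : G) :=
            congrArg Subtype.val hpq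
          have e3 : (p.1.1 : G) = (q.1.1 : G) := mul_left_cancel e1
          have hpp : (p.1.1 : G) * ℓ₀ * (p.1.1 : G)⁻¹ * (p.1.2 : G)
              = (q.1.1 : G) * ℓ₀ * (q.1.1 : G)⁻¹ * (q.1.2 : G) :=
            congrArg Subtype.val (p.2.trans q.2.symm)
          rw [e3] at hpp
          have e4 : (p.1.2 : G) = (q.1.2 : G) := mul_left_cancel hpp
          exact Subtype.ext (Prod.ext (Subtype.ext e3) (Subtype.ext e4))
        · rw [not_nonempty_iff] at hb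
          simp
      · rw [Nat.card_prod, mul_comm]
        exact hcount2
    obtain ⟨p, hp⟩ := hsurj 1
    exact ⟨p.1, p.1.2, p.2, p.2.2, congrArg Subtype.val hp⟩
  obtain ⟨a, ha, k, hk, hak⟩ := hex
  have hau : Commute a u := mem_cen.mp (hA'u a ha)
  have hku : Commute k u := mem_cen.mp (hCLu k hk)
  have h1 : a * ℓ₀ * a⁻¹ = k⁻¹ := mul_eq_one_iff_eq_inv.mp hak
  have h2 : Commute (a * ℓ₀ * a⁻¹) u := by
    rw [h1]
    exact hku.inv_left
  have h3 : Commute ℓ₀ u := by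
    have c := (hau.inv_left.mul_left h2).mul_left hau
    have e : a⁻¹ * (a * ℓ₀ * a⁻¹) * a = ℓ₀ := by group
    rwa [e] at c
  have hux : u ∈ cen x := by
    rw [← hcenℓ]
    exact mem_cen.mpr h3.eq.symm
  exact huZ (mem_center_of_comm h hx hy (mem_cen.mp hux) huy)

end Cfsg.Agent.H72.BHM
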