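import Mathlib
import Cfsg.Agent.H72.BHM3

set_option autoImplicit false

namespace Cfsg.Agent.H72.BHM

open Subgroup Cfsg.Agent.H72.Ito

variable {G : Type*} [Group G] [Finite G] {m n : ℕ}

/-- there are no noncentral classes of size less than `n` -/
theorem index_ge_n (h : Hyp G m n) {x y : G} (hx : (cen x).index = n)
    (hy : (cen y).index = m) {g : G} (hg : g ∉ center G) : n ≤ (cen g).index := by
  by_contra hlt
  push Not at hlt
  have hex : ∃ w ∈ cen g ⊓ cen y, w ∉ center G := by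
    by_contra hcon
    push Not at hcon
    have e : cen g ⊓ cen y = center G :=
      le_antisymm hcon (le_inf (center_le_cen g) (center_le_cen y))
    have h1 : (cen g).relIndex (cen y) = n := by
      rw [← Subgroup.inf_relIndex_right, e]
      exact relIndex_center_m h hx hy
    have h2 : (cen g).relIndex (cen y) ≤ (cen g).relIndex ⊤ :=
      Subgroup.relIndex_le_of_le_right le_top
        (by rw [Subgroup.relIndex_top_right]; exact Subgroup.index_ne_zero_of_finite)
    rw [Subgroup.relIndex_top_right, h1] at h2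
    omega
  obtain ⟨w, hw, hwZ⟩ := hex
  obtain ⟨hwg, hwy⟩ := Subgroup.mem_inf.mp hw
  have hwm := type_m_of_mem_cen h hx hy hwy hwZ
  have hgw : g ∈ cen w := mem_cen.mpr (mem_cen.mp hwg).symm
  have hgm := type_m_of_mem_cen h hx hwm hgw hg
  have := h.hmn
  omega

omit [Finite G] in
theorem not_mem_center_of_n (h : Hyp G m n) {x : G} (hx : (cen x).index = n) :
    x ∉ center G := by
  intro hxZ
  have e := cen_eq_top_iff.mpr hxZ
  rw [e, Subgroup.index_top] at hx
  have := h.hn
  omega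

omit [Finite G] in
theorem not_mem_center_of_m (h : Hyp G m n) {y : G} (hy : (cen y).index = m) :
    y ∉ center G := by
  intro hyZ
  have e := cen_eq_top_iff.mpr hyZ
  rw [e, Subgroup.index_top] at hy
  have := h.hn
  have := h.hmn
  omega

theorem index_eq_n_iff (h : Hyp G m n) {x y : G} (hx : (cen x).index = n)
    (hy : (cen y).index = m) {g : G} (hg : g ∉ center G) :
    g ∈ cen x ↔ (cen g).index = n := by
  constructor
  · intro hgx
    have hne : (cen g).index ≠ m := by
      intro hgm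
      have hxg : x ∈ cen g := mem_cen.mpr (mem_cen.mp hgx).symm
      have h1 := type_m_of_mem_cen h hx hgm hxg (not_mem_center_of_n h hx)
      have := h.hmn
      omega
    have h1 := h.hsec g (lt_of_le_of_ne (h.htop g) hne)
    have h2 := index_ge_n h hx hy hg
    omega
  · intro hgn
    exact mem_cen.mpr (comm_of_n_n h hx hy hgn hx)

theorem cen_n_comm (h : Hyp G m n) {x y : G} (hx : (cen x).index = n)
    (hy : (cen y).index = m) {a b : G} (ha : a ∈ cen x) (hb : b ∈ cen x) : a * b = b * a := by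
  by_cases haZ : a ∈ center G
  · exact (Subgroup.mem_center_iff.mp haZ b).symm
  by_cases hbZ : b ∈ center G
  · exact Subgroup.mem_center_iff.mp hbZ a
  exact comm_of_n_n h hx hy ((index_eq_n_iff h hx hy haZ).mp ha)
    ((index_eq_n_iff h hx hy hbZ).mp hb)

theorem cen_n_conj (h : Hyp G m n) {x y : G} (hx : (cen x).index = n)
    (hy : (cen y).index = m) {k : G} (hk : k ∈ cen x) (g : G) : g * k * g⁻¹ ∈ cen x := by
  by_cases hkZ : k ∈ center G
  · have e : g * k * g⁻¹ = k := by
      rw [Subgroup.mem_center_iff.mp hkZ g]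
      group
    rw [e]
    exact hk
  · have h1 := (index_eq_n_iff h hx hy hkZ).mp hk
    have h2 : (cen (g * k * g⁻¹)).index = n := by
      rw [index_conj]
      exact h1
    exact (index_eq_n_iff h hx hy (conj_not_mem_center hkZ)).mpr h2

theorem exists_mul_decomp (h : Hyp G m n) {x y : G} (hx : (cen x).index = n)
    (hy : (cen y).index = m) (g : G) : ∃ d ∈ cen y, ∃ k ∈ cen x, g = d * k := by
  obtain ⟨d, hd, hdg⟩ := exists_cen_conj (a := x) (w := y)
    (by rw [hx, hy]; exact h.hcop.symm) g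
  refine ⟨d, hd, d⁻¹ * g, ?_, by group⟩
  rw [mem_cen]
  calc d⁻¹ * g * x = d⁻¹ * (g * x * g⁻¹) * g := by group
    _ = d⁻¹ * (d * x * d⁻¹) * g := by rw [hdg]
    _ = x * (d⁻¹ * g) := by group

theorem mem_center_of_conj_mem (h : Hyp G m n) {x y : G} (hx : (cen x).index = n)
    (hy : (cen y).index = m) {u : G} (hu : u ∈ cen y) (huZ : u ∉ center G) {k : G}
    (hk : k ∈ cen x) (hku : k * u * k⁻¹ ∈ cen y) : k ∈ center G := by
  have hzH : k * u * k⁻¹ * u⁻¹ ∈ cen y := (cen y).mul_mem hku ((cen y).inv_mem hu)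
  have hzK : k * u * k⁻¹ * u⁻¹ ∈ cen x := by
    have h1 := cen_n_conj h hx hy ((cen x).inv_mem hk) u
    have e : k * u * k⁻¹ * u⁻¹ = k * (u * k⁻¹ * u⁻¹) := by group
    rw [e]
    exact (cen x).mul_mem hk h1
  have hz : k * u * k⁻¹ * u⁻¹ ∈ center G :=
    mem_center_of_comm h hx hy (mem_cen.mp hzK) (mem_cen.mp hzH)
  have e1 : k * u * k⁻¹ = (k * u * k⁻¹ * u⁻¹) * u := by group
  have hz1 := central_comm_trivial hz e1 m n (pow_m_mem_center h hx hy hk)
    (pow_n_mem_center h hx hy hu) h.hcop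
  have hku' : k * u = u * k := by
    calc k * u = (k * u * k⁻¹ * u⁻¹) * u * k := by group
      _ = u * k := by rw [hz1, one_mul]
  by_contra hkZ
  have hkn := (index_eq_n_iff h hx hy hkZ).mp hk
  have hum := type_m_of_mem_cen h hx hy hu huZ
  exact hkZ (mem_center_of_comm h hkn hum rfl hku')

theorem mem_of_conj_mem (h : Hyp G m n) {x y : G} (hx : (cen x).index = n)
    (hy : (cen y).index = m) {g h₂ : G} (hh₂ : h₂ ∈ cen y) (hh₂Z : h₂ ∉ center G)
    (hconj : g * h₂ * g⁻¹ ∈ cen y) : g ∈ cen y := by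
  obtain ⟨d, hd, k, hk, rfl⟩ := exists_mul_decomp h hx hy g
  have hku : k * h₂ * k⁻¹ ∈ cen y := by
    have e : k * h₂ * k⁻¹ = d⁻¹ * ((d * k) * h₂ * (d * k)⁻¹) * d := by group
    rw [e]
    exact (cen y).mul_mem ((cen y).mul_mem ((cen y).inv_mem hd) hconj) hd
  exact (cen y).mul_mem hd (center_le_cen y (mem_center_of_conj_mem h hx hy hh₂ hh₂Z hk hku))

theorem cen_eq_of_mem_m (h : Hyp G m n) {x y : G} (hx : (cen x).index = n)
    (hy : (cen y).index = m) {u : G} (hu : u ∈ cen y) (huZ : u ∉ center G) :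
    cen u = cen y := by
  have hum := type_m_of_mem_cen h hx hy hu huZ
  refine eq_of_le_of_index_eq _ _ ?_ (hum.trans hy.symm)
  intro g hg
  refine mem_of_conj_mem h hx hy hu huZ ?_
  have e : g * u * g⁻¹ = u := by
    rw [mem_cen.mp hg]
    group
  rw [e]
  exact hu

theorem cen_m_comm (h : Hyp G m n) {x y : G} (hx : (cen x).index = n)
    (hy : (cen y).index = m) {a b : G} (ha : a ∈ cen y) (hb : b ∈ cen y) : a * b = b * a := by
  by_cases haZ : a ∈ center G
  · exact (Subgroup.mem_center_iff.mp haZ b).symm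
  · have e := cen_eq_of_mem_m h hx hy ha haZ
    have hb' : b ∈ cen a := by
      rw [e]
      exact hb
    exact (mem_cen.mp hb').symm

/-- every element of type `m` lies in a conjugate of `C(y)` -/
theorem exists_conj_mem_cen_m (h : Hyp G m n) {x y : G} (hx : (cen x).index = n)
    (hy : (cen y).index = m) {g : G} (hgm : (cen g).index = m) :
    ∃ c : G, c * g * c⁻¹ ∈ cen y := by
  obtain ⟨q, hq, hqn⟩ := Nat.exists_prime_and_dvd (show n ≠ 1 from by have := h.hn; omega)
  have : Fact q.Prime := ⟨hq⟩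
  have hqm : ¬ q ∣ m := fun hqm => hq.one_lt.ne' (Nat.eq_one_of_dvd_coprimes h.hcop hqm hqn)
  obtain ⟨Q, hQ⟩ := exists_sylow_le_of_not_dvd_index q (cen g) (by rw [hgm]; exact hqm)
  obtain ⟨Q', hQ'⟩ := exists_sylow_le_of_not_dvd_index q (cen y) (by rw [hy]; exact hqm)
  have hex : ∃ w ∈ (Q : Subgroup G), w ∉ center G := by
    by_contra hcon
    push Not at hcon
    have h1 : (center G).index ∣ (Q : Subgroup G).index := Subgroup.index_dvd_of_le hcon
    rw [index_center h hx hy] at h1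
    exact Q.not_dvd_index ((hqn.trans (dvd_mul_right n m)).trans h1)
  obtain ⟨w, hwQ, hwZ⟩ := hex
  obtain ⟨i, hi⟩ : ∃ i, orderOf w = q ^ i := by
    obtain ⟨i, hi⟩ := (IsPGroup.iff_orderOf.mp Q.isPGroup') ⟨w, hwQ⟩
    exact ⟨i, by rw [← hi, ← Subgroup.orderOf_coe]⟩
  obtain ⟨c, -, hc⟩ := exists_conj_mem_sylow_of_le Q' ⊤ le_top w (Subgroup.mem_top w) i hi
  have hcw : c * w * c⁻¹ ∈ cen y := hQ' hc
  have hcen := cen_eq_of_mem_m h hx hy hcw (conj_not_mem_center hwZ)
  refine ⟨c, ?_⟩
  rw [← hcen, mem_cen_conj]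
  have e : c⁻¹ * (c * g * c⁻¹) * c = g := by group
  rw [e]
  exact mem_cen.mpr (mem_cen.mp (hQ hwQ)).symm

end Cfsg.Agent.H72.BHM
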