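import Mathlib
import Cfsg.Agent.H72.BaerBasic
import Cfsg.Agent.H72.ClassSize

/-!
# Lemma T, cyclic Sylow subgroup: abstract group theory
-/

set_option autoImplicit false

namespace Cfsg.Agent.H72.BaerT

universe u

/-- `k ≡ 1 mod p` implies `k ^ (p ^ (n-1)) ≡ 1 mod p ^ n`. -/
theorem pow_modEq_one (p k n : ℕ) (hn : 1 ≤ n) (hk : k ≡ 1 [MOD p]) :
    k ^ p ^ (n - 1) ≡ 1 [MOD p ^ n] := by
  have h1 : (p : ℤ) ∣ (k : ℤ) - 1 := by
    have h := Int.natCast_modEq_iff.mpr hk.symm
    have := Int.modEq_iff_dvd.mp h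
    simpa using this
  have h2 := dvd_sub_pow_of_dvd_sub h1 (n - 1)
  rw [Nat.sub_add_cancel hn, one_pow] at h2
  apply Int.natCast_modEq_iff.mp
  apply Int.ModEq.symm
  apply Int.modEq_iff_dvd.mpr
  push_cast
  exact h2

section abstract

variable {H : Type u} [Group H]

theorem conj_pow_of_conj {x g : H} {k : ℕ} (h : x * g * x⁻¹ = g ^ k) (j : ℕ) :
    x ^ j * g * (x ^ j)⁻¹ = g ^ k ^ j := by
  induction j with
  | zero => simp
  | succ j ih =>
    have e : x ^ (j + 1) * g * (x ^ (j + 1))⁻¹ = x * (x ^ j * g * (x ^ j)⁻¹) * x⁻¹ := by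
      rw [pow_succ']; group
    rw [e, ih]
    have e2 : x * g ^ k ^ j * x⁻¹ = (x * g * x⁻¹) ^ k ^ j := by
      rw [conj_pow]
    rw [e2, h, ← pow_mul, pow_succ']

variable [Finite H] {p : ℕ} [Fact p.Prime]

/-- In a cyclic Sylow `p`-subgroup `⟨g₀⟩` of order `p ^ n`, an element normalizing it and
centralizing `g₀ ^ (p ^ (n-1))` centralizes it. -/
theorem normalizer_le_centralizer_of_cyclic (S : Sylow p H) (g₀ : H) (hg₀ : g₀ ∈ S)
    (hgen : ∀ x ∈ S, x ∈ Subgroup.zpowers g₀) (n : ℕ) (hn : orderOf g₀ = p ^ n)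
    (hz : ∀ x ∈ Subgroup.normalizer ((S : Subgroup H) : Set H),
      x * g₀ ^ p ^ (n - 1) = g₀ ^ p ^ (n - 1) * x) :
    Subgroup.normalizer ((S : Subgroup H) : Set H) ≤ Subgroup.centralizer ((S : Subgroup H) : Set H) := by
  have hp : p.Prime := Fact.out
  intro x hx
  -- it suffices that `x` commutes with `g₀`
  suffices hcomm : x ∈ Subgroup.centralizer ({g₀} : Set H) by
    rw [Subgroup.mem_centralizer_iff]
    intro s hs
    obtain ⟨i, rfl⟩ := Subgroup.mem_zpowers_iff.mp (hgen s hs)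
    have h1 : g₀ * x = x * g₀ := Subgroup.mem_centralizer_iff.mp hcomm g₀ rfl
    exact ((Commute.zpow_left (show Commute g₀ x from h1) i).eq)
  rcases Nat.eq_zero_or_pos n with hn0 | hnpos
  · -- `g₀ = 1`
    rw [hn0, pow_zero, orderOf_eq_one_iff] at hn
    rw [Subgroup.mem_centralizer_iff]
    intro s hs
    rw [Set.mem_singleton_iff] at hs
    rw [hs, hn]; simp
  -- `x g₀ x⁻¹ = g₀ ^ k`
  have h1 : x * g₀ * x⁻¹ ∈ (S : Subgroup H) := by
    have := (Subgroup.mem_normalizer_iff.mp hx g₀).mp hg₀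
    exact this
  obtain ⟨k, hk⟩ := mem_powers_iff_mem_zpowers.mpr (hgen _ h1)
  have hk : x * g₀ * x⁻¹ = g₀ ^ k := hk.symm
  set z := g₀ ^ p ^ (n - 1) with hzdef
  have hzo : orderOf z = p := by
    rw [hzdef, orderOf_pow_of_dvd (pow_ne_zero _ hp.ne_zero) (by rw [hn]; exact pow_dvd_pow p (Nat.sub_le n 1)), hn]
    have : p ^ n = p ^ (n - 1) * p := by rw [← pow_succ, Nat.sub_add_cancel hnpos]
    rw [this, Nat.mul_div_cancel_left _ (pow_pos hp.pos _)]
  have hzk : z ^ k = z := by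
    have e1 : x * z * x⁻¹ = z ^ k := by
      rw [hzdef, ← conj_pow, hk, ← pow_mul, ← pow_mul, mul_comm]
    have e2 : x * z * x⁻¹ = z := by
      rw [hz x hx]; group
    rw [← e1, e2]
  have hk1 : k ≡ 1 [MOD p] := by
    have : z ^ k = z ^ 1 := by rw [hzk, pow_one]
    rw [pow_eq_pow_iff_modEq, hzo] at this
    exact this
  have hk2 := pow_modEq_one p k n hnpos hk1
  -- `x ^ (p ^ (n-1))` centralizes `g₀`
  have h2 : x ^ p ^ (n - 1) ∈ Subgroup.centralizer ({g₀} : Set H) := by
    rw [Subgroup.mem_centralizer_iff]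
    intro s hs
    rw [Set.mem_singleton_iff] at hs
    subst hs
    have h3 := conj_pow_of_conj hk (p ^ (n - 1))
    have h4 : s ^ k ^ p ^ (n - 1) = s ^ 1 := by
      rw [pow_eq_pow_iff_modEq, hn]; exact hk2
    rw [h4, pow_one] at h3
    calc s * x ^ p ^ (n - 1) = (x ^ p ^ (n - 1) * s * (x ^ p ^ (n - 1))⁻¹) * x ^ p ^ (n - 1) := by rw [h3]
      _ = x ^ p ^ (n - 1) * s := by group
  -- decompose `x` into `p`-part and `p'`-part
  obtain ⟨a, b, hab, ⟨j, hj⟩, hb⟩ := Cfsg.Agent.H72.exists_pparts p hp x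
  have hxa : x ^ a ∈ Subgroup.centralizer ({g₀} : Set H) := by
    -- `x ^ a` is a `p`-element normalizing `S`, hence in `S`
    have h3 : IsPGroup p (Subgroup.zpowers (x ^ a)) :=
      IsPGroup.of_card (n := j) (by rw [Nat.card_zpowers, hj])
    have h4 : Subgroup.zpowers (x ^ a) ≤ Subgroup.normalizer ((S : Subgroup H) : Set H) := by
      rw [Subgroup.zpowers_le]
      exact Subgroup.pow_mem _ hx a
    have h5 : Subgroup.zpowers (x ^ a) = Subgroup.zpowers (x ^ a) ⊓ (S : Subgroup H) :=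
      Eq.trans (inf_eq_left.mpr h4).symm (h3.inf_normalizer_sylow S)
    have h6 : x ^ a ∈ (S : Subgroup H) := by
      have : Subgroup.zpowers (x ^ a) ≤ (S : Subgroup H) := by
        rw [h5]; exact inf_le_right
      exact this (Subgroup.mem_zpowers _)
    obtain ⟨i, hi⟩ := Subgroup.mem_zpowers_iff.mp (hgen _ h6)
    rw [Subgroup.mem_centralizer_iff]
    intro s hs
    rw [Set.mem_singleton_iff] at hs
    subst hs
    rw [← hi]
    exact ((Commute.zpow_right (Commute.refl s) i).eq)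
  have hxb : x ^ b ∈ Subgroup.centralizer ({g₀} : Set H) := by
    apply Cfsg.Agent.H72.BHM.mem_of_pow_mem_coprime _ (x ^ b) (p ^ (n - 1)) (orderOf (x ^ b))
    · rw [← pow_mul, mul_comm, pow_mul]
      exact Subgroup.pow_mem _ h2 b
    · rw [pow_orderOf_eq_one]; exact Subgroup.one_mem _
    · exact Nat.Coprime.pow_left _ hb.symm
  rw [← hab]
  exact Subgroup.mul_mem _ hxa hxb

/-- Burnside: a characteristic normal `p`-complement. -/
theorem exists_char_pcomp (S : Sylow p H)
    (hNC : Subgroup.normalizer ((S : Subgroup H) : Set H) ≤ Subgroup.centralizer ((S : Subgroup H) : Set H)) :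
    ∃ M : Subgroup H, M.Normal ∧ (∀ φ : H ≃* H, ∀ m ∈ M, φ m ∈ M) ∧ (Nat.card M).Coprime p ∧
      M.index = Nat.card S := by
  have hp : p.Prime := Fact.out
  have hc := MonoidHom.ker_transferSylow_isComplement' S hNC
  set M := (MonoidHom.transferSylow S hNC).ker with hM
  have hidx : M.index = Nat.card S := hc.symm.index_eq_card
  have hcard : Nat.card M = (S : Subgroup H).index := hc.index_eq_card.symm
  have hco : (Nat.card M).Coprime p := by
    rw [hcard]
    exact ((Nat.Prime.coprime_iff_not_dvd hp).mpr S.not_dvd_index).symm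
  refine ⟨M, inferInstance, ?_, hco, hidx⟩
  intro φ m hm
  obtain ⟨k, hk⟩ := IsPGroup.iff_card.mp S.2
  apply Cfsg.Agent.H72.BHM.mem_of_pow_mem_coprime M (φ m) (p ^ k) (Nat.card M)
  · rw [← hk, ← hidx]; exact Subgroup.pow_index_mem M _
  · rw [← map_pow]
    have : m ^ Nat.card M = 1 := by
      have := pow_card_eq_one' (G := M) (x := ⟨m, hm⟩)
      exact congrArg Subtype.val this
    rw [this, map_one]; exact M.one_mem
  · exact Nat.Coprime.pow_left k hco.symm

end abstract

section abstract2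

variable {H : Type u} [Group H] [Finite H] {p : ℕ} [Fact p.Prime]

/-- In a cyclic group `⟨g₀⟩` of order `p ^ n`, elements of order dividing `p` lie in
`⟨g₀ ^ (p ^ (n-1))⟩`. -/
theorem mem_zpowers_of_pow_eq_one (g₀ : H) (n : ℕ) (hn : orderOf g₀ = p ^ n) (hn1 : 1 ≤ n)
    (y : H) (hy : y ∈ Subgroup.zpowers g₀) (hyp : y ^ p = 1) :
    y ∈ Subgroup.zpowers (g₀ ^ p ^ (n - 1)) := by
  have hp : p.Prime := Fact.out
  obtain ⟨i, rfl⟩ := mem_powers_iff_mem_zpowers.mpr hy
  simp only at hyp ⊢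
  rw [← pow_mul, ← orderOf_dvd_iff_pow_eq_one, hn] at hyp
  have h1 : p ^ n = p ^ (n - 1) * p := by rw [← pow_succ, Nat.sub_add_cancel hn1]
  rw [h1] at hyp
  obtain ⟨t, ht⟩ := Nat.dvd_of_mul_dvd_mul_right hp.pos hyp
  rw [ht, pow_mul]
  exact Subgroup.pow_mem _ (Subgroup.mem_zpowers _) t

/-- If a normal subgroup `M` of index `|S|` is trivial then `H` is a `p`-group, so solvable. -/
theorem isSolvable_of_index_bot (S : Sylow p H) (M : Subgroup H) (hM : M = ⊥)
    (hidx : M.index = Nat.card S) : Group.IsSolvable H := by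
  rw [hM, Subgroup.index_bot] at hidx
  obtain ⟨k, hk⟩ := IsPGroup.iff_card.mp S.2
  have hH : IsPGroup p H := IsPGroup.of_card (n := k) (by rw [hidx, hk])
  have := hH.isNilpotent
  exact IsNilpotent.to_isSolvable

/-- **Cyclic Sylow with `⟨z⟩` normal**: if `⟨g₀ ^ (p ^ (n-1))⟩` is normal in `H` and `H` has
no nontrivial normal `p'`-subgroup, then `H` is solvable. -/
theorem solvable_of_normal_zpowers (S : Sylow p H) (g₀ : H) (hg₀ : g₀ ∈ S)
    (hgen : ∀ x ∈ S, x ∈ Subgroup.zpowers g₀) (n : ℕ) (hn : orderOf g₀ = p ^ n)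
    (hstar : ∀ a : H, a * g₀ ^ p ^ (n - 1) * a⁻¹ ∈ Subgroup.zpowers (g₀ ^ p ^ (n - 1)))
    (hNP : ∀ N : Subgroup H, N.Normal → (Nat.card N).Coprime p → N = ⊥) :
    Group.IsSolvable H := by
  set z := g₀ ^ p ^ (n - 1) with hzdef
  set C := Subgroup.centralizer ({z} : Set H) with hCdef
  have hmemC : ∀ x : H, x ∈ C ↔ z * x = x * z := by
    intro x
    rw [hCdef, Subgroup.mem_centralizer_iff]
    constructor
    · intro h; exact h z rfl
    · intro h s hs; rw [Set.mem_singleton_iff] at hs; rw [hs]; exact h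
  have hCn : C.Normal := by
    constructor
    intro c hc a
    rw [hmemC] at hc ⊢
    have h1 := hstar a⁻¹
    rw [inv_inv] at h1
    obtain ⟨i, hi⟩ := Subgroup.mem_zpowers_iff.mp h1
    have h2 : (a⁻¹ * z * a) * c = c * (a⁻¹ * z * a) := by
      rw [← hi]
      exact ((Commute.zpow_left (show Commute z c from hc) i).eq)
    calc z * (a * c * a⁻¹) = a * ((a⁻¹ * z * a) * c) * a⁻¹ := by group
      _ = a * (c * (a⁻¹ * z * a)) * a⁻¹ := by rw [h2]
      _ = a * c * a⁻¹ * z := by group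
  have hSC : (S : Subgroup H) ≤ C := by
    intro s hs
    rw [hmemC]
    obtain ⟨i, rfl⟩ := Subgroup.mem_zpowers_iff.mp (hgen s hs)
    have h0 : Commute z g₀ := by
      rw [hzdef]; exact (Commute.refl g₀).pow_left _
    exact (h0.zpow_right i).eq
  set SC : Sylow p C := S.subtype hSC with hSCdef
  have hmemSC : ∀ x : C, x ∈ SC ↔ (x : H) ∈ S := by
    intro x
    have : (SC : Subgroup C) = (S : Subgroup H).subgroupOf C := Sylow.coe_subtype S hSC
    show x ∈ (SC : Subgroup C) ↔ _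
    rw [this, Subgroup.mem_subgroupOf]
    rfl
  have hNC : Subgroup.normalizer ((SC : Subgroup C) : Set C) ≤
      Subgroup.centralizer ((SC : Subgroup C) : Set C) := by
    apply normalizer_le_centralizer_of_cyclic SC ⟨g₀, hSC hg₀⟩ ((hmemSC _).mpr hg₀) _ n
    · rw [← Subgroup.orderOf_coe]; exact hn
    · intro x _
      apply Subtype.ext
      have hx := (hmemC x.1).mp x.2
      simp only [Subgroup.coe_mul, Subgroup.coe_pow]
      exact hx.symm
    · intro x hx
      obtain ⟨i, hi⟩ := Subgroup.mem_zpowers_iff.mp (hgen x.1 ((hmemSC x).mp hx))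
      rw [Subgroup.mem_zpowers_iff]
      refine ⟨i, Subtype.ext ?_⟩
      simp only [Subgroup.coe_zpow]
      exact hi
  obtain ⟨M, hMn, hMchar, hMco, hMidx⟩ := exists_char_pcomp SC hNC
  have hM' : (M.map C.subtype).Normal := by
    constructor
    rintro _ ⟨m, hm, rfl⟩ a
    refine ⟨(MulAut.conjNormal a : MulAut C) m, hMchar _ m hm, ?_⟩
    simp [MulAut.conjNormal_apply]
  have hM'co : (Nat.card (M.map C.subtype)).Coprime p := by
    rw [Subgroup.card_map_of_injective C.subtype_injective]; exact hMco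
  have hMbot : M = ⊥ :=
    (Subgroup.map_eq_bot_iff_of_injective M C.subtype_injective).mp (hNP _ hM' hM'co)
  have hCsolv : Group.IsSolvable C := isSolvable_of_index_bot SC M hMbot hMidx
  have hQcomm : ∀ a b : H ⧸ C, a * b = b * a := by
    intro a b
    induction a using QuotientGroup.induction_on with
    | H a =>
    induction b using QuotientGroup.induction_on with
    | H b =>
    rw [← QuotientGroup.mk_mul, ← QuotientGroup.mk_mul, QuotientGroup.eq, hmemC]
    obtain ⟨i, hi⟩ := Subgroup.mem_zpowers_iff.mp (hstar a)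
    obtain ⟨j, hj⟩ := Subgroup.mem_zpowers_iff.mp (hstar b)
    have h1 : (a * b) * z * (a * b)⁻¹ = z ^ (i * j) := by
      have : (a * b) * z * (a * b)⁻¹ = a * (b * z * b⁻¹) * a⁻¹ := by group
      rw [this, ← hj]
      have : a * z ^ j * a⁻¹ = (a * z * a⁻¹) ^ j := by rw [conj_zpow]
      rw [this, ← hi, ← zpow_mul]
    have h2 : (b * a) * z * (b * a)⁻¹ = z ^ (i * j) := by
      have : (b * a) * z * (b * a)⁻¹ = b * (a * z * a⁻¹) * b⁻¹ := by group
      rw [this, ← hi]
      have : b * z ^ i * b⁻¹ = (b * z * b⁻¹) ^ i := by rw [conj_zpow]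
      rw [this, ← hj, ← zpow_mul, mul_comm]
    have h3 : (a * b) * z * (a * b)⁻¹ = (b * a) * z * (b * a)⁻¹ := by rw [h1, h2]
    calc z * ((a * b)⁻¹ * (b * a)) = (a * b)⁻¹ * ((a * b) * z * (a * b)⁻¹) * (b * a) := by group
      _ = (a * b)⁻¹ * ((b * a) * z * (b * a)⁻¹) * (b * a) := by rw [h3]
      _ = (a * b)⁻¹ * (b * a) * z := by group
  have hQsolv : Group.IsSolvable (H ⧸ C) := Group.isSolvable_of_comm hQcomm
  exact Group.isSolvable_of_ker_le_range C.subtype (QuotientGroup.mk' C)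
    (by rw [QuotientGroup.ker_mk', Subgroup.range_subtype])

/-- **Cyclic Sylow 2-subgroup**: if `H` has no nontrivial normal subgroup of odd order, it is
a 2-group, so solvable. -/
theorem solvable_of_cyclic_two [Fact (Nat.Prime 2)] (S : Sylow 2 H) (g₀ : H) (hg₀ : g₀ ∈ S)
    (hgen : ∀ x ∈ S, x ∈ Subgroup.zpowers g₀)
    (hNP : ∀ N : Subgroup H, N.Normal → (Nat.card N).Coprime 2 → N = ⊥) :
    Group.IsSolvable H := by
  obtain ⟨n, hn⟩ : ∃ n, orderOf g₀ = 2 ^ n := by
    obtain ⟨k, hk⟩ := IsPGroup.iff_card.mp S.2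
    have h1 : orderOf g₀ ∣ 2 ^ k := by
      rw [← hk]
      have := orderOf_dvd_natCard (⟨g₀, hg₀⟩ : (S : Subgroup H))
      rwa [← Subgroup.orderOf_coe] at this
    obtain ⟨n, _, hn⟩ := (Nat.dvd_prime_pow Nat.prime_two).mp h1
    exact ⟨n, hn⟩
  have hNC : Subgroup.normalizer ((S : Subgroup H) : Set H) ≤
      Subgroup.centralizer ((S : Subgroup H) : Set H) := by
    apply normalizer_le_centralizer_of_cyclic S g₀ hg₀ hgen n hn
    intro x hx
    rcases Nat.eq_zero_or_pos n with hn0 | hnpos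
    · have : g₀ = 1 := by rw [hn0, pow_zero, orderOf_eq_one_iff] at hn; exact hn
      rw [this]; simp
    set z := g₀ ^ 2 ^ (n - 1) with hzdef
    have hzo : orderOf z = 2 := by
      rw [hzdef, orderOf_pow_of_dvd (pow_ne_zero _ (by norm_num))
        (by rw [hn]; exact pow_dvd_pow 2 (Nat.sub_le n 1)), hn]
      have : 2 ^ n = 2 ^ (n - 1) * 2 := by rw [← pow_succ, Nat.sub_add_cancel hnpos]
      rw [this, Nat.mul_div_cancel_left _ (pow_pos (by norm_num) _)]
    have hzS : z ∈ (S : Subgroup H) := Subgroup.pow_mem _ hg₀ _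
    have h1 : x * z * x⁻¹ ∈ (S : Subgroup H) :=
      (Subgroup.mem_normalizer_iff.mp hx z).mp hzS
    have h2 : (x * z * x⁻¹) ^ 2 = 1 := by
      rw [conj_pow, ← hzo, pow_orderOf_eq_one]; group
    have h3 := mem_zpowers_of_pow_eq_one g₀ n hn hnpos _ (hgen _ h1) h2
    obtain ⟨t, ht⟩ := mem_powers_iff_mem_zpowers.mpr h3
    simp only at ht
    have h4 : x * z * x⁻¹ = z := by
      rw [← ht, ← pow_mod_orderOf, hzo]
      rcases Nat.mod_two_eq_zero_or_one t with h0 | h0
      · exfalso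
        rw [← pow_mod_orderOf, hzo, h0, pow_zero] at ht
        have : z = 1 := by
          have e : z = x⁻¹ * (x * z * x⁻¹) * x := by group
          rw [e, ← ht]; group
        rw [this, orderOf_one] at hzo
        omega
      · rw [h0, pow_one]
    calc x * z = (x * z * x⁻¹) * x := by group
      _ = z * x := by rw [h4]
  obtain ⟨M, hMn, _, hMco, hMidx⟩ := exists_char_pcomp S hNC
  exact isSolvable_of_index_bot S M (hNP M hMn hMco) hMidx

end abstract2

end Cfsg.Agent.H72.BaerT
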