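import Mathlib
import Cfsg.Agent.H72.BaerT7a
import Cfsg.Agent.S3972
import Cfsg.Agent.S0675

/-!
# Lemma T, cyclic Sylow subgroup, `p` odd: the permutation group argument
-/

set_option autoImplicit false
open scoped commutatorElement

namespace Cfsg.Agent.H72.BaerT

universe u

section abstract3

variable {H : Type u} [Group H] [Finite H] {p : ℕ} [Fact p.Prime]

/-- A nontrivial solvable normal subgroup of `H` yields a nontrivial normal `p`-subgroup, if `H`
has no nontrivial normal `p'`-subgroup. -/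
theorem exists_normal_pgroup_of_solvable_normal (N₀ : Subgroup H) [N₀.Normal] (hN₀ : N₀ ≠ ⊥)
    (hsolv : Group.IsSolvable N₀)
    (hNP : ∀ N : Subgroup H, N.Normal → (Nat.card N).Coprime p → N = ⊥) :
    ∃ D : Subgroup H, D.Normal ∧ D ≠ ⊥ ∧ IsPGroup p D := by
  classical
  have hp : p.Prime := Fact.out
  -- a nontrivial normal subgroup inside `N₀` of minimal order
  have hex : ∃ k : ℕ, ∃ D : Subgroup H, D.Normal ∧ D ≠ ⊥ ∧ D ≤ N₀ ∧ Nat.card D = k :=
    ⟨_, N₀, inferInstance, hN₀, le_refl _, rfl⟩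
  obtain ⟨D, hDn, hD1, hDle, hDk⟩ := Nat.find_spec hex
  have hmin : ∀ D' : Subgroup H, D'.Normal → D' ≠ ⊥ → D' ≤ N₀ → Nat.card D ≤ Nat.card D' := by
    intro D' h1 h2 h3
    rw [hDk]
    exact Nat.find_min' hex ⟨D', h1, h2, h3, rfl⟩
  -- `D` is abelian
  have hDsolv : Group.IsSolvable D :=
    Group.isSolvable_of_isSolvable_injective (Subgroup.inclusion_injective hDle)
  have hDnt : Nontrivial D := by
    rw [Subgroup.nontrivial_iff_ne_bot]; exact hD1
  have hcomm_lt : ⁅D, D⁆ < D := by
    have h1 := Group.IsSolvable.commutator_lt_top_of_nontrivial D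
    have h2 : (commutator D).map D.subtype < (⊤ : Subgroup D).map D.subtype :=
      (Subgroup.map_lt_map_iff_of_injective D.subtype_injective).mpr h1
    rw [Subgroup.map_subtype_commutator] at h2
    have h3 : (⊤ : Subgroup D).map D.subtype = D := by
      rw [← MonoidHom.range_eq_map, Subgroup.range_subtype]
    rwa [h3] at h2
  have hcomm_bot : ⁅D, D⁆ = ⊥ := by
    by_contra hne
    have h1 : (⁅D, D⁆ : Subgroup H).Normal := Subgroup.commutator_normal D D
    have h2 := hmin ⁅D, D⁆ h1 hne (hcomm_lt.le.trans hDle)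
    have h3 : Nat.card (⁅D, D⁆ : Subgroup H) < Nat.card D := by
      have hle := Subgroup.card_le_of_le hcomm_lt.le
      rcases hle.lt_or_eq with h | h
      · exact h
      · exact absurd (Subgroup.eq_of_le_of_card_ge hcomm_lt.le h.ge) hcomm_lt.ne
    omega
  have hDcomm : ∀ a ∈ D, ∀ b ∈ D, a * b = b * a := by
    intro a ha b hb
    have h1 : ⁅a, b⁆ ∈ (⁅D, D⁆ : Subgroup H) := Subgroup.commutator_mem_commutator ha hb
    rw [hcomm_bot, Subgroup.mem_bot] at h1
    exact (commutatorElement_eq_one_iff_commute.mp h1).eq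
  -- every prime divisor of `|D|` is `p`
  have hprime : ∀ {r : ℕ}, r.Prime → r ∣ Nat.card D → r = p := by
    intro r hr hrd
    by_contra hrp
    have : Fact r.Prime := ⟨hr⟩
    let Dr : Subgroup H :=
      { carrier := {d | d ∈ D ∧ d ^ r = 1}
        one_mem' := ⟨D.one_mem, one_pow r⟩
        mul_mem' := by
          rintro a b ⟨ha, ha'⟩ ⟨hb, hb'⟩
          refine ⟨D.mul_mem ha hb, ?_⟩
          rw [(show Commute a b from hDcomm a ha b hb).mul_pow, ha', hb', one_mul]
        inv_mem' := by
          rintro a ⟨ha, ha'⟩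
          exact ⟨D.inv_mem ha, by rw [inv_pow, ha', inv_one]⟩ }
    have hDrn : Dr.Normal := by
      constructor
      rintro d ⟨hd, hd'⟩ a
      exact ⟨hDn.conj_mem d hd a, by rw [conj_pow, hd']; group⟩
    have hDrp : IsPGroup r Dr := by
      rintro ⟨d, hd⟩
      refine ⟨1, Subtype.ext ?_⟩
      simp only [pow_one, Subgroup.coe_pow, Subgroup.coe_one]
      exact hd.2
    have hDrco : (Nat.card Dr).Coprime p := by
      obtain ⟨k, hk⟩ := IsPGroup.iff_card.mp hDrp
      rw [hk]
      exact Nat.Coprime.pow_left k ((Nat.coprime_primes hr hp).mpr hrp)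
    have hDrbot := hNP Dr hDrn hDrco
    -- but `D` has an element of order `r`
    obtain ⟨d, hd⟩ := exists_prime_orderOf_dvd_card' (G := D) r hrd
    have hdD : (d : H) ∈ Dr := ⟨d.2, by
      have := pow_orderOf_eq_one d
      rw [hd] at this
      exact congrArg Subtype.val this⟩
    rw [hDrbot, Subgroup.mem_bot] at hdD
    have : d = 1 := Subtype.ext hdD
    rw [this, orderOf_one] at hd
    exact hr.one_lt.ne hd
  refine ⟨D, hDn, hD1, ?_⟩
  have h0 : Nat.card D ≠ 0 := Nat.card_pos.ne'
  exact IsPGroup.of_card (Nat.eq_prime_pow_of_unique_prime_dvd h0 hprime)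

end abstract3

section abstract4

variable {H : Type u} [Group H] [Finite H] {p : ℕ} [Fact p.Prime]

theorem exists_orderOf_eq_pow (S : Sylow p H) (g₀ : H) (hg₀ : g₀ ∈ S) :
    ∃ n, orderOf g₀ = p ^ n := by
  have hp : p.Prime := Fact.out
  obtain ⟨k, hk⟩ := IsPGroup.iff_card.mp S.2
  have h1 : orderOf g₀ ∣ p ^ k := by
    rw [← hk]
    have := orderOf_dvd_natCard (⟨g₀, hg₀⟩ : (S : Subgroup H))
    rwa [← Subgroup.orderOf_coe] at this
  obtain ⟨n, _, hn⟩ := (Nat.dvd_prime_pow hp).mp h1
  exact ⟨n, hn⟩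

/-- **Cyclic Sylow `p`-subgroup, odd order, transitive faithful action on `|S|` points.** -/
theorem solvable_of_perm (S : Sylow p H) (g₀ : H) (hg₀ : g₀ ∈ S)
    (hgen : ∀ x ∈ S, x ∈ Subgroup.zpowers g₀) (hg1 : g₀ ≠ 1) (hodd : Odd (Nat.card H))
    (hNP : ∀ N : Subgroup H, N.Normal → (Nat.card N).Coprime p → N = ⊥)
    (hIH : ∀ N : Subgroup H, N.Normal → N ≠ ⊤ → Group.IsSolvable N)
    {Ω : Type u} [MulAction H Ω] [Finite Ω] [FaithfulSMul H Ω] [MulAction.IsPretransitive H Ω]
    (hcard : Nat.card Ω = orderOf g₀) : Group.IsSolvable H := by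
  classical
  have hp : p.Prime := Fact.out
  obtain ⟨n, hn⟩ := exists_orderOf_eq_pow S g₀ hg₀
  have hn1 : 1 ≤ n := by
    by_contra hcon
    have : n = 0 := by omega
    rw [this, pow_zero, orderOf_eq_one_iff] at hn
    exact hg1 hn
  let _ : Fintype Ω := Fintype.ofFinite Ω
  have hΩ : Fintype.card Ω = p ^ n := by rw [← Nat.card_eq_fintype_card, hcard, hn]
  let φ : H →* Equiv.Perm Ω := MulAction.toPermHom H Ω
  have hφ : Function.Injective φ := MulAction.toPerm_injective
  let G : Subgroup (Equiv.Perm Ω) := φ.range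
  let ψ : H →* G := φ.rangeRestrict
  have hψs : Function.Surjective ψ := φ.rangeRestrict_surjective
  have hψi : Function.Injective ψ := by
    intro a b hab
    apply hφ
    exact congrArg Subtype.val hab
  have hact : ∀ (h : H) (x : Ω), (ψ h) • x = h • x := fun h x => rfl
  have htr : MulAction.IsPretransitive G Ω :=
    ⟨fun x y => by
      obtain ⟨h, hh⟩ := MulAction.exists_smul_eq H x y
      exact ⟨ψ h, hh⟩⟩
  have hGcard : Nat.card G = Nat.card H :=
    (Nat.card_congr (Equiv.ofBijective ψ ⟨hψi, hψs⟩)).symm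
  have h2 : ¬ MulAction.IsMultiplyPretransitive G Ω 2 := by
    intro h2t
    have h3 : 1 < Fintype.card Ω := by
      rw [hΩ]; exact Nat.one_lt_pow (by omega) hp.one_lt
    obtain ⟨x, y, hxy⟩ := Fintype.exists_pair_of_one_lt_card h3
    let e₁ : Fin 2 ↪ Ω := ⟨![x, y], by
      intro i j hij
      fin_cases i <;> fin_cases j <;> simp_all⟩
    let e₂ : Fin 2 ↪ Ω := ⟨![y, x], by
      intro i j hij
      fin_cases i <;> fin_cases j <;> simp_all [eq_comm]⟩
    obtain ⟨σ, hσ⟩ := MulAction.exists_smul_eq G e₁ e₂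
    have hσx : σ • x = y := by
      have h : σ • (e₁ 0) = e₂ 0 := by rw [← Function.Embedding.smul_apply, hσ]
      exact h
    have hσy : σ • y = x := by
      have h : σ • (e₁ 1) = e₂ 1 := by rw [← Function.Embedding.smul_apply, hσ]
      exact h
    have hσodd : Odd (orderOf σ) := by
      rw [← hGcard] at hodd
      exact Odd.of_dvd_nat hodd (orderOf_dvd_natCard σ)
    obtain ⟨k, hk⟩ := hσodd
    have key : ∀ j : ℕ, σ ^ (2 * j) • x = x := by
      intro j
      induction j with
      | zero => simp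
      | succ j ih =>
        rw [Nat.mul_succ, pow_add, mul_smul, pow_two, mul_smul, hσx, hσy, ih]
    have h4 : σ ^ orderOf σ • x = y := by
      rw [hk, pow_succ', mul_smul, key k, hσx]
    rw [pow_orderOf_eq_one, one_smul] at h4
    exact hxy h4
  rcases Nat.lt_or_ge n 2 with hn2 | hn2
  · -- `n = 1`: Burnside's theorem on groups of prime degree
    have hn1' : n = 1 := by omega
    have hα : (Fintype.card Ω).Prime := by rw [hΩ, hn1', pow_one]; exact hp
    rcases Cfsg.Agent.S0675.result hα G with hs | h2t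
    · exact Group.isSolvable_of_isSolvable_injective hψi
    · exact absurd h2t h2
  · -- `n ≥ 2`
    have hgo : orderOf (ψ g₀) = p ^ n := by rw [orderOf_injective ψ hψi, hn]
    have hS := (Cfsg.Agent.S3972.result p n hp hn2 hΩ G htr h2 (ψ g₀) hgo).2
    set z := g₀ ^ p ^ (n - 1) with hzdef
    have hzo : orderOf z = p := by
      rw [hzdef, orderOf_pow_of_dvd (pow_ne_zero _ hp.ne_zero)
        (by rw [hn]; exact pow_dvd_pow p (Nat.sub_le n 1)), hn]
      have : p ^ n = p ^ (n - 1) * p := by rw [← pow_succ, Nat.sub_add_cancel hn1]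
      rw [this, Nat.mul_div_cancel_left _ (pow_pos hp.pos _)]
    have hz1 : z ≠ 1 := by
      intro h
      rw [h, orderOf_one] at hzo
      exact hp.one_lt.ne hzo
    set N₀ := Subgroup.normalClosure ({z} : Set H) with hN₀def
    have hN₀top : N₀ ≠ ⊤ := by
      intro htop
      apply hS
      have hmap : N₀.map ψ = Subgroup.normalClosure ({ψ g₀ ^ p ^ (n - 1)} : Set G) := by
        rw [hN₀def, Subgroup.map_normalClosure _ _ hψs, Set.image_singleton, hzdef, map_pow]
      constructor
      intro x y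
      obtain ⟨h, hh⟩ := MulAction.exists_smul_eq H x y
      have hmem : ψ h ∈ Subgroup.normalClosure ({ψ g₀ ^ p ^ (n - 1)} : Set G) := by
        rw [← hmap]
        exact ⟨h, by rw [htop]; trivial, rfl⟩
      exact ⟨⟨ψ h, hmem⟩, hh⟩
    have hN₀bot : N₀ ≠ ⊥ := by
      intro h
      have : z ∈ N₀ := Subgroup.subset_normalClosure rfl
      rw [h, Subgroup.mem_bot] at this
      exact hz1 this
    have hN₀n : N₀.Normal := Subgroup.normalClosure_normal
    have hN₀s := hIH N₀ hN₀n hN₀top
    obtain ⟨D, hDn, hD1, hDp⟩ := exists_normal_pgroup_of_solvable_normal N₀ hN₀bot hN₀s hNP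
    have hDS : D ≤ (S : Subgroup H) := hDp.le_sylow_of_normal S
    -- an element of order `p` in `D`
    have hpD : p ∣ Nat.card D := by
      obtain ⟨k, hk⟩ := IsPGroup.iff_card.mp hDp
      rcases Nat.eq_zero_or_pos k with h0 | h0
      · exfalso
        rw [h0, pow_zero] at hk
        exact hD1 (Subgroup.card_eq_one.mp hk)
      · rw [hk]; exact dvd_pow_self p h0.ne'
    obtain ⟨d', hd'⟩ := exists_prime_orderOf_dvd_card' (G := D) p hpD
    set d : H := (d' : H) with hddef
    have hdD : d ∈ D := d'.2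
    have hdo : orderOf d = p := by rw [hddef, Subgroup.orderOf_coe]; exact hd'
    have hdp : d ^ p = 1 := by rw [← hdo]; exact pow_orderOf_eq_one d
    have hdz : d ∈ Subgroup.zpowers z :=
      mem_zpowers_of_pow_eq_one g₀ n hn hn1 d (hgen d (hDS hdD)) hdp
    have hzd : z ∈ Subgroup.zpowers d := by
      have hle : Subgroup.zpowers d ≤ Subgroup.zpowers z := Subgroup.zpowers_le.mpr hdz
      have hcardeq : Nat.card (Subgroup.zpowers z) ≤ Nat.card (Subgroup.zpowers d) := by
        rw [Nat.card_zpowers, Nat.card_zpowers, hzo, hdo]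
      rw [Subgroup.eq_of_le_of_card_ge hle hcardeq]
      exact Subgroup.mem_zpowers z
    have hstar : ∀ a : H, a * z * a⁻¹ ∈ Subgroup.zpowers z := by
      intro a
      obtain ⟨t, ht⟩ := Subgroup.mem_zpowers_iff.mp hzd
      have e : a * z * a⁻¹ = (a * d * a⁻¹) ^ t := by rw [conj_zpow, ht]
      rw [e]
      apply Subgroup.zpow_mem
      apply mem_zpowers_of_pow_eq_one g₀ n hn hn1 _ (hgen _ (hDS (hDn.conj_mem d hdD a)))
      rw [conj_pow, hdp]; group
    exact solvable_of_normal_zpowers S g₀ hg₀ hgen n hn hstar hNP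

end abstract4

end Cfsg.Agent.H72.BaerT
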