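import Mathlib
import Cfsg.Agent.H72.BaerT7b

/-!
# Lemma T, piece T7: cyclic Sylow `p`-subgroup
-/

set_option autoImplicit false

namespace Cfsg.Agent.H72.BaerT

universe u

variable {p q : ℕ} {V : Type u} [CommGroup V] [Finite V] {A P : Subgroup (MulAut V)}

omit [Finite V] in
/-- The Sylow subgroup of `↥A` given by `IsSyl`. -/
theorem IsSyl.exists_sylow [Fact p.Prime] (hP : IsSyl p P A) :
    ∃ S : Sylow p A, ∀ x : A, x ∈ S ↔ (x : MulAut V) ∈ P := by
  have h1 : IsPGroup p (P.subgroupOf A) :=
    hP.2.1.of_equiv (Subgroup.subgroupOfEquivOfLe hP.1).symm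
  have h2 : ¬ p ∣ (P.subgroupOf A).index := hP.2.2
  refine ⟨h1.toSylow h2, fun x => ?_⟩
  rw [IsPGroup.mem_toSylow, Subgroup.mem_subgroupOf]

/-- no nontrivial normal `p'`-subgroups, in `↥A`. -/
theorem TH.np (h : TH p q V A) (N : Subgroup A) (hN : N.Normal) (hc : (Nat.card N).Coprime p) :
    N = ⊥ := by
  have h1 : NormalIn (N.map A.subtype) A := by
    refine ⟨Subgroup.map_subtype_le _, ?_⟩
    rintro a ha _ ⟨n, hn, rfl⟩
    exact ⟨⟨a, ha⟩ * n * ⟨a, ha⟩⁻¹, hN.conj_mem n hn ⟨a, ha⟩, by simp⟩
  have h2 : (Nat.card (N.map A.subtype)).Coprime p := by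
    rw [Subgroup.card_map_of_injective A.subtype_injective]; exact hc
  exact (Subgroup.map_eq_bot_iff_of_injective N A.subtype_injective).mp (h.eq_bot_of_coprime h1 h2)

omit [Finite V] in
/-- proper normal subgroups of `↥A` are solvable, in the context `MC`. -/
theorem MC.ih' (h : MC p q V A P) (N : Subgroup A) (hN : N.Normal) (hne : N ≠ ⊤) :
    Group.IsSolvable N := by
  have h1 : NormalIn (N.map A.subtype) A := by
    refine ⟨Subgroup.map_subtype_le _, ?_⟩
    rintro a ha _ ⟨n, hn, rfl⟩
    exact ⟨⟨a, ha⟩ * n * ⟨a, ha⟩⁻¹, hN.conj_mem n hn ⟨a, ha⟩, by simp⟩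
  have h2 : N.map A.subtype ≠ A := by
    intro heq
    apply hne
    rw [eq_top_iff]
    intro x _
    have : (x : MulAut V) ∈ N.map A.subtype := by rw [heq]; exact x.2
    obtain ⟨n, hn, hnx⟩ := this
    have : n = x := Subtype.ext hnx
    rwa [← this]
  have h3 := h.ih _ h1 h2
  exact Group.isSolvable_of_isSolvable_injective
    (f := (N.equivMapOfInjective A.subtype A.subtype_injective).toMonoidHom)
    (N.equivMapOfInjective A.subtype A.subtype_injective).injective

omit [Finite V] in
/-- In the context `MC` with `P` commutative, `P` acts semiregularly on `V ∖ {1}`. -/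
theorem MC.semireg (h : MC p q V A P) (hcomm : ∀ a ∈ P, ∀ b ∈ P, a * b = b * a)
    {g : MulAut V} (hg : g ∈ P) (hg1 : g ≠ 1) {v : V} (hv : g v = v) : v = 1 := by
  have hp := h.th.hp
  have : Fact p.Prime := ⟨hp⟩
  -- order of `g`
  obtain ⟨j, hj⟩ : ∃ j, orderOf g = p ^ j := by
    obtain ⟨k, hk⟩ := h.syl.2.1 ⟨g, hg⟩
    have h1 : g ^ p ^ k = 1 := congrArg Subtype.val hk
    obtain ⟨j, _, hj⟩ := (Nat.dvd_prime_pow hp).mp (orderOf_dvd_of_pow_eq_one h1)
    exact ⟨j, hj⟩
  have hj1 : 1 ≤ j := by
    by_contra hcon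
    have : j = 0 := by omega
    rw [this, pow_zero, orderOf_eq_one_iff] at hj
    exact hg1 hj
  set z := g ^ p ^ (j - 1) with hzdef
  have hz1 : z ≠ 1 := by
    intro hz
    have h1 : orderOf g ∣ p ^ (j - 1) := orderOf_dvd_of_pow_eq_one hz
    rw [hj] at h1
    have h2 := Nat.le_of_dvd (pow_pos hp.pos _) h1
    have h3 : p ^ (j - 1) < p ^ j := Nat.pow_lt_pow_right hp.one_lt (by omega)
    omega
  have hzP : z ∈ P := Subgroup.pow_mem _ hg _
  have hzv : z v = v := by
    rw [hzdef]
    have key : ∀ i : ℕ, (g ^ i) v = v := by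
      intro i
      induction i with
      | zero => simp
      | succ i ih => rw [pow_succ, MulAut.mul_apply, hv, ih]
    exact key _
  exact h.fpf hz1 (fun x hx => hcomm x hx z hzP) hzv

/-- In the context `MC` with `P` commutative: for `v ≠ 1` the `A`-orbit of `v` has `|P|`
elements. -/
theorem MC.card_orbit (h : MC p q V A P) (hcomm : ∀ a ∈ P, ∀ b ∈ P, a * b = b * a)
    {v : V} (hv : v ≠ 1) : Nat.card (MulAction.orbit A v) = Nat.card P := by
  have h1 : MulAction.orbit A v = MulAction.orbit P v := by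
    apply Set.Subset.antisymm
    · rintro _ ⟨a, rfl⟩
      obtain ⟨g, hg, hgv⟩ := h.th.orbit_syl h.syl a.1 a.2 v
      exact mem_orbit_subgroup_iff.mpr ⟨g, hg, hgv.symm⟩
    · exact orbit_subgroup_mono h.syl.1 v
  rw [h1, card_orbit_subgroup]
  have h2 : (MulAction.stabilizer (MulAut V) v).subgroupOf P = ⊥ := by
    rw [Subgroup.subgroupOf_eq_bot, Subgroup.disjoint_def]
    intro g hgs hgP
    by_contra hg1
    exact hv (h.semireg hcomm hgP hg1 (MulAction.mem_stabilizer_iff.mp hgs))
  rw [Subgroup.relIndex, h2, Subgroup.index_bot]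

/-- In the context `MC` with `P` commutative and `p` odd, `A` has odd order. -/
theorem MC.odd_card (h : MC p q V A P) (hcomm : ∀ a ∈ P, ∀ b ∈ P, a * b = b * a)
    (hp2 : p ≠ 2) : Odd (Nat.card A) := by
  have hp := h.th.hp
  have hq := h.th.hq
  by_cases hq2 : q = 2
  · rw [← Nat.coprime_two_right, ← hq2]; exact h.th.hA
  by_contra hodd
  rw [Nat.not_odd_iff_even, even_iff_two_dvd] at hodd
  have : Fact (Nat.Prime 2) := ⟨Nat.prime_two⟩
  obtain ⟨t', ht'⟩ := exists_prime_orderOf_dvd_card' (G := A) 2 hodd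
  set t : MulAut V := (t' : MulAut V) with htdef
  have hto : orderOf t = 2 := by rw [htdef, Subgroup.orderOf_coe]; exact ht'
  have ht2 : t * t = 1 := by rw [← pow_two, ← hto]; exact pow_orderOf_eq_one t
  have ht1 : t ≠ 1 := by
    intro h1
    rw [h1, orderOf_one] at hto
    omega
  obtain ⟨v, hv⟩ : ∃ v : V, t v ≠ v := by
    by_contra hcon
    rw [not_exists] at hcon
    apply ht1
    ext v
    have := hcon v
    rw [not_not] at this
    simpa using this
  set w := v * (t v)⁻¹ with hwdef
  have hw1 : w ≠ 1 := by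
    intro hw
    rw [hwdef, mul_inv_eq_one] at hw
    exact hv hw.symm
  have htw : t w = w⁻¹ := by
    have h1 : t (t v) = v := by
      have : (t * t) v = v := by rw [ht2]; rfl
      exact this
    rw [hwdef, map_mul, map_inv, h1, mul_inv_rev, inv_inv, mul_comm]
  obtain ⟨g, hg, hgw⟩ := h.th.orbit_syl h.syl t t'.2 w
  rw [htw] at hgw
  have hgg : (g * g) w = w := by
    rw [MulAut.mul_apply, ← hgw, map_inv, ← hgw, inv_inv]
  have hgg1 : g * g = 1 := by
    by_contra hne
    exact hw1 (h.semireg hcomm (P.mul_mem hg hg) hne hgg)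
  have hg1 : g = 1 := by
    obtain ⟨k, hk⟩ := h.syl.2.1 ⟨g, hg⟩
    have h1 : g ^ p ^ k = 1 := congrArg Subtype.val hk
    have h2 : g ^ 2 = 1 := by rw [pow_two]; exact hgg1
    have hco : (p ^ k).Coprime 2 := Nat.Coprime.pow_left k ((Nat.coprime_primes hp Nat.prime_two).mpr hp2)
    exact Cfsg.Agent.H72.BHM.eq_one_of_pow_coprime g _ _ h1 h2 hco
  rw [hg1] at hgw
  have hw2 : w ^ 2 = 1 := by
    have : w⁻¹ = w := hgw
    rw [pow_two]
    nth_rewrite 1 [← this]
    exact inv_mul_cancel w
  have hwq : w ^ q = 1 := h.exp w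
  have hco : (2 : ℕ).Coprime q := (Nat.coprime_primes Nat.prime_two hq).mpr (Ne.symm hq2)
  exact hw1 (Cfsg.Agent.H72.BHM.eq_one_of_pow_coprime w _ _ hw2 hwq hco)

/-- **T7**: in the context `MC`, if the Sylow `p`-subgroup `P` is cyclic then `A` is solvable. -/
theorem MC.solvable_of_cyclic (h : MC p q V A P) (hc : IsCyclic P) : Group.IsSolvable A := by
  have hp := h.th.hp
  have : Fact p.Prime := ⟨hp⟩
  obtain ⟨S, hS⟩ := h.syl.exists_sylow
  obtain ⟨g, hg⟩ := hc.exists_generator
  set g₀ : A := ⟨g.1, h.syl.1 g.2⟩ with hg₀def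
  have hg₀S : g₀ ∈ S := (hS g₀).mpr g.2
  have hgen : ∀ x ∈ S, x ∈ Subgroup.zpowers g₀ := by
    intro x hx
    have hxP : (x : MulAut V) ∈ P := (hS x).mp hx
    obtain ⟨i, hi⟩ := Subgroup.mem_zpowers_iff.mp (hg ⟨x.1, hxP⟩)
    rw [Subgroup.mem_zpowers_iff]
    refine ⟨i, Subtype.ext ?_⟩
    have := congrArg Subtype.val hi
    simpa using this
  have hSz : (S : Subgroup A) = Subgroup.zpowers g₀ :=
    le_antisymm hgen (Subgroup.zpowers_le.mpr hg₀S)
  have hScard : Nat.card S = orderOf g₀ := by
    show Nat.card (S : Subgroup A) = _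
    rw [hSz, Nat.card_zpowers]
  have hNP := h.th.np
  have hIH := h.ih'
  by_cases hg1 : g₀ = 1
  · -- `P` trivial: `A` is a `p'`-group, hence trivial
    have hco : (Nat.card (⊤ : Subgroup A)).Coprime p := by
      have h1 : (S : Subgroup A).index = Nat.card A := by
        have := Subgroup.card_mul_index (S : Subgroup A)
        rw [show Nat.card (S : Subgroup A) = 1 from by
          have := hScard; rw [hg1, orderOf_one] at this; exact this, one_mul] at this
        exact this
      rw [Subgroup.card_top, ← h1]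
      exact ((Nat.Prime.coprime_iff_not_dvd hp).mpr S.not_dvd_index).symm
    have htop : (⊤ : Subgroup A) = ⊥ := hNP ⊤ inferInstance hco
    have hall : ∀ a : A, a = 1 := by
      intro a
      have ha : a ∈ (⊤ : Subgroup A) := trivial
      rwa [htop, Subgroup.mem_bot] at ha
    exact Group.isSolvable_of_comm (fun a b => by rw [hall a, hall b])
  by_cases hp2 : p = 2
  · subst hp2
    exact solvable_of_cyclic_two S g₀ hg₀S hgen hNP
  · -- `p` odd
    have hcomm : ∀ a ∈ P, ∀ b ∈ P, a * b = b * a := by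
      intro a ha b hb
      obtain ⟨i, hi⟩ := Subgroup.mem_zpowers_iff.mp (hg ⟨a, ha⟩)
      obtain ⟨j, hj⟩ := Subgroup.mem_zpowers_iff.mp (hg ⟨b, hb⟩)
      have hi' : (g : MulAut V) ^ i = a := by
        have := congrArg Subtype.val hi; simpa using this
      have hj' : (g : MulAut V) ^ j = b := by
        have := congrArg Subtype.val hj; simpa using this
      rw [← hi', ← hj']
      exact (Commute.zpow_zpow_self (g : MulAut V) i j).eq
    have hodd := h.odd_card hcomm hp2
    obtain ⟨v₀, hv₀⟩ : ∃ v₀ : V, v₀ ≠ 1 := by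
      by_contra hcon
      rw [not_exists] at hcon
      apply hg1
      apply Subtype.ext
      ext v
      have h1 : v = 1 := by have := hcon v; rwa [not_not] at this
      rw [h1]; simp
    have hg₀ord : orderOf g₀ = Nat.card P := by
      rw [← orderOf_eq_card_of_forall_mem_zpowers hg, ← Subgroup.orderOf_coe, ← Subgroup.orderOf_coe]
    have hcard : Nat.card (MulAction.orbit A v₀) = orderOf g₀ := by
      rw [h.card_orbit hcomm hv₀, hg₀ord]
    have hfaith : FaithfulSMul A (MulAction.orbit A v₀) := by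
      constructor
      intro a b hab
      set K := (MulAction.toPermHom A (MulAction.orbit A v₀)).ker with hK
      have hKst : K ≤ MulAction.stabilizer A v₀ := by
        intro k hk
        rw [MulAction.mem_stabilizer_iff]
        have h1 : MulAction.toPermHom A (MulAction.orbit A v₀) k = 1 := hk
        have h2 := congrArg (fun σ : Equiv.Perm (MulAction.orbit A v₀) =>
          ((σ ⟨v₀, MulAction.mem_orbit_self v₀⟩ : MulAction.orbit A v₀) : V)) h1
        exact h2
      have hKco : (Nat.card K).Coprime p := by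
        have h1 := Subgroup.card_mul_index (MulAction.stabilizer A v₀)
        rw [MulAction.index_stabilizer, ← Nat.card_coe_set_eq, hcard] at h1
        have h2 := Subgroup.card_mul_index (S : Subgroup A)
        rw [show Nat.card (S : Subgroup A) = orderOf g₀ from hScard] at h2
        have h3 : Nat.card (MulAction.stabilizer A v₀) = (S : Subgroup A).index := by
          have h4 : Nat.card (MulAction.stabilizer A v₀) * orderOf g₀ =
              (S : Subgroup A).index * orderOf g₀ := by rw [h1, mul_comm, h2]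
          exact Nat.eq_of_mul_eq_mul_right (orderOf_pos g₀) h4
        have h5 : (Nat.card (MulAction.stabilizer A v₀)).Coprime p := by
          rw [h3]; exact ((Nat.Prime.coprime_iff_not_dvd hp).mpr S.not_dvd_index).symm
        exact Nat.Coprime.coprime_dvd_left (Subgroup.card_dvd_of_le hKst) h5
      have hKbot : K = ⊥ := hNP K (MonoidHom.normal_ker _) hKco
      have hmem : a⁻¹ * b ∈ K := by
        rw [hK, MonoidHom.mem_ker]
        apply Equiv.ext
        intro x
        have h1 := hab x
        show ((a⁻¹ * b) • x : MulAction.orbit A v₀) = x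
        rw [mul_smul, ← h1, inv_smul_smul]
      rw [hKbot, Subgroup.mem_bot, inv_mul_eq_one] at hmem
      exact hmem
    exact solvable_of_perm S g₀ hg₀S hgen hg1 hodd hNP hIH hcard

end Cfsg.Agent.H72.BaerT
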