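import Mathlib
import Cfsg.Agent.H72.BaerBasic
import Cfsg.Agent.H72.BaerT7
import Cfsg.Agent.H67.BaerT4
import Cfsg.Agent.H64.BaerT5
import Cfsg.Agent.H7.BaerT8
import Cfsg.Agent.H67.BaerT10
import Cfsg.Agent.Helper55.BaerT11
import Cfsg.Agent.S0126
import Cfsg.Agent.H64.BaerT6
import Cfsg.Agent.H7.BaerT9

/-!
# Lemma T (S4125 team project): main induction

A `q'`-group of automorphisms of a finite abelian `q`-group all of whose orbits have `p`-power
size is solvable.  Pieces: T4 (helper67), T5/T6 (helper64), T7 (helper72), T8/T9 (helper7),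
T10 (helper67), T11 (helper55).
-/

set_option autoImplicit false

namespace Cfsg.Agent.H72.BaerT

universe u

/-- existence of a Sylow subgroup in the `IsSyl` sense -/
theorem exists_isSyl {H : Type u} [Group H] [Finite H] (p : ℕ) [Fact p.Prime] (A : Subgroup H) :
    ∃ P : Subgroup H, IsSyl p P A := by
  obtain ⟨S⟩ : Nonempty (Sylow p A) := inferInstance
  refine ⟨(S : Subgroup A).map A.subtype, ?_, ?_, ?_⟩
  · exact Subgroup.map_subtype_le _
  · exact S.2.map A.subtype
  · have h1 : ((S : Subgroup A).map A.subtype).relIndex A = (S : Subgroup A).index := by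
      show (((S : Subgroup A).map A.subtype).comap A.subtype).index = _
      rw [Subgroup.comap_map_eq_self_of_injective A.subtype_injective]
    rw [h1]
    exact S.not_dvd_index

/-- T11: `p = 2`, `P` noncyclic. -/
theorem MC.solvable_two {q : ℕ} {V : Type u} [CommGroup V] [Finite V] {A P : Subgroup (MulAut V)}
    (h : MC 2 q V A P) (hnc : ¬ IsCyclic P) : Group.IsSolvable A :=
  Cfsg.Agent.Helper55.Baer.solvable_two_core h hnc
    (fun {_} _ hι W hne hind hperm htrans =>
      Cfsg.Agent.H64.Baer.MC.solvable_of_blocks h hι W hne hind hperm htrans)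
    (fun E hE hcard hexp => Cfsg.Agent.H64.Baer.MC.solvable_of_elem h E hE hcard hexp)
    (fun hq2 hexp c b m e hm hc he4 he2 hbc hirr =>
      Cfsg.Agent.H7.Baer.card_dvd_sq_of_irr q h.th.hq hq2 hexp c b m e hm hc he4 he2 hbc hirr)
    (fun hexp hcard => Cfsg.Agent.H7.Baer.TH.solvable_of_card_dvd_sq h.th hexp hcard)
    (fun hE => Cfsg.Agent.H67.Baer.exists_cyclic_max h.syl.2.1 hnc hE)

theorem lemmaT_aux (p q : ℕ) : ∀ m : ℕ, ∀ k : ℕ, ∀ (V : Type u) [CommGroup V] [Finite V]
    (A : Subgroup (MulAut V)), Nat.card V = m → Nat.card A = k → TH p q V A →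
    Group.IsSolvable A := by
  intro m
  induction m using Nat.strong_induction_on with
  | _ m IH1 =>
  intro k
  induction k using Nat.strong_induction_on with
  | _ k IH2 =>
  intro V _ _ A hm hk h
  have hp := h.hp
  have : Fact p.Prime := ⟨hp⟩
  by_cases hred : ∃ W : Subgroup V, Inv A W ∧ W ≠ ⊥ ∧ W ≠ ⊤
  · obtain ⟨W, hW, h0, h1⟩ := hred
    refine Cfsg.Agent.H67.Baer.solvable_of_inv h W hW h0 h1 ?_
    intro V' _ _ A' hlt h'
    exact IH1 (Nat.card V') (hm ▸ hlt) (Nat.card A') V' A' rfl rfl h'
  · have hirrA : Irr A := by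
      intro W hW
      by_contra hcon
      rw [not_or] at hcon
      exact hred ⟨W, hW, hcon.1, hcon.2⟩
    obtain ⟨P, hP⟩ := exists_isSyl p A
    have hmc : MC p q V A P :=
      { th := h
        syl := hP
        irr := h.irr_of_syl hP hirrA
        ih := fun N hN hne => by
          have hlt : Nat.card N < Nat.card A := by
            have hle : Nat.card N ≤ Nat.card A := Subgroup.card_le_of_le hN.1
            rcases hle.lt_or_eq with h1 | h1
            · exact h1
            · exact absurd (Subgroup.eq_of_le_of_card_ge hN.1 h1.ge) hne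
          exact IH2 (Nat.card N) (hk ▸ hlt) V N hm rfl (h.of_normalIn hN) }
    by_cases hc : IsCyclic P
    · exact hmc.solvable_of_cyclic hc
    by_cases hp2 : p = 2
    · subst hp2
      exact hmc.solvable_two hc
    · obtain ⟨E', hE'n, hE'e, hE'c⟩ := Cfsg.Agent.S0126.result (R := P) hp2 hP.2.1 hc
      refine Cfsg.Agent.H64.Baer.MC.solvable_of_elem hmc (E'.map P.subtype) ⟨Subgroup.map_subtype_le _, ?_⟩ ?_ ?_
      · rintro g hg _ ⟨e, he, rfl⟩
        refine ⟨(⟨g, hg⟩ : P) * e * (⟨g, hg⟩ : P)⁻¹, hE'n.conj_mem e he ⟨g, hg⟩, ?_⟩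
        simp
      · rw [Subgroup.card_map_of_injective P.subtype_injective]; exact hE'c
      · rintro _ ⟨e, he, rfl⟩
        have := hE'e.2 e he
        rw [← map_pow, this, map_one]

/-- **Lemma T**: a `q'`-group of automorphisms of a finite abelian `q`-group all of whose
orbits have `p`-power size is solvable. -/
theorem lemmaT {V : Type u} [CommGroup V] [Finite V] (p q : ℕ) (A : Subgroup (MulAut V))
    (h : TH p q V A) : Group.IsSolvable A :=
  lemmaT_aux p q (Nat.card V) (Nat.card A) V A rfl rfl h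

end Cfsg.Agent.H72.BaerT
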