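import Mathlib
import Cfsg.Agent.H42.EqDefs
import Cfsg.Agent.H86.Ev2Defs

/-!
# S5988 (helper42's team project), the line `r = 2`, `q` odd: exact statements of the two
sub-pieces EQ-R2a / EQ-R2b used by the assembly `Cfsg.Agent.H72.Eq.r2` (file `H72/EqR2.lean`).

`perp` is helper45's, `Plus` is helper95's (`Cfsg.Agent.H95.Oh.Plus`).
-/

set_option autoImplicit false

namespace Cfsg.Agent.H72.Eq

open Cfsg.Agent.H45 Cfsg.Agent.H95.Oh Module

universe u v

/-- EQ-R2a (abstract): an isometry `T` with `T * T = -1` of a nondegenerate symmetric bilinear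
space over a finite field of odd characteristic.  If `-1` is a square, every invariant
nondegenerate subspace is of plus type.  If `-1` is a nonsquare, an invariant nondegenerate
subspace `W` is of plus type iff `4 ∣ dim W`, and there are invariant nondegenerate subspaces of
every even dimension `2 t ≤ dim V`. -/
def StR2a : Prop :=
  ∀ (F : Type u) [Field F] [Fintype F] (V : Type v) [AddCommGroup V] [Module F V]
    [FiniteDimensional F V] (B : V →ₗ[F] V →ₗ[F] F) (T : Module.End F V),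
    (2 : F) ≠ 0 → (∀ x y, B x y = B y x) → (∀ x, (∀ y, B x y = 0) → x = 0) →
    (∀ x y, B (T x) (T y) = B x y) → T * T = -1 →
    (IsSquare (-1 : F) →
      ∀ W : Submodule F V, W ∈ T.invtSubmodule → W ⊓ perp B W = ⊥ → Plus B W) ∧
    (¬ IsSquare (-1 : F) →
      (∀ W : Submodule F V, W ∈ T.invtSubmodule → W ⊓ perp B W = ⊥ →
        (Plus B W ↔ Module.finrank F W % 4 = 0)) ∧
      (∀ t : ℕ, 2 * t ≤ Module.finrank F V →
        ∃ W : Submodule F V, W ∈ T.invtSubmodule ∧ W ⊓ perp B W = ⊥ ∧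
          Module.finrank F W = 2 * t))

/-- EQ-R2b: `Ω⁺_{2d}(q)`, `q` odd, contains an element squaring to `-1` iff `d` is even or
`q ≡ 1 (mod 8)`. -/
def StR2b : Prop :=
  ∀ (F : Type u) [Field F] [Fintype F] (d : ℕ), (2 : F) ≠ 0 → 1 ≤ d →
    ((∃ x : Matrix.GeneralLinearGroup (Fin d ⊕ Fin d) F,
        x ∈ Cfsg.Geo.omegaGL (Cfsg.quadFormPlus d F) ∧
        (x : Matrix (Fin d ⊕ Fin d) (Fin d ⊕ Fin d) F) *
          (x : Matrix (Fin d ⊕ Fin d) (Fin d ⊕ Fin d) F) = -1) ↔
      (Even d ∨ Fintype.card F % 8 = 1))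

end Cfsg.Agent.H72.Eq
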