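import Mathlib
import Cfsg.Agent.H72.Four1

set_option autoImplicit false

namespace Cfsg.Agent.H72.Four

open Subgroup Cfsg.Agent.H72 Cfsg.Agent.H72.Ito Cfsg.Agent.H72.BHM

variable {G : Type*} [Group G]

/-- If every `p'`-element has a class of size prime to `p`, the group is the direct product
of its (normal) Sylow `p`-subgroup and the normal subgroup of `p'`-elements. -/
theorem exists_direct_of_classes {X : Type*} [Group X] [Finite X] (p : ℕ) [Fact p.Prime]
    (h : ∀ y : X, (orderOf y).Coprime p → ¬ p ∣ (cen y).index) :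
    ∃ H : Subgroup X, H.Normal ∧ (∃ k : ℕ, H.index = p ^ k) ∧
      (∀ y : X, y ∈ H ↔ (orderOf y).Coprime p) ∧
      (∀ x y : X, PE p x → (orderOf y).Coprime p → x * y = y * x) ∧
      (∀ P : Sylow p X, (P : Subgroup X).Normal) := by
  have hp : p.Prime := Fact.out
  obtain ⟨P₀⟩ : Nonempty (Sylow p X) := inferInstance
  set Z : Subgroup X := Subgroup.centralizer ((P₀ : Subgroup X) : Set X) with hZ
  -- every element is conjugate into `P₀ * C(P₀)`
  have hcover : ∀ z : X, ∃ k : X, ∃ u ∈ (P₀ : Subgroup X), ∃ c ∈ Z, k⁻¹ * z * k = u * c := by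
    intro z
    obtain ⟨a, b, hab, ⟨j, hj⟩, hb⟩ := exists_pparts p hp z
    obtain ⟨S, hS⟩ := exists_sylow_le_of_not_dvd_index p _ (h (z ^ b) hb)
    have hcomm : z ^ a ∈ Subgroup.centralizer ({z ^ b} : Set X) := by
      rw [Subgroup.mem_centralizer_singleton_iff]
      exact (Commute.pow_pow_self z a b).eq
    obtain ⟨c, hc, hcu⟩ := exists_conj_mem_sylow_of_le S _ hS (z ^ a) hcomm j hj
    obtain ⟨g, hg⟩ := MulAction.exists_smul_eq X P₀ S
    have hc' : c * z ^ b = z ^ b * c := Subgroup.mem_centralizer_singleton_iff.mp hc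
    refine ⟨c⁻¹ * g, g⁻¹ * (c * z ^ a * c⁻¹) * g, ?_, g⁻¹ * z ^ b * g, ?_, ?_⟩
    · have h1 : c * z ^ a * c⁻¹ ∈ (g • P₀ : Sylow p X) := by rw [hg]; exact hcu
      exact mem_sylow_smul.mp h1
    · rw [hZ, Subgroup.mem_centralizer_iff]
      intro w hw
      have h1 : g * w * g⁻¹ ∈ (g • P₀ : Sylow p X) := by
        rw [mem_sylow_smul]
        have e : g⁻¹ * (g * w * g⁻¹) * g = w := by group
        rw [e]; exact hw
      rw [hg] at h1
      have h2 := Subgroup.mem_centralizer_singleton_iff.mp (hS h1)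
      calc w * (g⁻¹ * z ^ b * g) = g⁻¹ * (g * w * g⁻¹ * z ^ b) * g := by group
        _ = g⁻¹ * (z ^ b * (g * w * g⁻¹)) * g := by rw [h2]
        _ = g⁻¹ * z ^ b * g * w := by group
    · have e1 : (c⁻¹ * g)⁻¹ * z * (c⁻¹ * g) = g⁻¹ * (c * z * c⁻¹) * g := by group
      have hcm : Commute c (z ^ b) := hc'
      have e2 : c * z * c⁻¹ = (c * z ^ a * c⁻¹) * z ^ b := by
        conv_lhs => rw [← hab]
        rw [mul_assoc c, mul_assoc c, mul_assoc (z ^ a), ← hcm.inv_left.eq]
        simp only [mul_assoc]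
      rw [e1, e2]
      simp only [mul_assoc, mul_inv_cancel_left]
  have hM : (P₀ : Subgroup X) ⊔ Z = ⊤ := by
    apply eq_top_of_conj_cover
    intro z
    obtain ⟨k, u, hu, c, hc, hk⟩ := hcover z
    exact ⟨k, hk ▸ Subgroup.mul_mem_sup hu hc⟩
  have hP₀n : (P₀ : Subgroup X).Normal := by
    rw [← Subgroup.normalizer_eq_top_iff, eq_top_iff, ← hM]
    exact sup_le Subgroup.le_normalizer (Subgroup.centralizer_le_normalizer _)
  have hdec : ∀ z : X, ∃ u ∈ (P₀ : Subgroup X), ∃ c ∈ Z, z = u * c := by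
    intro z
    have hz : z ∈ (((P₀ : Subgroup X) ⊔ Z : Subgroup X) : Set X) := by
      rw [hM]; trivial
    rw [Subgroup.normal_mul] at hz
    obtain ⟨u, hu, c, hc, rfl⟩ := Set.mem_mul.mp hz
    exact ⟨u, hu, c, hc, rfl⟩
  obtain ⟨k, hk⟩ := IsPGroup.iff_card.mp P₀.isPGroup'
  have hcop : (Nat.card (P₀ : Subgroup X)).Coprime (P₀ : Subgroup X).index := by
    rw [hk]
    exact Nat.Coprime.pow_left k ((Nat.Prime.coprime_iff_not_dvd hp).mpr P₀.not_dvd_index)
  obtain ⟨H, hH⟩ := Subgroup.exists_left_complement'_of_coprime hcop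
  have hHcard : Nat.card H = (P₀ : Subgroup X).index := hH.index_eq_card.symm
  have hHidx : H.index = p ^ k := by rw [hH.symm.index_eq_card, hk]
  have hHco : (Nat.card H).Coprime p := by
    rw [hHcard, Nat.coprime_comm]
    exact (Nat.Prime.coprime_iff_not_dvd hp).mpr P₀.not_dvd_index
  have hHZ : H ≤ Z := by
    intro h hh
    obtain ⟨u, hu, c, hc, rfl⟩ := hdec h
    have hcomm : Commute u c := by
      have := (Subgroup.mem_centralizer_iff.mp hc) u hu
      exact this
    have hu1 : u ^ (p ^ k) = 1 := by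
      have := pow_card_eq_one' (x := (⟨u, hu⟩ : (P₀ : Subgroup X)))
      rw [hk] at this
      have := congrArg Subtype.val this
      simpa using this
    have h1 : (u * c) ^ (p ^ k) ∈ Z := by
      rw [hcomm.mul_pow, hu1, one_mul]
      exact Subgroup.pow_mem _ hc _
    have h2 : (p ^ k).Coprime (orderOf (u * c)) := by
      apply Nat.Coprime.pow_left
      have h3 : orderOf (u * c) ∣ Nat.card H := by
        have := orderOf_dvd_natCard (⟨u * c, hh⟩ : H)
        rwa [← Subgroup.orderOf_coe] at this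
      exact (Nat.Coprime.coprime_dvd_left h3 hHco).symm
    obtain ⟨m, hm⟩ := exists_pow_eq_self_of_coprime h2
    rw [← hm]
    exact Subgroup.pow_mem _ h1 m
  have hHn : H.Normal := by
    refine ⟨fun h hh x => ?_⟩
    obtain ⟨⟨h', u'⟩, hx, -⟩ := (Subgroup.isComplement'_def.mp hH).existsUnique x
    simp only at hx
    have hcomm : (u' : X) * h = h * (u' : X) :=
      (Subgroup.mem_centralizer_iff.mp (hHZ hh)) u' u'.2
    have e : x * h * x⁻¹ = (h' : X) * h * (h' : X)⁻¹ := by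
      rw [← hx]
      calc (h' : X) * (u' : X) * h * ((h' : X) * (u' : X))⁻¹
          = (h' : X) * ((u' : X) * h) * (u' : X)⁻¹ * (h' : X)⁻¹ := by group
        _ = (h' : X) * (h * (u' : X)) * (u' : X)⁻¹ * (h' : X)⁻¹ := by rw [hcomm]
        _ = (h' : X) * h * (h' : X)⁻¹ := by group
    rw [e]
    exact H.mul_mem (H.mul_mem h'.2 hh) (H.inv_mem h'.2)
  have hHall : ∀ y : X, (orderOf y).Coprime p → y ∈ H := by
    intro y hy
    have h1 : y ^ (p ^ k) ∈ H := by
      rw [← hHidx]; exact Subgroup.pow_index_mem H y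
    have h2 : (p ^ k).Coprime (orderOf y) := Nat.Coprime.pow_left k hy.symm
    obtain ⟨m, hm⟩ := exists_pow_eq_self_of_coprime h2
    rw [← hm]
    exact Subgroup.pow_mem _ h1 m
  refine ⟨H, hHn, ⟨k, hHidx⟩, ?_, ?_, sylow_normal_of_one P₀ hP₀n⟩
  · intro y
    refine ⟨fun hy => ?_, hHall y⟩
    have h3 : orderOf y ∣ Nat.card H := by
      have := orderOf_dvd_natCard (⟨y, hy⟩ : H)
      rwa [← Subgroup.orderOf_coe] at this
    exact Nat.Coprime.coprime_dvd_left h3 hHco
  · intro x y hx hy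
    have hxP : x ∈ P₀ := mem_of_normal_sylow P₀ hP₀n hx
    exact ((Subgroup.mem_centralizer_iff.mp (hHZ (hHall y hy))) x hxP)

/-- Itô's two-class-size theorem, the facts we need. -/
theorem ito_summary {K : Type*} [Group K] [Finite K] {m : ℕ}
    (h : ∀ x : K, (cen x).index = 1 ∨ (cen x).index = m) {x₀ : K} (hx₀ : x₀ ∉ center K) :
    ∃ q : ℕ, q.Prime ∧ (∀ g : K, (orderOf g).Coprime q → g ∈ center K) ∧
      (∀ C : Subgroup K, center K ≤ C → ∃ a : ℕ, C.index = q ^ a) ∧
      ∀ Q : Sylow q K, (Q : Subgroup K).Normal := by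
  obtain ⟨p, hp, hpdvd⟩ := exists_prime_dvd_orderOf h hx₀
  have hfact : Fact p.Prime := ⟨hp⟩
  have hcoZ : ∀ g : K, (orderOf g).Coprime p → g ∈ center K := by
    intro g hg
    by_contra hgZ
    exact (Nat.Prime.coprime_iff_not_dvd hp).mp hg.symm (hpdvd g hgZ)
  have hidx : ∀ H : Subgroup K, center K ≤ H → ∃ a : ℕ, H.index = p ^ a := by
    intro H hH
    refine ⟨_, Nat.eq_prime_pow_of_unique_prime_dvd Subgroup.index_ne_zero_of_finite ?_⟩
    intro ℓ hℓ hℓd
    by_contra hne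
    have : Fact ℓ.Prime := ⟨hℓ⟩
    obtain ⟨L⟩ : Nonempty (Sylow ℓ K) := inferInstance
    have hL : (L : Subgroup K) ≤ center K := by
      intro s hs
      apply hcoZ
      obtain ⟨j, hj⟩ := (IsPGroup.iff_orderOf.mp L.isPGroup') ⟨s, hs⟩
      rw [← Subgroup.orderOf_coe] at hj
      rw [hj]
      exact Nat.Coprime.pow_left _ ((Nat.coprime_primes hℓ hp).mpr hne)
    exact L.not_dvd_index (hℓd.trans (Subgroup.index_dvd_of_le (hL.trans hH)))
  refine ⟨p, hp, hcoZ, hidx, ?_⟩
  intro P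
  have hPZ : (P : Subgroup K) ⊔ center K = ⊤ := by
    obtain ⟨b, hb⟩ := hidx ((P : Subgroup K) ⊔ center K) le_sup_right
    have hd : ((P : Subgroup K) ⊔ center K).index ∣ (P : Subgroup K).index :=
      Subgroup.index_dvd_of_le le_sup_left
    have hb0 : b = 0 := by
      by_contra hb0
      apply P.not_dvd_index
      refine Dvd.dvd.trans ?_ hd
      rw [hb]; exact dvd_pow_self p hb0
    rw [hb0, pow_zero] at hb
    exact Subgroup.index_eq_one.mp hb
  rw [← normalizer_eq_top_iff, eq_top_iff, ← hPZ]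
  exact sup_le le_normalizer (Subgroup.center_le_normalizer _)

/-- Sylow subgroups for primes not dividing `n * m` are central -/
theorem central_of_not_dvd [Finite G] {n m : ℕ} (h : CS G n m) {r : ℕ} (hr : r.Prime)
    (hrn : ¬ r ∣ n) (hrm : ¬ r ∣ m) {w : G} (hw : PE r w) : w ∈ center G := by
  have : Fact r.Prime := ⟨hr⟩
  have hnd : ∀ x : G, ¬ r ∣ (cen x).index := by
    intro x hd
    rcases h x with h1 | h1 | h1 | h1
    · rw [h1] at hd
      exact hr.one_lt.ne' (Nat.dvd_one.mp hd)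
    · rw [h1] at hd; exact hrn hd
    · rw [h1] at hd; exact hrm hd
    · rw [h1] at hd
      rcases (Nat.Prime.dvd_mul hr).mp hd with h2 | h2
      · exact hrn h2
      · exact hrm h2
  obtain ⟨R⟩ : Nonempty (Sylow r G) := inferInstance
  have htop : Subgroup.centralizer ((R : Subgroup G) : Set G) = ⊤ := by
    apply eq_top_of_conj_cover
    intro g
    obtain ⟨S, hS⟩ := exists_sylow_le_of_not_dvd_index r (cen g) (hnd g)
    obtain ⟨c, hc⟩ := MulAction.exists_smul_eq G R S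
    refine ⟨c, ?_⟩
    rw [Subgroup.mem_centralizer_iff]
    intro v hv
    have h1 : c * v * c⁻¹ ∈ (c • R : Sylow r G) := by
      rw [mem_sylow_smul]
      have e : c⁻¹ * (c * v * c⁻¹) * c = v := by group
      rw [e]; exact hv
    rw [hc] at h1
    have h2 : c * v * c⁻¹ * g = g * (c * v * c⁻¹) := mem_cen.mp (hS h1)
    calc v * (c⁻¹ * g * c) = c⁻¹ * (c * v * c⁻¹ * g) * c := by group
      _ = c⁻¹ * (g * (c * v * c⁻¹)) * c := by rw [h2]
      _ = c⁻¹ * g * c * v := by group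
  have hRZ : (R : Subgroup G) ≤ center G := by
    intro v hv
    rw [Subgroup.mem_center_iff]
    intro g
    have hg : g ∈ Subgroup.centralizer ((R : Subgroup G) : Set G) := by rw [htop]; trivial
    exact ((Subgroup.mem_centralizer_iff.mp hg) v hv).symm
  obtain ⟨c, hc⟩ := exists_conj_mem_of_not_dvd_index (R : Subgroup G) R.not_dvd_index hw
  have h1 := (inferInstance : (center G).Normal).conj_mem _ (hRZ hc) c⁻¹
  have e : c⁻¹ * (c * w * c⁻¹) * c⁻¹⁻¹ = w := by group
  rwa [e] at h1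

theorem relIndex_eq_index_of_normal {X : Type*} [Group X] [Finite X] (K C : Subgroup X)
    [K.Normal] {p j : ℕ} (hp : p.Prime) (hK : K.index = p ^ j) (hC : ¬ p ∣ C.index) :
    C.relIndex K = C.index := by
  have h1 : C.relIndex K ∣ C.index := relIndex_dvd_index_of_normal_right C K
  have h2 : C.relIndex K * K.index = (K ⊓ C).index := relIndex_mul_index_inf K C
  have h3 : C.index ∣ (K ⊓ C).index := Subgroup.index_dvd_of_le inf_le_right
  rw [← h2, hK] at h3
  have h4 : C.index.Coprime (p ^ j) :=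
    Nat.Coprime.pow_right _ ((Nat.Prime.coprime_iff_not_dvd hp).mpr hC).symm
  exact Nat.dvd_antisymm h1 (h4.dvd_of_dvd_mul_right h3)

/-- the type-level analysis of the centralizer of a natural element -/
theorem side_type {X : Type*} [Group X] [Finite X] {p m : ℕ} [Fact p.Prime] (hm : 1 < m)
    (hpm : ¬ p ∣ m)
    (hX : ∀ y : X, (orderOf y).Coprime p → (cen y).index = 1 ∨ (cen y).index = m)
    (b : X) (hb : (cen b).index = m) :
    ∃ q : ℕ, q.Prime ∧ q ≠ p ∧ (∃ β : ℕ, m = q ^ β) ∧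
      (∀ x y : X, PE p x → (orderOf y).Coprime p → x * y = y * x) ∧
      (∀ y : X, (orderOf y).Coprime p → (orderOf y).Coprime q → y ∈ center X) ∧
      (∃ Q : Sylow q X, ∀ x : X, PE q x → x ∈ Q) ∧
      (∀ v : X, PE p v → ∃ j : ℕ, (cen v).index = p ^ j) ∧
      ∃ u ∈ zpowers b, PE q u ∧ (cen u).index = m := by
  have hp : p.Prime := Fact.out
  have hp1 : ¬ p ∣ 1 := fun hd => hp.one_lt.ne' (Nat.dvd_one.mp hd)
  obtain ⟨K, hKn, ⟨j, hKj⟩, hKmem, hcomm, hsyl⟩ := exists_direct_of_classes (X := X) p (by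
    intro y hy hd
    rcases hX y hy with h1 | h1
    · rw [h1] at hd; exact hp1 hd
    · rw [h1] at hd; exact hpm hd)
  -- T4
  have hT4 : ∀ v : X, PE p v → ∃ j' : ℕ, (cen v).index = p ^ j' := by
    intro v hv
    have hle : K ≤ cen v := by
      intro y hy
      rw [mem_cen]
      exact (hcomm v y hv ((hKmem y).mp hy)).symm
    have hd : (cen v).index ∣ p ^ j := hKj ▸ Subgroup.index_dvd_of_le hle
    obtain ⟨j', -, hj'⟩ := (Nat.dvd_prime_pow hp).mp hd
    exact ⟨j', hj'⟩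
  -- the p'-part of b
  obtain ⟨i, l, hil, hbi, hbl⟩ := exists_pparts p hp b
  have hu₀ : (cen (b ^ l)).index = m := by
    rcases hX _ hbl with h1 | h1
    · exfalso
      have hz : b ^ l ∈ center X := by
        rw [← cen_eq_top_iff, ← Subgroup.index_eq_one]; exact h1
      have e : cen b = cen (b ^ i) := by
        have e1 : b = b ^ l * b ^ i := by
          rw [(Commute.pow_pow_self b l i).eq]; exact hil.symm
        conv_lhs => rw [e1]
        exact cen_central_mul hz
      obtain ⟨j', hj'⟩ := hT4 _ hbi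
      rw [← e, hb] at hj'
      rcases Nat.eq_zero_or_pos j' with h0 | h0
      · rw [h0, pow_zero] at hj'; omega
      · exact hpm (hj' ▸ dvd_pow_self p h0.ne')
    · exact h1
  have hu₀K : b ^ l ∈ K := (hKmem _).mpr hbl
  -- class sizes in K
  have hKcs : ∀ y : K, (cen y).index = (cen (y : X)).index := by
    intro y
    rw [index_cen_subtype]
    have hy : (orderOf (y : X)).Coprime p := (hKmem _).mp y.2
    apply relIndex_eq_index_of_normal K (cen (y : X)) hp hKj
    intro hd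
    rcases hX _ hy with h1 | h1
    · rw [h1] at hd; exact hp1 hd
    · rw [h1] at hd; exact hpm hd
  have hK2 : ∀ y : K, (cen y).index = 1 ∨ (cen y).index = m := by
    intro y
    rw [hKcs]
    exact hX _ ((hKmem _).mp y.2)
  have hu₀i : (cen (⟨b ^ l, hu₀K⟩ : K)).index = m := (hKcs ⟨b ^ l, hu₀K⟩).trans hu₀
  have hu₀Z : (⟨b ^ l, hu₀K⟩ : K) ∉ center K := by
    intro hc
    have h1 : cen (⟨b ^ l, hu₀K⟩ : K) = ⊤ := cen_eq_top_iff.mpr hc
    rw [h1, Subgroup.index_top] at hu₀i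
    omega
  obtain ⟨q, hq, hI1, hI2, hI3⟩ := ito_summary hK2 hu₀Z
  have hfq : Fact q.Prime := ⟨hq⟩
  obtain ⟨β, hβ⟩ := hI2 (cen (⟨b ^ l, hu₀K⟩ : K)) (center_le_cen _)
  rw [hu₀i] at hβ
  have hβ0 : β ≠ 0 := by
    rintro rfl
    rw [pow_zero] at hβ; omega
  have hqm : q ∣ m := hβ ▸ dvd_pow_self q hβ0
  have hqp : q ≠ p := by
    rintro rfl
    exact hpm hqm
  -- T2
  have hT2 : ∀ y : X, (orderOf y).Coprime p → (orderOf y).Coprime q → y ∈ center X := by
    intro y hyp hyq
    have hyK : y ∈ K := (hKmem y).mpr hyp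
    have hyZ : (⟨y, hyK⟩ : K) ∈ center K := by
      apply hI1
      rw [← Subgroup.orderOf_coe]; exact hyq
    rw [Subgroup.mem_center_iff]
    intro g
    obtain ⟨i', l', hil', hgi, hgl⟩ := exists_pparts p hp g
    have h1 : g ^ i' * y = y * g ^ i' := hcomm _ _ hgi hyp
    have hglK : g ^ l' ∈ K := (hKmem _).mpr hgl
    have h2 : g ^ l' * y = y * g ^ l' := by
      have := Subgroup.mem_center_iff.mp hyZ ⟨g ^ l', hglK⟩
      exact congrArg Subtype.val this
    calc g * y = g ^ i' * (g ^ l' * y) := by rw [← mul_assoc, hil']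
      _ = g ^ i' * y * g ^ l' := by rw [h2, mul_assoc]
      _ = y * (g ^ i' * g ^ l') := by rw [h1, mul_assoc]
      _ = y * g := by rw [hil']
  -- T3
  obtain ⟨Q₁⟩ : Nonempty (Sylow q K) := inferInstance
  have hQ₁n : (Q₁ : Subgroup K).Normal := hI3 Q₁
  have hqpj : ¬ q ∣ p ^ j := fun hd =>
    hqp ((Nat.prime_dvd_prime_iff_eq hq hp).mp (hq.dvd_of_dvd_pow hd))
  have hcard : Nat.card ((Q₁ : Subgroup K).map K.subtype) = q ^ (Nat.card X).factorization q := by
    rw [Subgroup.card_map_of_injective K.subtype_injective, Sylow.card_eq_multiplicity,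
      ← Subgroup.card_mul_index K, hKj,
      Nat.factorization_mul Nat.card_pos.ne' (pow_ne_zero _ hp.ne_zero),
      Finsupp.add_apply, Nat.factorization_eq_zero_of_not_dvd hqpj, add_zero]
  refine ⟨q, hq, hqp, ⟨β, hβ⟩, hcomm, hT2, ⟨Sylow.ofCard _ hcard, ?_⟩, hT4, ?_⟩
  · intro x hx
    show x ∈ ((Sylow.ofCard _ hcard : Sylow q X) : Subgroup X)
    rw [Sylow.coe_ofCard]
    have hxK : x ∈ K := (hKmem x).mpr (PE.coprime hq hp hqp hx)
    have hxQ : (⟨x, hxK⟩ : K) ∈ Q₁ := by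
      apply mem_of_normal_sylow Q₁ hQ₁n
      obtain ⟨k, hk⟩ := hx
      exact ⟨k, by rw [← Subgroup.orderOf_coe]; exact hk⟩
    exact Subgroup.mem_map.mpr ⟨⟨x, hxK⟩, hxQ, rfl⟩
  · obtain ⟨i₂, l₂, hil₂, hui, hul⟩ := exists_pparts q hq (b ^ l)
    refine ⟨(b ^ l) ^ i₂, ?_, hui, ?_⟩
    · rw [← pow_mul]; exact npow_mem_zpowers b _
    · have hz : (b ^ l) ^ l₂ ∈ center X := by
        apply hT2 _ ?_ hul
        exact Nat.Coprime.coprime_dvd_left (orderOf_pow_dvd l₂) hbl
      have e : cen (b ^ l) = cen ((b ^ l) ^ i₂) := by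
        have e1 : b ^ l = (b ^ l) ^ l₂ * (b ^ l) ^ i₂ := by
          rw [(Commute.pow_pow_self (b ^ l) l₂ i₂).eq]; exact hil₂.symm
        conv_lhs => rw [e1]
        exact cen_central_mul hz
      rw [← e]; exact hu₀

/-- the structure of the centralizer of a "natural" element -/
structure Side (G : Type*) [Group G] (p q : ℕ) (a : G) : Prop where
  comm : ∀ x ∈ cen a, ∀ y ∈ cen a, PE p x → (orderOf y).Coprime p → x * y = y * x
  cent : ∀ y ∈ cen a, (orderOf y).Coprime p → (orderOf y).Coprime q → cen a ≤ cen y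
  syl : ∃ Q : Sylow q G, ∀ x : G, x ∈ Q ↔ (x ∈ cen a ∧ PE q x)
  idx : ∀ v ∈ cen a, PE p v → ∃ j : ℕ, (cen v).relIndex (cen a) = p ^ j

theorem side_of_natural [Finite G] {n m : ℕ} (hn : 1 < n) (hm : 1 < m) (hco : n.Coprime m)
    (h : CS G n m) {p : ℕ} (hp : p.Prime) {a b : G} (ha : PE p a) (hia : (cen a).index = n)
    (hpm : ¬ p ∣ m) (hib : (cen b).index = m) (hab : b ∈ cen a) :
    ∃ q : ℕ, q.Prime ∧ q ≠ p ∧ (∃ β : ℕ, m = q ^ β) ∧ Side G p q a ∧
      ∃ u ∈ cen a, PE q u ∧ (cen u).index = m := by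
  have : Fact p.Prime := ⟨hp⟩
  have hn0 : 0 < n := by omega
  -- class sizes in `C(a)` of `p'`-elements
  have hX : ∀ y : cen a, (orderOf y).Coprime p → (cen y).index = 1 ∨ (cen y).index = m := by
    intro y hy
    rw [index_cen_subtype]
    have hay : Commute a (y : G) := (mem_cen.mp y.2).symm
    have hco' : (orderOf a).Coprime (orderOf (y : G)) := by
      obtain ⟨k, hk⟩ := ha
      rw [hk, Subgroup.orderOf_coe]
      exact Nat.Coprime.pow_left _ hy.symm
    have e := cen_mul_eq hay hco'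
    have h1 := relIndex_mul_index_inf (cen a) (cen (y : G))
    rw [← e, hia] at h1
    have hc := four_cases hn hm hco (h (a * (y : G)))
    rcases hc.2.1 ⟨_, by rw [← h1, mul_comm]⟩ with h2 | h2
    · left
      rw [h2] at h1
      exact Nat.eq_of_mul_eq_mul_right hn0 (by rw [h1, one_mul])
    · right
      rw [h2] at h1
      exact Nat.eq_of_mul_eq_mul_right hn0 (by rw [h1, mul_comm])
  have hbX : (cen (⟨b, hab⟩ : cen a)).index = m := by
    rw [index_cen_subtype]
    have h1 := relIndex_mul_index_inf (cen a) (cen b)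
    rw [index_inf_of_coprime _ _ (by rw [hia, hib]; exact hco), hia, hib] at h1
    exact Nat.eq_of_mul_eq_mul_right hn0 (by rw [h1, mul_comm])
  obtain ⟨q, hq, hqp, ⟨β, hβ⟩, hT1, hT2, ⟨Q, hQ⟩, hT4, u, huz, huq, hui⟩ :=
    side_type hm hpm hX ⟨b, hab⟩ hbX
  have hfq : Fact q.Prime := ⟨hq⟩
  have hβ0 : β ≠ 0 := by
    rintro rfl
    rw [pow_zero] at hβ; omega
  have hqm : q ∣ m := hβ ▸ dvd_pow_self q hβ0
  have hqn : ¬ q ∣ n := fun hd =>
    hq.one_lt.ne' (Nat.Coprime.eq_one_of_dvd (Nat.Coprime.coprime_dvd_left hd hco) hqm)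
  have hcard : Nat.card ((Q : Subgroup (cen a)).map (cen a).subtype)
      = q ^ (Nat.card G).factorization q := by
    rw [Subgroup.card_map_of_injective (cen a).subtype_injective, Sylow.card_eq_multiplicity,
      ← Subgroup.card_mul_index (cen a), hia,
      Nat.factorization_mul Nat.card_pos.ne' hn0.ne',
      Finsupp.add_apply, Nat.factorization_eq_zero_of_not_dvd hqn, add_zero]
  refine ⟨q, hq, hqp, ⟨β, hβ⟩, ⟨?_, ?_, ⟨Sylow.ofCard _ hcard, ?_⟩, ?_⟩, (u : G), u.2, ?_, ?_⟩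
  · intro x hx y hy hxp hyp
    have := hT1 ⟨x, hx⟩ ⟨y, hy⟩ (by
      obtain ⟨k, hk⟩ := hxp
      exact ⟨k, by rw [← Subgroup.orderOf_coe]; exact hk⟩)
      (by rw [← Subgroup.orderOf_coe]; exact hyp)
    exact congrArg Subtype.val this
  · intro y hy hyp hyq g hg
    have hz : (⟨y, hy⟩ : cen a) ∈ center (cen a) :=
      hT2 ⟨y, hy⟩ (by rw [← Subgroup.orderOf_coe]; exact hyp)
        (by rw [← Subgroup.orderOf_coe]; exact hyq)
    rw [mem_cen]
    exact congrArg Subtype.val (Subgroup.mem_center_iff.mp hz ⟨g, hg⟩)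
  · intro x
    show x ∈ ((Sylow.ofCard _ hcard : Sylow q G) : Subgroup G) ↔ _
    rw [Sylow.coe_ofCard, Subgroup.mem_map]
    constructor
    · rintro ⟨y, hy, rfl⟩
      refine ⟨y.2, ?_⟩
      obtain ⟨k, hk⟩ := (IsPGroup.iff_orderOf.mp Q.isPGroup') ⟨y, hy⟩
      rw [← Subgroup.orderOf_coe] at hk
      exact ⟨k, by rw [← Subgroup.orderOf_coe] at hk; exact hk⟩
    · rintro ⟨hx, k, hk⟩
      exact ⟨⟨x, hx⟩, hQ _ ⟨k, by rw [← Subgroup.orderOf_coe]; exact hk⟩, rfl⟩
  · intro v hv hvp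
    obtain ⟨j, hj⟩ := hT4 ⟨v, hv⟩ (by
      obtain ⟨k, hk⟩ := hvp
      exact ⟨k, by rw [← Subgroup.orderOf_coe]; exact hk⟩)
    rw [index_cen_subtype] at hj
    exact ⟨j, hj⟩
  · obtain ⟨k, hk⟩ := huq
    exact ⟨k, by rw [Subgroup.orderOf_coe]; exact hk⟩
  · have hle : cen b ≤ cen (u : G) := by
      apply cen_le_of_mem_zpowers
      obtain ⟨k, rfl⟩ := mem_zpowers_iff.mp huz
      exact mem_zpowers_iff.mpr ⟨k, by simp⟩
    have hd : (cen (u : G)).index ∣ m := hib ▸ Subgroup.index_dvd_of_le hle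
    rcases (four_cases hn hm hco (h (u : G))).2.2.1 hd with h1 | h1
    · exfalso
      rw [index_cen_subtype] at hui
      have h2 : cen (u : G) = ⊤ := Subgroup.index_eq_one.mp h1
      rw [h2, Subgroup.relIndex_top_left] at hui
      omega
    · exact h1

end Cfsg.Agent.H72.Four
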