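import Mathlib
import Cfsg.Agent.H72.Four2

set_option autoImplicit false

namespace Cfsg.Agent.H72.Four

open Subgroup Cfsg.Agent.H72 Cfsg.Agent.H72.Ito Cfsg.Agent.H72.BHM

variable {G : Type*} [Group G]

/-- a `p`-element commutes with every element of coprime class size not divisible by `p` -/
theorem mem_cen_of_coprime_index [Finite G] {p : ℕ} (hp : p.Prime) {a w : G} (ha : PE p a)
    (hco : (cen a).index.Coprime (cen w).index) (hpw : ¬ p ∣ (cen w).index) : w ∈ cen a := by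
  have : Fact p.Prime := ⟨hp⟩
  obtain ⟨h, hh⟩ := exists_conj_mem_of_not_dvd_index (cen w) hpw ha
  obtain ⟨d, hd, hda⟩ := exists_cen_conj hco h
  rw [hda] at hh
  rw [mem_cen] at hh hd ⊢
  have hd' : d⁻¹ * w * d = w := by
    calc d⁻¹ * w * d = d⁻¹ * (w * d) := by group
      _ = d⁻¹ * (d * w) := by rw [hd]
      _ = w := by group
  calc w * a = (d⁻¹ * w * d) * a := by rw [hd']
    _ = d⁻¹ * (w * (d * a * d⁻¹)) * d := by group
    _ = d⁻¹ * (d * a * d⁻¹ * w) * d := by rw [hh]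
    _ = a * (d⁻¹ * w * d) := by group
    _ = a * w := by rw [hd']

theorem pow_conj_comm {g y d : G} (hgd : g * d = d * g) (h : g * y * g⁻¹ = d * y) (k : ℕ) :
    g ^ k * y * (g ^ k)⁻¹ = d ^ k * y := by
  induction k with
  | zero => simp
  | succ k ih =>
    have hc : Commute g (d ^ k) := (show Commute g d from hgd).pow_right k
    calc g ^ (k + 1) * y * (g ^ (k + 1))⁻¹ = g * (g ^ k * y * (g ^ k)⁻¹) * g⁻¹ := by
          rw [pow_succ', mul_inv_rev]; simp only [mul_assoc]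
      _ = g * (d ^ k * y) * g⁻¹ := by rw [ih]
      _ = (g * d ^ k) * y * g⁻¹ := by simp only [mul_assoc]
      _ = d ^ k * (g * y * g⁻¹) := by rw [hc.eq]; simp only [mul_assoc]
      _ = d ^ (k + 1) * y := by rw [h, pow_succ, mul_assoc]

/-- the symmetric configuration: commuting elements `a` (a `p`-element of index `n = p ^ α`)
and `u` (a `q`-element of index `m = q ^ β`) with the structure of their centralizers -/
structure Cfg (G : Type*) [Group G] (n m p q : ℕ) (a u : G) : Prop where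
  hn : 1 < n
  hm : 1 < m
  hco : n.Coprime m
  cs : CS G n m
  hp : p.Prime
  hq : q.Prime
  hnp : ∃ α : ℕ, n = p ^ α
  hmq : ∃ β : ℕ, m = q ^ β
  ha : PE p a
  hia : (cen a).index = n
  hu : PE q u
  hiu : (cen u).index = m
  sa : Side G p q a
  su : Side G q p u

namespace Cfg

variable {n m p q : ℕ} {a u : G}

theorem symm (c : Cfg G n m p q a u) : Cfg G m n q p u a :=
  ⟨c.hm, c.hn, c.hco.symm, c.cs.symm, c.hq, c.hp, c.hmq, c.hnp, c.hu, c.hiu, c.ha, c.hia,
    c.su, c.sa⟩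

theorem p_dvd_n (c : Cfg G n m p q a u) : p ∣ n := by
  obtain ⟨α, hα⟩ := c.hnp
  have h0 : α ≠ 0 := by
    rintro rfl
    have := c.hn
    rw [hα, pow_zero] at this; omega
  rw [hα]; exact dvd_pow_self p h0

theorem q_dvd_m (c : Cfg G n m p q a u) : q ∣ m := c.symm.p_dvd_n

theorem p_not_dvd_m (c : Cfg G n m p q a u) : ¬ p ∣ m := fun hd =>
  c.hp.one_lt.ne' (Nat.Coprime.eq_one_of_dvd (Nat.Coprime.coprime_dvd_left c.p_dvd_n c.hco) hd)

theorem q_not_dvd_n (c : Cfg G n m p q a u) : ¬ q ∣ n := c.symm.p_not_dvd_m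

theorem p_ne_q (c : Cfg G n m p q a u) : p ≠ q := by
  rintro rfl
  exact c.p_not_dvd_m c.q_dvd_m

theorem no_qelt_n [Finite G] (c : Cfg G n m p q a u) {v : G} (hv : PE q v) :
    (cen v).index ≠ n := by
  intro hiv
  have : Fact q.Prime := ⟨c.hq⟩
  obtain ⟨h, hh⟩ := exists_conj_mem_of_not_dvd_index (cen v)
    (by rw [hiv]; exact c.q_not_dvd_n) c.hu
  have hv' : h⁻¹ * v * h ∈ cen u := by
    rw [mem_cen] at hh ⊢
    calc h⁻¹ * v * h * u = h⁻¹ * (v * (h * u * h⁻¹)) * h := by group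
      _ = h⁻¹ * (h * u * h⁻¹ * v) * h := by rw [← hh]
      _ = u * (h⁻¹ * v * h) := by group
  have hpe : PE q (h⁻¹ * v * h) := by
    have := hv.conj h⁻¹
    rwa [inv_inv] at this
  have hidx : (cen (h⁻¹ * v * h)).index = n := by
    have := index_conj v h⁻¹
    rw [inv_inv] at this
    rw [this, hiv]
  obtain ⟨j, hj⟩ := c.su.idx _ hv' hpe
  have h1 := relIndex_mul_index_inf (cen u) (cen (h⁻¹ * v * h))
  rw [index_inf_of_coprime _ _ (by rw [c.hiu, hidx]; exact c.hco.symm), c.hiu, hidx, hj] at h1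
  have h2 : q ^ j = n :=
    Nat.eq_of_mul_eq_mul_right (show 0 < m by have := c.hm; omega) (by rw [h1, mul_comm])
  rcases Nat.eq_zero_or_pos j with h0 | h0
  · rw [h0, pow_zero] at h2; have := c.hn; omega
  · exact c.q_not_dvd_n (h2 ▸ dvd_pow_self q h0.ne')

theorem sylow_normal_of_bad_aux [Finite G] (c : Cfg G n m p q a u) {g : G} (hg : PE p g)
    (hig : (cen g).index = n * m) (hgu : g ∈ cen u) :
    ∀ P : Sylow p G, (P : Subgroup G).Normal := by
  have hfp : Fact p.Prime := ⟨c.hp⟩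
  have hfq : Fact q.Prime := ⟨c.hq⟩
  have hpq := c.p_ne_q
  have hgq : (orderOf g).Coprime q := hg.coprime c.hp c.hq hpq
  have hmax : ∀ v : G, v ∈ cen g → PE q v → cen g ≤ cen v := by
    intro v hv hvq
    apply cen_le_of_max c.hn c.hm c.hco c.cs hig hv
    obtain ⟨k, hk⟩ := hvq
    rw [hk]
    exact Nat.Coprime.pow_right _ hgq
  have hCg : cen g ≤ cen u := hmax u (mem_cen.mpr (mem_cen.mp hgu).symm) c.hu
  -- q-elements of C(u)
  have h3a : ∀ v : G, v ∈ cen u → PE q v → cen g ≤ cen v := by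
    intro v hv hvq
    apply hmax v _ hvq
    rw [mem_cen]
    exact c.su.comm v hv g hgu hvq hgq
  have h3b : ∀ v w : G, v ∈ cen u → PE q v → w ∈ cen u → PE q w → v * w = w * v := by
    intro v w hv hvq hw hwq
    have h1 : w ∈ cen g := by
      rw [mem_cen]; exact c.su.comm w hw g hgu hwq hgq
    exact (mem_cen.mp (h3a v hv hvq h1)).symm
  have h3c : ∀ v : G, v ∈ cen u → PE q v → cen u ≤ cen v := by
    intro v hv hvq h hh
    obtain ⟨i, l, hil, hi, hl⟩ := exists_pparts q c.hq h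
    have h1 : h ^ i * v = v * h ^ i :=
      (h3b v (h ^ i) hv hvq (Subgroup.pow_mem _ hh i) hi).symm
    have h2 : h ^ l * v = v * h ^ l :=
      (c.su.comm v hv (h ^ l) (Subgroup.pow_mem _ hh l) hvq hl).symm
    rw [mem_cen]
    calc h * v = h ^ i * (h ^ l * v) := by rw [← mul_assoc, hil]
      _ = h ^ i * v * h ^ l := by rw [h2, mul_assoc]
      _ = v * (h ^ i * h ^ l) := by rw [h1, mul_assoc]
      _ = v * h := by rw [hil]
  have h3d : ∀ v : G, v ∈ cen u → PE q v → (cen v).index = 1 ∨ (cen v).index = m := by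
    intro v hv hvq
    have hd : (cen v).index ∣ m := c.hiu ▸ Subgroup.index_dvd_of_le (h3c v hv hvq)
    exact (four_cases c.hn c.hm c.hco (c.cs v)).2.2.1 hd
  -- the Sylow q-subgroup of C(a) and its core
  obtain ⟨Qa, hQa⟩ := c.sa.syl
  have h4a : ∀ w : G, PE q w → ((cen w).index = 1 ∨ (cen w).index = m) → w ∈ cen a := by
    intro w hwq hw
    have hco' : (cen a).index.Coprime (cen w).index := by
      rw [c.hia]
      rcases hw with h1 | h1
      · rw [h1]; exact Nat.coprime_one_right n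
      · rw [h1]; exact c.hco
    apply mem_cen_of_coprime_index c.hp c.ha hco'
    rcases hw with h1 | h1
    · rw [h1]; exact fun hd => c.hp.one_lt.ne' (Nat.dvd_one.mp hd)
    · rw [h1]; exact c.p_not_dvd_m
  obtain ⟨Q₀, hQ₀⟩ : ∃ Q₀ : Subgroup G, Q₀ = (Qa : Subgroup G).normalCore := ⟨_, rfl⟩
  have hQ₀n : Q₀.Normal := by rw [hQ₀]; infer_instance
  have hQ₀le : Q₀ ≤ (Qa : Subgroup G) := by rw [hQ₀]; exact Subgroup.normalCore_le _
  have h4b : ∀ w : G, PE q w → ((cen w).index = 1 ∨ (cen w).index = m) → w ∈ Q₀ := by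
    intro w hwq hw
    rw [hQ₀]
    show ∀ b : G, b * w * b⁻¹ ∈ (Qa : Subgroup G)
    intro b
    apply (hQa _).mpr
    exact ⟨h4a _ (hwq.conj b) (by rw [index_conj]; exact hw), hwq.conj b⟩
  have hQ₀q : ∀ y ∈ Q₀, PE q y := fun y hy => ((hQa y).mp (hQ₀le hy)).2
  -- the q-elements of C(u) form a subgroup
  let Qu : Subgroup G :=
    { carrier := {v | v ∈ cen u ∧ PE q v}
      one_mem' := ⟨Subgroup.one_mem _, 0, by simp⟩
      mul_mem' := by
        rintro v w ⟨hv, hvq⟩ ⟨hw, hwq⟩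
        refine ⟨Subgroup.mul_mem _ hv hw, ?_⟩
        have hc : Commute v w := h3b v w hv hvq hw hwq
        obtain ⟨k, hk⟩ := hvq
        obtain ⟨l, hl⟩ := hwq
        have hd : orderOf (v * w) ∣ q ^ (k + l) := by
          rw [pow_add, ← hk, ← hl]
          exact hc.orderOf_mul_dvd_mul_orderOf
        obtain ⟨j, -, hj⟩ := (Nat.dvd_prime_pow c.hq).mp hd
        exact ⟨j, hj⟩
      inv_mem' := by
        rintro v ⟨hv, k, hk⟩
        exact ⟨Subgroup.inv_mem _ hv, k, by rw [orderOf_inv]; exact hk⟩ }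
  have huQu : u ∈ Qu := ⟨self_mem_cen u, c.hu⟩
  have h5a : Qu ≤ Q₀ := fun v hv => h4b v hv.2 (h3d v hv.1 hv.2)
  -- step 6
  have h6 : ∀ y ∈ Q₀, y⁻¹ * u * y ∈ Qu → y ∈ Qu := by
    intro y hy hu'
    have hgu' : g ∈ cen (y⁻¹ * u * y) := h3a _ hu'.1 hu'.2 (self_mem_cen g)
    rw [mem_cen] at hgu'
    have hgu2 : g * u = u * g := mem_cen.mp hgu
    obtain ⟨d, hd⟩ : ∃ d : G, d = g * y * g⁻¹ * y⁻¹ := ⟨_, rfl⟩
    have hdQ₀ : d ∈ Q₀ := by
      rw [hd]
      exact Q₀.mul_mem (hQ₀n.conj_mem y hy g) (Q₀.inv_mem hy)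
    have hdu : d ∈ cen u := by
      rw [mem_cen, hd]
      have e1 : g⁻¹ * (y⁻¹ * u * y) = (y⁻¹ * u * y) * g⁻¹ := by
        calc g⁻¹ * (y⁻¹ * u * y) = g⁻¹ * (y⁻¹ * u * y * g) * g⁻¹ := by group
          _ = g⁻¹ * (g * (y⁻¹ * u * y)) * g⁻¹ := by rw [hgu']
          _ = (y⁻¹ * u * y) * g⁻¹ := by group
      calc g * y * g⁻¹ * y⁻¹ * u = g * y * (g⁻¹ * (y⁻¹ * u * y)) * y⁻¹ := by group
        _ = g * y * ((y⁻¹ * u * y) * g⁻¹) * y⁻¹ := by rw [e1]
        _ = g * u * (y * g⁻¹ * y⁻¹) := by group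
        _ = u * g * (y * g⁻¹ * y⁻¹) := by rw [hgu2]
        _ = u * (g * y * g⁻¹ * y⁻¹) := by group
    have hdq : PE q d := hQ₀q d hdQ₀
    have hgd : g ∈ cen d := h3a d hdu hdq (self_mem_cen g)
    rw [mem_cen] at hgd
    have hconj : g * y * g⁻¹ = d * y := by rw [hd]; group
    have hpow := pow_conj_comm hgd hconj (orderOf g)
    rw [pow_orderOf_eq_one, one_mul, inv_one, mul_one] at hpow
    have hd1 : d ^ orderOf g = 1 := by
      have : d ^ orderOf g * y = 1 * y := by rw [one_mul]; exact hpow.symm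
      exact mul_right_cancel this
    have hd1' : d = 1 := by
      apply eq_one_of_pow_coprime d (orderOf g) (orderOf d) hd1 (pow_orderOf_eq_one d)
      obtain ⟨k, hk⟩ := hdq
      rw [hk]
      exact Nat.Coprime.pow_right _ hgq
    have hyg : y ∈ cen g := by
      rw [mem_cen]
      rw [hd1', one_mul] at hconj
      exact (mul_inv_eq_iff_eq_mul.mp hconj).symm
    exact ⟨hCg hyg, hQ₀q y hy⟩
  -- Q₀ = Qu
  have hQ₀Qu : Q₀ ≤ Qu := by
    have hpg : IsPGroup q Q₀ := Qa.isPGroup'.to_le hQ₀le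
    have hnil : Group.IsNilpotent Q₀ := hpg.isNilpotent
    have hnc := normalizerCondition_iff_only_full_group_self_normalizing.mp
      (Group.normalizerCondition_of_isNilpotent (G := Q₀))
    have htop : Qu.subgroupOf Q₀ = ⊤ := by
      apply hnc
      apply le_antisymm _ Subgroup.le_normalizer
      intro y hy
      rw [Subgroup.mem_normalizer_iff] at hy
      rw [Subgroup.mem_subgroupOf]
      apply h6 y y.2
      have hu'Q₀ : (y : G)⁻¹ * u * y ∈ Q₀ := by
        have := hQ₀n.conj_mem u (h5a huQu) (y : G)⁻¹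
        rwa [inv_inv] at this
      have h1 := (hy ⟨(y : G)⁻¹ * u * y, hu'Q₀⟩).mpr (by
        rw [Subgroup.mem_subgroupOf]
        have e : ((y * ⟨(y : G)⁻¹ * u * y, hu'Q₀⟩ * y⁻¹ : Q₀) : G) = u := by
          show (y : G) * ((y : G)⁻¹ * u * y) * (y : G)⁻¹ = u
          group
        rw [e]; exact huQu)
      exact Subgroup.mem_subgroupOf.mp h1
    intro y hy
    have : (⟨y, hy⟩ : Q₀) ∈ Qu.subgroupOf Q₀ := by rw [htop]; trivial
    exact Subgroup.mem_subgroupOf.mp this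
  -- step 7
  have h7 : ∀ x : G, x * u * x⁻¹ ∈ Qu := fun x =>
    hQ₀Qu (hQ₀n.conj_mem u (h5a huQu) x)
  have hCun : ∀ x : G, ∀ h ∈ cen u, x * h * x⁻¹ ∈ cen u := by
    intro x h hh
    have h1 := h7 x⁻¹
    rw [inv_inv] at h1
    have h2 : h ∈ cen (x⁻¹ * u * x) := h3c _ h1.1 h1.2 hh
    rw [mem_cen] at h2 ⊢
    calc x * h * x⁻¹ * u = x * (h * (x⁻¹ * u * x)) * x⁻¹ := by group
      _ = x * ((x⁻¹ * u * x) * h) * x⁻¹ := by rw [h2]
      _ = u * (x * h * x⁻¹) := by group
  obtain ⟨Pu, hPu⟩ := c.su.syl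
  apply sylow_normal_of_one Pu
  constructor
  intro w hw x
  obtain ⟨hw1, hw2⟩ := (hPu w).mp hw
  exact (hPu _).mpr ⟨hCun x w hw1, hw2.conj x⟩

theorem sylow_normal_of_bad [Finite G] (c : Cfg G n m p q a u) {g : G} (hg : PE p g)
    (hig : (cen g).index = n * m) : ∀ P : Sylow p G, (P : Subgroup G).Normal := by
  have hfp : Fact p.Prime := ⟨c.hp⟩
  obtain ⟨h, hh⟩ := exists_conj_mem_of_not_dvd_index (cen u)
    (by rw [c.hiu]; exact c.p_not_dvd_m) hg
  exact c.sylow_normal_of_bad_aux (hg.conj h) (by rw [index_conj]; exact hig) hh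

/-- `p'`-elements have class size prime to `p` once `q`-elements have index `1` or `m` -/
theorem direct_of_star [Finite G] (c : Cfg G n m p q a u)
    (hstar : ∀ g : G, PE q g → (cen g).index = 1 ∨ (cen g).index = m) :
    ∃ K : Subgroup G, (∃ k : ℕ, K.index = p ^ k) ∧ (∀ y : G, y ∈ K ↔ (orderOf y).Coprime p) ∧
      (∀ x y : G, PE p x → (orderOf y).Coprime p → x * y = y * x) ∧
      (∀ P : Sylow p G, (P : Subgroup G).Normal) := by
  have hfp : Fact p.Prime := ⟨c.hp⟩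
  obtain ⟨K, -, hK1, hK2, hK3, hK4⟩ := exists_direct_of_classes (X := G) p (by
    intro y hy
    obtain ⟨i, l, hil, hi, hl⟩ := exists_pparts q c.hq y
    have hlp : (orderOf (y ^ l)).Coprime p :=
      Nat.Coprime.coprime_dvd_left (orderOf_pow_dvd l) hy
    have hz : y ^ l ∈ center G := by
      by_contra hnot
      obtain ⟨w, hw, r, k, hr, hwo, hwZ⟩ :=
        Cfsg.Agent.S4085.exists_ppow_not_mem (center G) (orderOf (y ^ l)) (y ^ l) le_rfl hnot
      have hk0 : k ≠ 0 := by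
        rintro rfl
        rw [pow_zero, orderOf_eq_one_iff] at hwo
        exact hwZ (hwo ▸ (center G).one_mem)
      have hrd : r ∣ orderOf (y ^ l) := by
        have h1 : r ∣ orderOf w := hwo ▸ dvd_pow_self r hk0
        exact h1.trans (orderOf_dvd_of_mem_zpowers hw)
      have hrp : r ≠ p := by
        rintro rfl
        exact hr.one_lt.ne' (Nat.Coprime.eq_one_of_dvd hlp.symm hrd)
      have hrq : r ≠ q := by
        rintro rfl
        exact hr.one_lt.ne' (Nat.Coprime.eq_one_of_dvd hl.symm hrd)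
      have hrn : ¬ r ∣ n := by
        obtain ⟨α, hα⟩ := c.hnp
        rw [hα]
        exact fun hd => hrp ((Nat.prime_dvd_prime_iff_eq hr c.hp).mp (hr.dvd_of_dvd_pow hd))
      have hrm : ¬ r ∣ m := by
        obtain ⟨β, hβ⟩ := c.hmq
        rw [hβ]
        exact fun hd => hrq ((Nat.prime_dvd_prime_iff_eq hr c.hq).mp (hr.dvd_of_dvd_pow hd))
      exact hwZ (central_of_not_dvd c.cs hr hrn hrm ⟨k, hwo⟩)
    have e : cen y = cen (y ^ i) := by
      have e1 : y = y ^ l * y ^ i := by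
        rw [(Commute.pow_pow_self y l i).eq]; exact hil.symm
      conv_lhs => rw [e1]
      exact cen_central_mul hz
    rw [e]
    rcases hstar _ hi with h1 | h1
    · rw [h1]; exact fun hd => c.hp.one_lt.ne' (Nat.dvd_one.mp hd)
    · rw [h1]; exact c.p_not_dvd_m)
  exact ⟨K, hK1, hK2, hK3, hK4⟩

theorem no_bad_of_star [Finite G] (c : Cfg G n m p q a u)
    (hstar : ∀ g : G, PE q g → (cen g).index = 1 ∨ (cen g).index = m) {g : G} (hg : PE p g) :
    (cen g).index ≠ n * m := by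
  intro hig
  obtain ⟨K, ⟨k, hK1⟩, hK2, hK3, -⟩ := c.direct_of_star hstar
  have hle : K ≤ cen g := by
    intro y hy
    rw [mem_cen]
    exact (hK3 g y hg ((hK2 y).mp hy)).symm
  have hd : (cen g).index ∣ p ^ k := hK1 ▸ Subgroup.index_dvd_of_le hle
  rw [hig] at hd
  have hq : q ∣ p ^ k := (Dvd.dvd.mul_left c.q_dvd_m n).trans hd
  exact c.p_ne_q ((Nat.prime_dvd_prime_iff_eq c.hq c.hp).mp (c.hq.dvd_of_dvd_pow hq)).symm

theorem not_both_bad [Finite G] (c : Cfg G n m p q a u) {g g' : G} (hg : PE p g)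
    (hig : (cen g).index = n * m) (hg' : PE q g') (hig' : (cen g').index = n * m) : False := by
  have hfp : Fact p.Prime := ⟨c.hp⟩
  have hfq : Fact q.Prime := ⟨c.hq⟩
  obtain ⟨P⟩ : Nonempty (Sylow p G) := inferInstance
  obtain ⟨Q⟩ : Nonempty (Sylow q G) := inferInstance
  have hP := c.sylow_normal_of_bad hg hig P
  have hQ := c.symm.sylow_normal_of_bad hg' (by rw [hig', mul_comm]) Q
  have hgP : g ∈ P := mem_of_normal_sylow P hP hg
  have hdis : Disjoint (P : Subgroup G) (Q : Subgroup G) :=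
    IsPGroup.disjoint_of_ne p q c.p_ne_q _ _ P.isPGroup' Q.isPGroup'
  have hle : (Q : Subgroup G) ≤ cen g := by
    intro x hx
    rw [mem_cen]
    exact (Subgroup.commute_of_normal_of_disjoint _ _ hP hQ hdis g x hgP hx).eq.symm
  have hd : (cen g).index ∣ (Q : Subgroup G).index := Subgroup.index_dvd_of_le hle
  rw [hig] at hd
  exact Q.not_dvd_index ((Dvd.dvd.mul_left c.q_dvd_m n).trans hd)

theorem star_q [Finite G] (c : Cfg G n m p q a u) {g' : G} (hg' : PE q g') :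
    (cen g').index = 1 ∨ (cen g').index = m := by
  rcases c.cs g' with h1 | h1 | h1 | h1
  · exact Or.inl h1
  · exact absurd h1 (c.no_qelt_n hg')
  · exact Or.inr h1
  · exfalso
    by_cases hP : ∃ g : G, PE p g ∧ (cen g).index = n * m
    · obtain ⟨g, hg, hig⟩ := hP
      exact c.not_both_bad hg hig hg' h1
    · have hstar : ∀ g : G, PE p g → (cen g).index = 1 ∨ (cen g).index = n := by
        intro g hg
        rcases c.cs g with h2 | h2 | h2 | h2
        · exact Or.inl h2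
        · exact Or.inr h2
        · exact absurd h2 (c.symm.no_qelt_n hg)
        · exact absurd ⟨g, hg, h2⟩ hP
      exact c.symm.no_bad_of_star hstar hg' (by rw [h1, mul_comm])

theorem nilpotent [Finite G] (c : Cfg G n m p q a u) : Group.IsNilpotent G := by
  have hsq := fun (g : G) (hg : PE q g) => c.star_q hg
  have hsp := fun (g : G) (hg : PE p g) => c.symm.star_q hg
  obtain ⟨_, _, _, _, hPn⟩ := c.direct_of_star hsq
  obtain ⟨_, _, _, _, hQn⟩ := c.symm.direct_of_star hsp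
  refine ((Group.isNilpotent_of_finite_tfae (G := G)).out 0 3).mpr ?_
  intro r hr R
  by_cases hrp : r = p
  · subst hrp; exact hPn R
  by_cases hrq : r = q
  · subst hrq; exact hQn R
  have hrn : ¬ r ∣ n := by
    obtain ⟨α, hα⟩ := c.hnp
    rw [hα]
    exact fun hd => hrp ((Nat.prime_dvd_prime_iff_eq hr.out c.hp).mp (hr.out.dvd_of_dvd_pow hd))
  have hrm : ¬ r ∣ m := by
    obtain ⟨β, hβ⟩ := c.hmq
    rw [hβ]
    exact fun hd => hrq ((Nat.prime_dvd_prime_iff_eq hr.out c.hq).mp (hr.out.dvd_of_dvd_pow hd))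
  constructor
  intro w hw x
  have hwZ : w ∈ center G := by
    obtain ⟨k, hk⟩ := (IsPGroup.iff_orderOf.mp R.isPGroup') ⟨w, hw⟩
    rw [← Subgroup.orderOf_coe] at hk
    exact central_of_not_dvd c.cs hr.out hrn hrm ⟨k, hk⟩
  have e : x * w * x⁻¹ = w := by
    rw [Subgroup.mem_center_iff.mp hwZ x]; group
  rw [e]; exact hw

end Cfg

/-- the theorem in the presence of a "natural" commuting pair -/
theorem of_natural [Finite G] {n m : ℕ} (hn : 1 < n) (hm : 1 < m) (hco : n.Coprime m)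
    (h : CS G n m) {p : ℕ} (hp : p.Prime) {a b : G} (ha : PE p a) (hia : (cen a).index = n)
    (hpm : ¬ p ∣ m) (hib : (cen b).index = m) (hab : b ∈ cen a) :
    Group.IsNilpotent G ∧ IsPrimePow n ∧ IsPrimePow m := by
  obtain ⟨q, hq, hqp, ⟨β, hβ⟩, sa, u, hua, huq, hiu⟩ :=
    side_of_natural hn hm hco h hp ha hia hpm hib hab
  have hβ0 : β ≠ 0 := by
    rintro rfl
    rw [pow_zero] at hβ; omega
  have hqm : q ∣ m := hβ ▸ dvd_pow_self q hβ0
  have hqn : ¬ q ∣ n := fun hd =>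
    hq.one_lt.ne' (Nat.Coprime.eq_one_of_dvd (Nat.Coprime.coprime_dvd_left hd hco) hqm)
  have hau : a ∈ cen u := mem_cen.mpr (mem_cen.mp hua).symm
  obtain ⟨p', hp', hp'q, ⟨α, hα⟩, su, -⟩ :=
    side_of_natural hm hn hco.symm h.symm hq huq hiu hqn hia hau
  have hpp : p' = p := by
    by_contra hne
    have hle : cen u ≤ cen a :=
      su.cent a hau (ha.coprime hp hq (Ne.symm hqp)) (ha.coprime hp hp' (Ne.symm hne))
    have hd : (cen a).index ∣ (cen u).index := Subgroup.index_dvd_of_le hle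
    rw [hia, hiu] at hd
    have := Nat.Coprime.eq_one_of_dvd hco hd
    omega
  subst hpp
  have hα0 : α ≠ 0 := by
    rintro rfl
    rw [pow_zero] at hα; omega
  have c : Cfg G n m p' q a u :=
    ⟨hn, hm, hco, h, hp, hq, ⟨α, hα⟩, ⟨β, hβ⟩, ha, hia, huq, hiu, sa, su⟩
  exact ⟨c.nilpotent, (isPrimePow_nat_iff n).mpr ⟨p', α, hp, Nat.pos_of_ne_zero hα0, hα.symm⟩,
    (isPrimePow_nat_iff m).mpr ⟨q, β, hq, Nat.pos_of_ne_zero hβ0, hβ.symm⟩⟩

end Cfsg.Agent.H72.Four
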