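import Mathlib
import Cfsg.Agent.H72.Four3
import Cfsg.Agent.H69.ClassSize

set_option autoImplicit false

namespace Cfsg.Agent.H72.Four

open Subgroup Cfsg.Agent.H72 Cfsg.Agent.H72.Ito Cfsg.Agent.H72.BHM

variable {G : Type*} [Group G]

theorem mem_cen_symm {x y : G} : x ∈ cen y ↔ y ∈ cen x := by
  rw [mem_cen, mem_cen, eq_comm]

theorem not_mem_center_of_index [Finite G] {x : G} {k : ℕ} (hk : 1 < k)
    (hx : (cen x).index = k) : x ∉ center G := by
  intro hc
  rw [cen_eq_top_iff.mpr hc, Subgroup.index_top] at hx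
  omega

theorem index_eq_one_of_mem_center {x : G} (hx : x ∈ center G) : (cen x).index = 1 := by
  rw [cen_eq_top_iff.mpr hx, Subgroup.index_top]

theorem index_n_of_le [Finite G] {n m : ℕ} (hn : 1 < n) (hm : 1 < m) (hco : n.Coprime m)
    (h : CS G n m) {x w : G} (hle : cen x ≤ cen w) (hx : (cen x).index = n)
    (hw : w ∉ center G) : (cen w).index = n := by
  have hd : (cen w).index ∣ n := hx ▸ Subgroup.index_dvd_of_le hle
  rcases (four_cases hn hm hco (h w)).1 hd with h1 | h1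
  · exact absurd (cen_eq_top_iff.mp (Subgroup.index_eq_one.mp h1)) hw
  · exact h1

theorem index_m_of_le [Finite G] {n m : ℕ} (hn : 1 < n) (hm : 1 < m) (hco : n.Coprime m)
    (h : CS G n m) {x w : G} (hle : cen x ≤ cen w) (hx : (cen x).index = m)
    (hw : w ∉ center G) : (cen w).index = m :=
  index_n_of_le hm hn hco.symm h.symm hle hx hw

/-- there is a commuting pair of elements of indices `n` and `m` -/
theorem exists_comm_pair [Finite G] {n m : ℕ} (hn : 1 < n) (hm : 1 < m) (hco : n.Coprime m)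
    (h : CS G n m) (hex_n : ∃ a : G, (cen a).index = n) (hex_m : ∃ b : G, (cen b).index = m)
    (hex_nm : ∃ x : G, (cen x).index = n * m) :
    ∃ a b : G, (cen a).index = n ∧ (cen b).index = m ∧ b ∈ cen a := by
  by_contra hno
  push Not at hno
  obtain ⟨a₀, ha₀⟩ := hex_n
  obtain ⟨b₀, hb₀⟩ := hex_m
  obtain ⟨x₀, hx₀⟩ := hex_nm
  have hnm1 : 1 < n * m := by nlinarith
  have hDidx : (cen a₀ ⊓ cen b₀).index = n * m := by
    rw [index_inf_of_coprime _ _ (by rw [ha₀, hb₀]; exact hco), ha₀, hb₀]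
  have hD : ∀ d ∈ cen a₀ ⊓ cen b₀, (cen d).index = 1 ∨ (cen d).index = n * m := by
    intro d hd
    rw [mem_inf] at hd
    rcases h d with h1 | h1 | h1 | h1
    · exact Or.inl h1
    · exact absurd (mem_cen_symm.mp hd.2) (hno d b₀ h1 hb₀)
    · exact absurd hd.1 (hno a₀ d ha₀ h1)
    · exact Or.inr h1
  have hexd : ∃ d ∈ cen a₀ ⊓ cen b₀, d ∉ center G := by
    by_contra hall
    push Not at hall
    have hle : cen a₀ ⊓ cen b₀ ≤ cen x₀ := fun d hd => center_le_cen x₀ (hall d hd)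
    have heq := eq_of_le_of_index_eq' _ _ hle (hDidx.trans hx₀.symm)
    have hx₀D : x₀ ∈ cen a₀ ⊓ cen b₀ := by rw [heq]; exact self_mem_cen x₀
    exact not_mem_center_of_index hnm1 hx₀ (hall x₀ hx₀D)
  obtain ⟨d, hdD, hdZ⟩ := hexd
  obtain ⟨w, hw, r, k, hr, hwo, hwZ⟩ :=
    Cfsg.Agent.S4085.exists_ppow_not_mem (center G) (orderOf d) d le_rfl hdZ
  have hwD : w ∈ cen a₀ ⊓ cen b₀ := (Subgroup.zpowers_le.mpr hdD) hw
  have hiw : (cen w).index = n * m := by
    rcases hD w hwD with h1 | h1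
    · exact absurd (cen_eq_top_iff.mp (Subgroup.index_eq_one.mp h1)) hwZ
    · exact h1
  rw [mem_inf] at hwD
  -- the a-side
  have ha₀b₀ : a₀ ∉ cen b₀ := fun hc => hno a₀ b₀ ha₀ hb₀ (mem_cen_symm.mp hc)
  obtain ⟨w', hw', s, k', hs, hw'o, hw'b⟩ :=
    Cfsg.Agent.S4085.exists_ppow_not_mem (cen b₀) (orderOf a₀) a₀ le_rfl ha₀b₀
  have hw'Z : w' ∉ center G := fun hc => hw'b (center_le_cen b₀ hc)
  have hle' : cen a₀ ≤ cen w' := cen_le_of_mem_zpowers hw'
  have hiw' : (cen w').index = n := index_n_of_le hn hm hco h hle' ha₀ hw'Z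
  have hsr : s = r := by
    by_contra hne
    have hco' : (orderOf w).Coprime (orderOf w') := by
      rw [hwo, hw'o]
      exact Nat.Coprime.pow _ _ ((Nat.coprime_primes hr hs).mpr (Ne.symm hne))
    have h1 : w' ∈ cen w := mem_cen_symm.mp (hle' hwD.1)
    have h2 := cen_le_of_max hn hm hco h hiw h1 hco'
    exact hw'b (mem_cen_symm.mp (h2 (mem_cen_symm.mp hwD.2)))
  rw [hsr] at hw'o
  -- the b-side
  have hb₀a₀ : b₀ ∉ cen a₀ := hno a₀ b₀ ha₀ hb₀
  obtain ⟨b', hb', s', k'', hs', hb'o, hb'a⟩ :=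
    Cfsg.Agent.S4085.exists_ppow_not_mem (cen a₀) (orderOf b₀) b₀ le_rfl hb₀a₀
  have hb'Z : b' ∉ center G := fun hc => hb'a (center_le_cen a₀ hc)
  have hle'' : cen b₀ ≤ cen b' := cen_le_of_mem_zpowers hb'
  have hib' : (cen b').index = m := index_m_of_le hn hm hco h hle'' hb₀ hb'Z
  have hsr' : s' = r := by
    by_contra hne
    have hco' : (orderOf w).Coprime (orderOf b') := by
      rw [hwo, hb'o]
      exact Nat.Coprime.pow _ _ ((Nat.coprime_primes hr hs').mpr (Ne.symm hne))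
    have h1 : b' ∈ cen w := mem_cen_symm.mp (hle'' hwD.2)
    have h2 := cen_le_of_max hn hm hco h hiw h1 hco'
    exact hb'a (mem_cen_symm.mp (h2 (mem_cen_symm.mp hwD.1)))
  rw [hsr'] at hb'o
  have hfr : Fact r.Prime := ⟨hr⟩
  by_cases hrm : r ∣ m
  · have hrn : ¬ r ∣ n := fun hd =>
      hr.one_lt.ne' (Nat.Coprime.eq_one_of_dvd (Nat.Coprime.coprime_dvd_left hd hco) hrm)
    obtain ⟨c, hc⟩ := exists_conj_mem_of_not_dvd_index (cen w')
      (by rw [hiw']; exact hrn) ⟨k'', hb'o⟩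
    exact hno w' (c * b' * c⁻¹) hiw' (by rw [index_conj]; exact hib') hc
  · obtain ⟨c, hc⟩ := exists_conj_mem_of_not_dvd_index (cen b')
      (by rw [hib']; exact hrm) ⟨k', hw'o⟩
    exact hno (c * w' * c⁻¹) b' (by rw [index_conj]; exact hiw') hib' (mem_cen_symm.mp hc)

/-- there is a commuting pair of elements of prime power order of indices `n` and `m` -/
theorem exists_ppo_pair [Finite G] {n m : ℕ} (hn : 1 < n) (hm : 1 < m) (hco : n.Coprime m)
    (h : CS G n m) (hex_n : ∃ a : G, (cen a).index = n) (hex_m : ∃ b : G, (cen b).index = m)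
    (hex_nm : ∃ x : G, (cen x).index = n * m) :
    ∃ (t p : ℕ) (a b : G), t.Prime ∧ p.Prime ∧ PE t a ∧ PE p b ∧ (cen a).index = n ∧
      (cen b).index = m ∧ b ∈ cen a := by
  obtain ⟨a, b, hia, hib, hba⟩ := exists_comm_pair hn hm hco h hex_n hex_m hex_nm
  obtain ⟨a', ha', t, k, ht, ha'o, ha'Z⟩ :=
    Cfsg.Agent.S4085.exists_ppow_not_mem (center G) (orderOf a) a le_rfl
      (not_mem_center_of_index hn hia)
  obtain ⟨b', hb', p, l, hp, hb'o, hb'Z⟩ :=
    Cfsg.Agent.S4085.exists_ppow_not_mem (center G) (orderOf b) b le_rfl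
      (not_mem_center_of_index hm hib)
  have hlea : cen a ≤ cen a' := cen_le_of_mem_zpowers ha'
  have hleb : cen b ≤ cen b' := cen_le_of_mem_zpowers hb'
  refine ⟨t, p, a', b', ht, hp, ⟨k, ha'o⟩, ⟨l, hb'o⟩, index_n_of_le hn hm hco h hlea hia ha'Z,
    index_m_of_le hn hm hco h hleb hib hb'Z, ?_⟩
  exact mem_cen_symm.mp (hleb (mem_cen_symm.mp (hlea hba)))

theorem relIndex_of_coprime_order [Finite G] {n m : ℕ} (hn : 1 < n) (hm : 1 < m)
    (hco : n.Coprime m) (h : CS G n m) {a y : G} (hia : (cen a).index = n) (hy : y ∈ cen a)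
    (hco' : (orderOf a).Coprime (orderOf y)) :
    (cen (a * y) = cen a ⊓ cen y) ∧
      (((cen y).relIndex (cen a) = 1 ∧ (cen (a * y)).index = n) ∨
        ((cen y).relIndex (cen a) = m ∧ (cen (a * y)).index = n * m)) := by
  have hn0 : 0 < n := by omega
  have hay : Commute a y := (mem_cen.mp hy).symm
  have e := cen_mul_eq hay hco'
  refine ⟨e, ?_⟩
  have h1 := relIndex_mul_index_inf (cen a) (cen y)
  rw [← e, hia] at h1
  have hc := four_cases hn hm hco (h (a * y))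
  rcases hc.2.1 ⟨_, by rw [← h1, mul_comm]⟩ with h2 | h2
  · left
    refine ⟨?_, h2⟩
    rw [h2] at h1
    exact Nat.eq_of_mul_eq_mul_right hn0 (by rw [h1, one_mul])
  · right
    refine ⟨?_, h2⟩
    rw [h2] at h1
    exact Nat.eq_of_mul_eq_mul_right hn0 (by rw [h1, mul_comm])

end Cfsg.Agent.H72.Four
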