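import Mathlib
import Cfsg.Agent.H72.Four4

set_option autoImplicit false

namespace Cfsg.Agent.H72.Four

open Subgroup Cfsg.Agent.H72 Cfsg.Agent.H72.Ito Cfsg.Agent.H72.BHM

variable {G : Type*} [Group G]

/-- (K1): a `p`-element `b` of index `m` (`p ∤ m`, `n < m`) commuting with one element of
index `n` commutes with all of them -/
theorem comm_of_n [Finite G] {n m : ℕ} (hn : 1 < n) (hm : 1 < m) (hco : n.Coprime m)
    (h : CS G n m) (hlt : n < m) {p : ℕ} (hp : p.Prime) (hpm : ¬ p ∣ m) {a b : G} (hb : PE p b)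
    (hia : (cen a).index = n) (hib : (cen b).index = m) (hba : b ∈ cen a) :
    ∀ a₂ : G, (cen a₂).index = n → a₂ ∈ cen b := by
  have hP : ∀ v c : G, IsConj b v → IsConj b (c * v * c⁻¹) := fun v c hv =>
    hv.trans (isConj_iff.mpr ⟨c, rfl⟩)
  obtain ⟨K, hK⟩ : ∃ K : Subgroup G, K = stabP (fun v => IsConj b v) hP := ⟨_, rfl⟩
  have hKn : K.Normal := by rw [hK]; infer_instance
  have hKcard : Nat.card K ∣ m := by
    rw [hK, ← hib]
    exact card_stabP_dvd _ hP (IsConj.refl b)
  have hKmem : ∀ k ∈ K, IsConj b (b * k) := by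
    intro k hk
    rw [hK] at hk
    exact ((mem_stabP.mp hk) b (IsConj.refl b)).1
  -- (k1)
  have hk1 : ∀ x : G, (cen x).index = n → x ∉ cen b → ∀ c : G, (c * x * c⁻¹) * x⁻¹ ∈ K := by
    intro x hix hxb c
    have hcobx : (cen b).index.Coprime (cen x).index := by rw [hib, hix]; exact hco.symm
    have hge : m ≤ (cen (b * x)).index := by
      rw [← hib, ← card_conj b, ← card_conj (b * x)]
      refine Nat.card_le_card_of_injective
        (fun v : {v : G // IsConj b v} =>
          (⟨v.1 * x, isConj_mul hcobx v.2 (IsConj.refl x)⟩ : {u : G // IsConj (b * x) u})) ?_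
      intro v₁ v₂ hv
      have := congrArg Subtype.val hv
      exact Subtype.ext (mul_right_cancel this)
    have hne : (cen (b * x)).index ≠ n * m := by
      intro hnm
      have hle : cen b ⊓ cen x ≤ cen (b * x) := by
        intro g hg
        rw [mem_inf, mem_cen, mem_cen] at hg
        rw [mem_cen, ← mul_assoc, hg.1, mul_assoc, hg.2, mul_assoc]
      have hidx : (cen b ⊓ cen x).index = (cen (b * x)).index := by
        rw [index_inf_of_coprime _ _ hcobx, hib, hix, hnm, mul_comm]
      have heq := eq_of_le_of_index_eq' _ _ hle hidx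
      have h1 : b * x ∈ cen b ⊓ cen x := by rw [heq]; exact self_mem_cen _
      have h2 := mem_cen.mp (mem_inf.mp h1).1
      apply hxb
      rw [mem_cen]
      exact mul_left_cancel (by rw [← mul_assoc]; exact h2)
    have hbx : (cen (b * x)).index = m := by
      rcases h (b * x) with h1 | h1 | h1 | h1
      · omega
      · omega
      · exact h1
      · exact absurd h1 hne
    rw [hK]
    apply diff_mem_stabP (fun v => IsConj b v) hP x
    · intro w hw
      rw [index_of_isConj hw, hib, hix]; exact hco.symm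
    · intro w hw
      rw [index_of_isConj hw, hib, ← hbx]
      exact (index_of_isConj (isConj_mul hcobx hw (IsConj.refl x))).le
  -- (k2)
  have hk2 : ∀ y : G, ((cen y).index = 1 ∨ (cen y).index = n) → K ≤ cen y := by
    intro y hy
    have h1 : (cen y).relIndex K ∣ Nat.card K := Subgroup.relIndex_dvd_card _ _
    have h2 : (cen y).relIndex K ∣ (cen y).index := relIndex_dvd_index_of_normal_right _ _
    have h3 : (cen y).index ∣ n := by
      rcases hy with h' | h'
      · rw [h']; exact one_dvd n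
      · rw [h']
    have h4 : (cen y).relIndex K = 1 :=
      Nat.eq_one_of_dvd_coprimes hco.symm (h1.trans hKcard) (h2.trans h3)
    exact Subgroup.relIndex_eq_one.mp h4
  -- (k3)
  have hk3 : ∀ k ∈ K, k ∈ cen b → k = 1 := by
    intro k hk hkb
    obtain ⟨e, he⟩ := hb
    obtain ⟨c, hc⟩ := isConj_iff.mp (hKmem k hk)
    have hcomm : Commute b k := (mem_cen.mp hkb).symm
    have h1 : (b * k) ^ (p ^ e) = 1 := by
      rw [← hc, conj_pow, ← he, pow_orderOf_eq_one, mul_one, mul_inv_cancel]
    rw [hcomm.mul_pow, ← he, pow_orderOf_eq_one, one_mul] at h1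
    have h2 : k ^ Nat.card K = 1 := by
      have := pow_card_eq_one' (G := K) (x := ⟨k, hk⟩)
      exact congrArg Subtype.val this
    apply eq_one_of_pow_coprime k (orderOf b) (Nat.card K) h1 h2
    rw [he]
    apply Nat.Coprime.pow_left
    exact Nat.Coprime.coprime_dvd_right hKcard ((Nat.Prime.coprime_iff_not_dvd hp).mpr hpm)
  -- (k4)
  have hk4 : ∀ x y : G, ((cen x).index = 1 ∨ (cen x).index = n) →
      ((cen y).index = 1 ∨ (cen y).index = n) →
      ((cen (x * y)).index = 1 ∨ (cen (x * y)).index = n) := by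
    intro x y hx hy
    have hle : cen x ⊓ cen y ≤ cen (x * y) := by
      intro g hg
      rw [mem_inf, mem_cen, mem_cen] at hg
      rw [mem_cen, ← mul_assoc, hg.1, mul_assoc, hg.2, mul_assoc]
    have hd : (cen (x * y)).index ∣ (cen x ⊓ cen y).index := Subgroup.index_dvd_of_le hle
    have h1 := relIndex_mul_index_inf (cen x) (cen y)
    have h2 := Subgroup.index_inf_le (H := cen x) (K := cen y)
    have hxpos : 0 < (cen x).index := Nat.pos_of_ne_zero Subgroup.index_ne_zero_of_finite
    have hyn : (cen y).index ≤ n := by rcases hy with h' | h' <;> omega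
    have hxco : m.Coprime (cen x).index := by
      rcases hx with h' | h'
      · rw [h']; exact Nat.coprime_one_right m
      · rw [h']; exact hco.symm
    have hrel : (cen y).relIndex (cen x) ≤ n := by
      have : (cen y).relIndex (cen x) * (cen x).index ≤ (cen y).index * (cen x).index := by
        rw [h1, mul_comm]; exact h2
      exact (Nat.le_of_mul_le_mul_right this hxpos).trans hyn
    have hrel0 : 0 < (cen y).relIndex (cen x) := by
      rcases Nat.eq_zero_or_pos ((cen y).relIndex (cen x)) with h0 | h0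
      · rw [h0, zero_mul] at h1
        exact absurd h1.symm Subgroup.index_ne_zero_of_finite
      · exact h0
    have hnotm : ¬ m ∣ (cen (x * y)).index := by
      intro hmd
      have h3 : m ∣ (cen y).relIndex (cen x) * (cen x).index := h1 ▸ (hmd.trans hd)
      have h4 : m ∣ (cen y).relIndex (cen x) := hxco.dvd_of_dvd_mul_right h3
      have := Nat.le_of_dvd hrel0 h4
      omega
    rcases h (x * y) with h5 | h5 | h5 | h5
    · exact Or.inl h5
    · exact Or.inr h5
    · exact absurd (by rw [h5]) hnotm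
    · exact absurd (by rw [h5]; exact Dvd.intro_left n rfl) hnotm
  -- (k5)
  have hk5 : ∀ x : G, (cen x).index = n → x ∉ cen b →
      ∃ z ∈ center G, ∃ k₀ ∈ K, x = z * k₀ := by
    intro x hix hxb
    obtain ⟨s, hs, hsn⟩ := Nat.exists_prime_and_dvd (show n ≠ 1 by omega)
    have hfs : Fact s.Prime := ⟨hs⟩
    obtain ⟨S⟩ : Nonempty (Sylow s G) := inferInstance
    obtain ⟨T, hT⟩ : ∃ T : Set G, T = {v | x⁻¹ * v ∈ K} := ⟨_, rfl⟩
    have hTmem : ∀ v, v ∈ T ↔ x⁻¹ * v ∈ K := fun v => by rw [hT]; rfl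
    have hTconj : ∀ (c v : G), v ∈ T → c * v * c⁻¹ ∈ T := by
      intro c v hv
      rw [hTmem] at hv ⊢
      have h1 : x⁻¹ * (c * x * c⁻¹) ∈ K := by
        have h2 := hKn.conj_mem _ (hk1 x hix hxb c) x⁻¹
        have e : x⁻¹ * (c * x * c⁻¹ * x⁻¹) * x⁻¹⁻¹ = x⁻¹ * (c * x * c⁻¹) := by group
        rwa [e] at h2
      have h3 : c * (x⁻¹ * v) * c⁻¹ ∈ K := hKn.conj_mem _ hv c
      have e : x⁻¹ * (c * v * c⁻¹) = x⁻¹ * (c * x * c⁻¹) * (c * (x⁻¹ * v) * c⁻¹) := by group
      rw [e]
      exact K.mul_mem h1 h3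
    have hTcard : Nat.card T = Nat.card K := by
      refine Nat.card_congr
        { toFun := fun v => ⟨x⁻¹ * v.1, (hTmem _).mp v.2⟩
          invFun := fun k => ⟨x * k.1, (hTmem _).mpr (by rw [inv_mul_cancel_left]; exact k.2)⟩
          left_inv := fun v => by simp
          right_inv := fun k => by simp }
    have hmod := Cfsg.Agent.H69.card_modEq_card_conj_fixed (p := s) S.2
      (S : Subgroup G).subtype T (fun v a ha => hTconj _ a ha)
    have hsK : ¬ s ∣ Nat.card K := by
      intro hd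
      exact hs.one_lt.ne' (Nat.Coprime.eq_one_of_dvd
        (Nat.Coprime.coprime_dvd_left hsn hco) (hd.trans hKcard))
    have hne : Nat.card {a : G // a ∈ T ∧ ∀ v : (S : Subgroup G),
        (S : Subgroup G).subtype v * a * ((S : Subgroup G).subtype v)⁻¹ = a} ≠ 0 := by
      intro h0
      rw [h0, hTcard] at hmod
      exact hsK ((Nat.modEq_zero_iff_dvd).mp hmod)
    obtain ⟨⟨y, hyT, hyfix⟩⟩ := (Nat.card_ne_zero.mp hne).1
    have hSle : (S : Subgroup G) ≤ cen y := by
      intro v hv
      have h1 := hyfix ⟨v, hv⟩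
      simp only [Subgroup.coe_subtype] at h1
      rw [mem_cen]
      exact mul_inv_eq_iff_eq_mul.mp h1
    have hsy : ¬ s ∣ (cen y).index := fun hd =>
      S.not_dvd_index (hd.trans (Subgroup.index_dvd_of_le hSle))
    have hiy : (cen y).index = 1 := by
      rcases h y with h1 | h1 | h1 | h1
      · exact h1
      · exact absurd (by rw [h1]; exact hsn) hsy
      · exfalso
        have hinj : Function.Injective (fun v : {v : G // IsConj y v} => (⟨v.1, by
            obtain ⟨c, hc⟩ := isConj_iff.mp v.2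
            rw [← hc]; exact hTconj c y hyT⟩ : T)) := by
          intro v₁ v₂ hv
          have hv' : (v₁ : G) = (v₂ : G) := congrArg (fun w : T => (w : G)) hv
          exact Subtype.ext hv'
        have hle : Nat.card T ≤ Nat.card {v : G // IsConj y v} := by
          rw [card_conj, h1, hTcard]
          exact Nat.le_of_dvd (by omega) hKcard
        obtain ⟨v, hv⟩ := (hinj.bijective_of_nat_card_le hle).2
          ⟨x, (hTmem x).mpr (by rw [inv_mul_cancel]; exact K.one_mem)⟩
        have hyx : IsConj y x := by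
          have := congrArg Subtype.val hv
          simp only at this
          rw [← this]; exact v.2
        have := index_of_isConj hyx
        rw [hix, h1] at this
        omega
      · exact absurd (by rw [h1]; exact Dvd.dvd.mul_right hsn m) hsy
    have hyZ : y ∈ center G := cen_eq_top_iff.mp (Subgroup.index_eq_one.mp hiy)
    refine ⟨y, hyZ, (x⁻¹ * y)⁻¹, K.inv_mem ((hTmem y).mp hyT), ?_⟩
    group
  -- (k6)
  intro a₂ hia₂
  by_contra ha₂b
  obtain ⟨z, hz, k₀, hk₀, ha₂⟩ := hk5 a₂ hia₂ ha₂b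
  have hcen : cen a₂ = cen k₀ := by rw [ha₂]; exact cen_central_mul hz
  have hik₀ : (cen k₀).index = n := by rw [← hcen]; exact hia₂
  have hk₀b : k₀ ∉ cen b := by
    intro hc
    apply ha₂b
    rw [ha₂]
    exact (cen b).mul_mem (center_le_cen b hz) hc
  have hab : a ∈ cen b := mem_cen_symm.mp hba
  have hxb : k₀ * a ∉ cen b := by
    intro hc
    apply hk₀b
    have := (cen b).mul_mem hc ((cen b).inv_mem hab)
    rwa [mul_inv_cancel_right] at this
  have hix : (cen (k₀ * a)).index = n := by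
    rcases hk4 k₀ a (Or.inr hik₀) (Or.inr hia) with h1 | h1
    · exfalso
      exact hxb (center_le_cen b (cen_eq_top_iff.mp (Subgroup.index_eq_one.mp h1)))
    · exact h1
  obtain ⟨z', hz', k', hk', hx⟩ := hk5 (k₀ * a) hix hxb
  have ha : a = z' * (k₀⁻¹ * k') := by
    calc a = k₀⁻¹ * (k₀ * a) := by group
      _ = k₀⁻¹ * (z' * k') := by rw [hx]
      _ = (k₀⁻¹ * z') * k' := by group
      _ = z' * k₀⁻¹ * k' := by rw [Subgroup.mem_center_iff.mp hz' k₀⁻¹]
      _ = z' * (k₀⁻¹ * k') := by group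
  have hk'' : k₀⁻¹ * k' ∈ K := K.mul_mem (K.inv_mem hk₀) hk'
  have hk''b : k₀⁻¹ * k' ∈ cen b := by
    have h1 : k₀⁻¹ * k' = z'⁻¹ * a := by rw [ha]; group
    rw [h1]
    exact (cen b).mul_mem (center_le_cen b ((center G).inv_mem hz')) hab
  have h1 := hk3 _ hk'' hk''b
  rw [h1, mul_one] at ha
  rw [ha, index_eq_one_of_mem_center hz'] at hia
  omega

/-- (Lemma C) -/
theorem lemC [Finite G] {n m : ℕ} (hn : 1 < n) (hm : 1 < m) (hco : n.Coprime m)
    (h : CS G n m) {p : ℕ} (hp : p.Prime) (hpm : ¬ p ∣ m) {a b x : G}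
    (hia : (cen a).index = n) (hb : PE p b) (hba : b ∈ cen a) (hx : x ∈ cen a)
    (hix : (cen x).index = n * m) (hxo : (orderOf x).Coprime p) :
    ∃ h' ∈ cen a, cen x ≤ cen (h' * b * h'⁻¹) := by
  have hfp : Fact p.Prime := ⟨hp⟩
  have hn0 : 0 < n := by omega
  have hmax : ∀ y ∈ cen x, PE p y → cen x ≤ cen y := by
    intro y hy hyp
    apply cen_le_of_max hn hm hco h hix hy
    obtain ⟨k, hk⟩ := hyp
    rw [hk]; exact Nat.Coprime.pow_right _ hxo
  obtain ⟨T⟩ : Nonempty (Sylow p (cen x)) := inferInstance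
  have hT : (T : Subgroup (cen x)) ≤ (cen a).subgroupOf (cen x) := by
    intro y hy
    rw [Subgroup.mem_subgroupOf]
    obtain ⟨k, hk⟩ := (IsPGroup.iff_orderOf.mp T.isPGroup') ⟨y, hy⟩
    rw [← Subgroup.orderOf_coe] at hk
    have hk' : orderOf (y : G) = p ^ k := by
      rw [Subgroup.orderOf_coe]; exact hk
    have h1 := hmax (y : G) y.2 ⟨k, hk'⟩
    exact mem_cen_symm.mp (h1 (mem_cen_symm.mp hx))
  have hr1 : ¬ p ∣ (cen a).relIndex (cen x) := fun hd =>
    T.not_dvd_index (hd.trans (Subgroup.index_dvd_of_le hT))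
  have e1 := relIndex_mul_index_inf (cen x) (cen a)
  have e2 := relIndex_mul_index_inf (cen a) (cen x)
  rw [inf_comm, ← e2, hix, hia] at e1
  have e3 : (cen x).relIndex (cen a) = (cen a).relIndex (cen x) * m := by
    apply Nat.eq_of_mul_eq_mul_right hn0
    rw [← e1]; ring
  have hr2 : ¬ p ∣ (cen x).relIndex (cen a) := by
    rw [e3]
    intro hd
    rcases (Nat.Prime.dvd_mul hp).mp hd with h1 | h1
    · exact hr1 h1
    · exact hpm h1
  obtain ⟨h', hh', hc⟩ := exists_conj_mem_of_not_dvd_relIndex (cen a) (cen x) hr2 hba hb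
  exact ⟨h', hh', hmax _ hc (hb.conj h')⟩

/-- a "weird" commuting pair is impossible in the absence of natural pairs -/
theorem false_of_weird [Finite G] {n m : ℕ} (hn : 1 < n) (hm : 1 < m) (hco : n.Coprime m)
    (h : CS G n m) (hlt : n < m) {t p : ℕ} (ht : t.Prime) (hp : p.Prime) (htp : t ≠ p)
    (hpm : ¬ p ∣ m) (htn : ¬ t ∣ n) {a b : G} (ha : PE t a) (hb : PE p b)
    (hia : (cen a).index = n) (hib : (cen b).index = m) (hba : b ∈ cen a)
    (hNN : ∀ (r : ℕ) (x y : G), r.Prime → ¬ r ∣ n → PE r y → (cen y).index = m →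
      (cen x).index = n → y ∈ cen x → False) : False := by
  have hfp : Fact p.Prime := ⟨hp⟩
  have hcover : ∀ g ∈ cen a, ∃ h' ∈ cen a, g ∈ cen (h' * b * h'⁻¹) := by
    intro g hg
    have hzg : zpowers g ≤ cen a := Subgroup.zpowers_le.mpr hg
    by_cases hc1 : ∃ y ∈ zpowers g, ∃ r k : ℕ, r.Prime ∧ r ≠ p ∧ orderOf y = r ^ k ∧
        (cen y).index = n * m
    · obtain ⟨y, hy, r, k, hr, hrp, hyo, hiy⟩ := hc1
      obtain ⟨h', hh', hle⟩ := lemC hn hm hco h hp hpm hia hb hba (hzg hy) hiy
        (PE.coprime hr hp hrp ⟨k, hyo⟩)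
      exact ⟨h', hh', hle (cen_le_of_mem_zpowers hy (self_mem_cen g))⟩
    by_cases hc2 : ∃ y ∈ zpowers g, ∃ r k : ℕ, r.Prime ∧ r ≠ p ∧ r ≠ t ∧ orderOf y = r ^ k ∧
        ¬ (cen a ≤ cen y)
    · obtain ⟨y, hy, r, k, hr, hrp, hrt, hyo, hnle⟩ := hc2
      have hya : y ∈ cen a := hzg hy
      have hco' : (orderOf a).Coprime (orderOf y) := by
        obtain ⟨j, hj⟩ := ha
        rw [hj, hyo]
        exact Nat.Coprime.pow _ _ ((Nat.coprime_primes ht hr).mpr (Ne.symm hrt))
      obtain ⟨e, hcases⟩ := relIndex_of_coprime_order hn hm hco h hia hya hco'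
      have hiay : (cen (a * y)).index = n * m := by
        rcases hcases with ⟨h1, -⟩ | ⟨-, h2⟩
        · exact absurd (Subgroup.relIndex_eq_one.mp h1) hnle
        · exact h2
      have hay : Commute a y := (mem_cen.mp hya).symm
      have hoc : (orderOf (a * y)).Coprime p := by
        refine Nat.Coprime.coprime_dvd_left hay.orderOf_mul_dvd_mul_orderOf ?_
        exact Nat.Coprime.mul_left (ha.coprime ht hp htp) (PE.coprime hr hp hrp ⟨k, hyo⟩)
      obtain ⟨h', hh', hle⟩ := lemC hn hm hco h hp hpm hia hb hba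
        ((cen a).mul_mem (self_mem_cen a) hya) hiay hoc
      refine ⟨h', hh', hle ?_⟩
      rw [e, mem_inf]
      exact ⟨hg, cen_le_of_mem_zpowers hy (self_mem_cen g)⟩
    -- case 3
    push Not at hc1 hc2
    obtain ⟨i, l, hil, hgi, hgl⟩ := exists_pparts p hp g
    have hgia : g ^ i ∈ cen a := Subgroup.pow_mem _ hg i
    have hco' : (orderOf a).Coprime (orderOf (g ^ i)) := by
      obtain ⟨j, hj⟩ := ha
      obtain ⟨j', hj'⟩ := hgi
      rw [hj, hj']
      exact Nat.Coprime.pow _ _ ((Nat.coprime_primes ht hp).mpr htp)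
    obtain ⟨-, hcases⟩ := relIndex_of_coprime_order hn hm hco h hia hgia hco'
    have hrel : ¬ p ∣ (cen (g ^ i)).relIndex (cen a) := by
      rcases hcases with ⟨h1, -⟩ | ⟨h1, -⟩
      · rw [h1]; exact fun hd => hp.one_lt.ne' (Nat.dvd_one.mp hd)
      · rw [h1]; exact hpm
    obtain ⟨h', hh', hc⟩ := exists_conj_mem_of_not_dvd_relIndex (cen a) (cen (g ^ i)) hrel hba hb
    refine ⟨h', hh', ?_⟩
    have hb'a : h' * b * h'⁻¹ ∈ cen a :=
      (cen a).mul_mem ((cen a).mul_mem hh' hba) ((cen a).inv_mem hh')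
    have hib' : (cen (h' * b * h'⁻¹)).index = m := by rw [index_conj]; exact hib
    have h3a : g ^ l ∈ cen (h' * b * h'⁻¹) := by
      by_contra hnot
      obtain ⟨y, hy, r, k, hr, hyo, hyb⟩ :=
        Cfsg.Agent.S4085.exists_ppow_not_mem (cen (h' * b * h'⁻¹)) (orderOf (g ^ l)) (g ^ l)
          le_rfl hnot
      have hyg : y ∈ zpowers g := (Subgroup.zpowers_le.mpr (npow_mem_zpowers g l)) hy
      have hk0 : k ≠ 0 := by
        rintro rfl
        rw [pow_zero, orderOf_eq_one_iff] at hyo
        exact hyb (hyo ▸ Subgroup.one_mem _)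
      have hrd : r ∣ orderOf (g ^ l) := by
        have h1 : r ∣ orderOf y := hyo ▸ dvd_pow_self r hk0
        exact h1.trans (orderOf_dvd_of_mem_zpowers hy)
      have hrp : r ≠ p := by
        rintro rfl
        exact hr.one_lt.ne' (Nat.Coprime.eq_one_of_dvd hgl.symm hrd)
      by_cases hrt : r = t
      · have hyt : PE t y := ⟨k, by rw [← hrt]; exact hyo⟩
        have hya : y ∈ cen a := hzg hyg
        rcases h y with h1 | h1 | h1 | h1
        · exact hyb (center_le_cen _ (cen_eq_top_iff.mp (Subgroup.index_eq_one.mp h1)))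
        · exact hyb (comm_of_n hn hm hco h hlt hp hpm (hb.conj h') hia hib' hb'a y h1)
        · exact hNN t a y ht htn hyt h1 hia hya
        · exact hc1 y hyg r k hr hrp hyo h1
      · have hle := hc2 y hyg r k hr hrp hrt hyo
        exact hyb (mem_cen_symm.mp (hle hb'a))
    have h3b : g ^ i ∈ cen (h' * b * h'⁻¹) := mem_cen_symm.mp hc
    rw [← hil]
    exact Subgroup.mul_mem _ h3b h3a
  -- conjugates of C_H(b) cover H = C(a)
  have htop : (cen b).subgroupOf (cen a) = ⊤ := by
    apply eq_top_of_conj_cover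
    intro g
    obtain ⟨h', hh', hg⟩ := hcover g g.2
    refine ⟨⟨h', hh'⟩, ?_⟩
    rw [Subgroup.mem_subgroupOf]
    show (h' : G)⁻¹ * g * h' ∈ cen b
    rw [mem_cen] at hg ⊢
    calc h'⁻¹ * g * h' * b = h'⁻¹ * (g * (h' * b * h'⁻¹)) * h' := by group
      _ = h'⁻¹ * (h' * b * h'⁻¹ * g) * h' := by rw [hg]
      _ = b * (h'⁻¹ * g * h') := by group
  have hle : cen a ≤ cen b := Subgroup.subgroupOf_eq_top.mp htop
  have hd : (cen b).index ∣ (cen a).index := Subgroup.index_dvd_of_le hle
  rw [hia, hib] at hd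
  have := Nat.Coprime.eq_one_of_dvd hco.symm hd
  omega

end Cfsg.Agent.H72.Four
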