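import Mathlib
import Cfsg.Agent.H86.FsDefs

/-!
# S5515 (team project FS, lead helper86) piece FS-CONJ
-/

set_option autoImplicit false

universe u v

namespace Cfsg.Agent.H72.Fs

open Cfsg.Agent.H86.Fs

/-- FS-CONJ. -/
theorem conj : StConj.{u, v} := by
  intro A _ I _ S _ e hS Q₁ Q₂ h1 h2
  have hc1 : Nat.card ↥(Q₁.map e.toMonoidHom) = 6 := by
    rw [Subgroup.card_map_of_injective e.injective]; exact h1
  have hc2 : Nat.card ↥(Q₂.map e.toMonoidHom) = 6 := by
    rw [Subgroup.card_map_of_injective e.injective]; exact h2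
  obtain ⟨g, hg⟩ := hS _ _ hc1 hc2
  obtain ⟨a, ha⟩ := QuotientGroup.mk_surjective (e.symm g)
  have hea : e (QuotientGroup.mk a : A ⧸ I) = g := by rw [ha]; simp
  have hkey : ∀ q : A ⧸ I,
      q ∈ Q₂ ↔ (QuotientGroup.mk a : A ⧸ I)⁻¹ * q * QuotientGroup.mk a ∈ Q₁ := by
    intro q
    have e2 : q ∈ Q₂ ↔ e q ∈ Q₂.map e.toMonoidHom :=
      (Subgroup.mem_map_iff_mem (f := e.toMonoidHom) e.injective).symm
    have e1 : (QuotientGroup.mk a : A ⧸ I)⁻¹ * q * QuotientGroup.mk a ∈ Q₁ ↔
        e ((QuotientGroup.mk a : A ⧸ I)⁻¹ * q * QuotientGroup.mk a) ∈ Q₁.map e.toMonoidHom :=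
      (Subgroup.mem_map_iff_mem (f := e.toMonoidHom) e.injective).symm
    rw [e2, e1, hg, map_mul, map_mul, map_inv, hea]
    constructor
    · rintro ⟨k, hk, hk2⟩
      have hk3 : g * k * g⁻¹ = e q := by simpa using hk2
      rw [← hk3]
      have : g⁻¹ * (g * k * g⁻¹) * g = k := by group
      rw [this]
      exact hk
    · intro hk
      refine ⟨g⁻¹ * e q * g, hk, ?_⟩
      simp only [MulEquiv.toMonoidHom_eq_coe, MonoidHom.coe_coe, MulAut.conj_apply]
      group
  have hf : ∀ x : A, x ∈ Q₁.comap (QuotientGroup.mk' I) →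
      a * x * a⁻¹ ∈ Q₂.comap (QuotientGroup.mk' I) := by
    intro x hx
    rw [Subgroup.mem_comap] at hx ⊢
    rw [QuotientGroup.mk'_apply] at hx ⊢
    rw [hkey]
    have : (QuotientGroup.mk a : A ⧸ I)⁻¹ * (QuotientGroup.mk (a * x * a⁻¹) : A ⧸ I) *
        QuotientGroup.mk a = QuotientGroup.mk x := by
      rw [← QuotientGroup.mk_inv, ← QuotientGroup.mk_mul, ← QuotientGroup.mk_mul]
      congr 1
      group
    rw [this]
    exact hx
  have hb : ∀ y : A, y ∈ Q₂.comap (QuotientGroup.mk' I) →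
      a⁻¹ * y * a ∈ Q₁.comap (QuotientGroup.mk' I) := by
    intro y hy
    rw [Subgroup.mem_comap] at hy ⊢
    rw [QuotientGroup.mk'_apply] at hy ⊢
    have h3 := (hkey _).mp hy
    have : (QuotientGroup.mk a : A ⧸ I)⁻¹ * (QuotientGroup.mk y : A ⧸ I) *
        QuotientGroup.mk a = QuotientGroup.mk (a⁻¹ * y * a) := by
      rw [← QuotientGroup.mk_inv, ← QuotientGroup.mk_mul, ← QuotientGroup.mk_mul]
    rw [this] at h3
    exact h3
  exact ⟨{ toFun := fun x => ⟨a * x.1 * a⁻¹, hf x.1 x.2⟩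
           invFun := fun y => ⟨a⁻¹ * y.1 * a, hb y.1 y.2⟩
           left_inv := by
             intro x
             apply Subtype.ext
             show a⁻¹ * (a * x.1 * a⁻¹) * a = x.1
             group
           right_inv := by
             intro y
             apply Subtype.ext
             show a * (a⁻¹ * y.1 * a) * a⁻¹ = y.1
             group
           map_mul' := by
             intro x y
             apply Subtype.ext
             show a * (x.1 * y.1) * a⁻¹ = (a * x.1 * a⁻¹) * (a * y.1 * a⁻¹)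
             group }⟩

end Cfsg.Agent.H72.Fs

example : Cfsg.Agent.H86.Fs.StConj.{u, v} := Cfsg.Agent.H72.Fs.conj
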