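import Mathlib
import Cfsg.Agent.H86.FsDefs

/-!
# S5515 (team project FS, lead helper86) piece FS-S4: subgroups of order 6 of `S₄ × 1` are
conjugate
-/

set_option autoImplicit false

namespace Cfsg.Agent.H72.Fs

open Cfsg.Agent.H86.Fs

/-- the ambient group `S₄ × 1` -/
abbrev G4 := Equiv.Perm (Fin 4) × Multiplicative (ZMod 1)

set_option maxRecDepth 100000 in
theorem d_fix : ∀ σ : G4, σ ^ 3 = 1 → σ ≠ 1 → ∃ x : Fin 4, σ.1 x = x := by decide

set_option maxRecDepth 100000 in
theorem d_card : ∀ x : Fin 4, (Finset.univ.filter (fun g : G4 => g.1 x = x)).card = 6 := by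
  decide

set_option maxRecDepth 1000000 in
set_option synthInstance.maxSize 4096 in
set_option synthInstance.maxHeartbeats 2000000 in
theorem d_seven : ∀ (σ k : G4) (x : Fin 4), σ ^ 3 = 1 → σ ≠ 1 → σ.1 x = x → k.1 x ≠ x →
    [1, σ, σ ^ 2, k, σ * k, σ ^ 2 * k, k * σ].Nodup := by decide

set_option maxRecDepth 1000000 in
theorem d_conj : ∀ x y : Fin 4, ∃ g : G4, ∀ k : G4, (k.1 y = y ↔ (g⁻¹ * k * g).1 x = x) := by
  decide

/-- a subgroup of order 6 is a point stabiliser -/
theorem stab_of_card6 (K : Subgroup G4) (hK : Nat.card ↥K = 6) :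
    ∃ x : Fin 4, ∀ k : G4, k ∈ K ↔ k.1 x = x := by
  classical
  have : Fact (Nat.Prime 3) := ⟨by norm_num⟩
  obtain ⟨s, hs⟩ := exists_prime_orderOf_dvd_card' (G := ↥K) 3 (by rw [hK]; norm_num)
  have hs3 : (s : G4) ^ 3 = 1 := by
    have h := pow_orderOf_eq_one s
    rw [hs] at h
    exact congrArg Subtype.val h
  have hs1 : (s : G4) ≠ 1 := by
    intro h
    have h' : s = 1 := Subtype.ext h
    rw [h', orderOf_one] at hs
    omega
  obtain ⟨x, hx⟩ := d_fix s hs3 hs1
  refine ⟨x, ?_⟩
  have hcardK : (Finset.univ.filter (fun g : G4 => g ∈ K)).card = 6 := by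
    rw [← hK, Nat.card_eq_fintype_card, Fintype.card_subtype]
  have hfix : ∀ k ∈ K, k.1 x = x := by
    intro k hk
    by_contra hne
    have hnd := d_seven s k x hs3 hs1 hx hne
    have hsub : ([1, (s : G4), (s : G4) ^ 2, k, s * k, (s : G4) ^ 2 * k, k * s].toFinset) ⊆
        Finset.univ.filter (fun g : G4 => g ∈ K) := by
      intro y hy
      rw [List.mem_toFinset] at hy
      rw [Finset.mem_filter]
      refine ⟨Finset.mem_univ _, ?_⟩
      simp only [List.mem_cons, List.mem_nil_iff, or_false] at hy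
      rcases hy with rfl | rfl | rfl | rfl | rfl | rfl | rfl
      · exact one_mem _
      · exact s.2
      · exact pow_mem s.2 2
      · exact hk
      · exact mul_mem s.2 hk
      · exact mul_mem (pow_mem s.2 2) hk
      · exact mul_mem hk s.2
    have h7 := Finset.card_le_card hsub
    rw [List.toFinset_card_of_nodup hnd, hcardK] at h7
    simp at h7
  intro k
  constructor
  · exact hfix k
  · intro hk
    have hsub : Finset.univ.filter (fun g : G4 => g ∈ K) ⊆
        Finset.univ.filter (fun g : G4 => g.1 x = x) := by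
      intro g hg
      rw [Finset.mem_filter] at hg ⊢
      exact ⟨hg.1, hfix g hg.2⟩
    have heq := Finset.eq_of_subset_of_card_le hsub (by rw [hcardK, d_card x])
    have hk' : k ∈ Finset.univ.filter (fun g : G4 => g.1 x = x) := by
      rw [Finset.mem_filter]; exact ⟨Finset.mem_univ _, hk⟩
    rw [← heq, Finset.mem_filter] at hk'
    exact hk'.2

/-- FS-S4. -/
theorem s4 : StS4 := by
  intro K₁ K₂ h1 h2
  obtain ⟨x, hx⟩ := stab_of_card6 K₁ h1
  obtain ⟨y, hy⟩ := stab_of_card6 K₂ h2
  obtain ⟨g, hg⟩ := d_conj x y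
  refine ⟨g, ?_⟩
  ext k
  rw [hy, hg k]
  constructor
  · intro h
    refine ⟨g⁻¹ * k * g, (hx _).mpr h, ?_⟩
    simp only [MulEquiv.toMonoidHom_eq_coe, MonoidHom.coe_coe, MulAut.conj_apply]
    group
  · rintro ⟨k', hk', rfl⟩
    have h3 := (hx k').mp hk'
    have h4 : g⁻¹ * (MulAut.conj g).toMonoidHom k' * g = k' := by
      simp only [MulEquiv.toMonoidHom_eq_coe, MonoidHom.coe_coe, MulAut.conj_apply]
      group
    rw [h4]
    exact h3

end Cfsg.Agent.H72.Fs

example : Cfsg.Agent.H86.Fs.StS4 := Cfsg.Agent.H72.Fs.s4
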