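import Cfsg.Agent.H37.SpDefs
import Cfsg.Agent.H59.SoConj

/-!
# S2944 (team project SP, lead helper37) piece SP-OVCONJ: for `g ∈ L`, `L` lies in the family of
`T` iff it lies in the family of `T^g` (the forward direction)
-/

set_option autoImplicit false
open Cfsg

universe u

namespace Cfsg.Agent.H72.Sp

open Cfsg.Agent.H52.Sn Cfsg.Agent.H37.Sp

/-- SP-OVCONJ. -/
theorem ovconj : StOvConj.{u} := by
  intro G _ _ T L g hg hL
  obtain ⟨⟨hTL, hT2, hodd⟩, hJ, hC⟩ := hL
  have hLg : L.map (MulAut.conj g).toMonoidHom = L := Cfsg.Agent.H59.So.map_conj_self hg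
  have hinj : Function.Injective (MulAut.conj g).toMonoidHom := (MulAut.conj g).injective
  refine ⟨⟨?_, ?_, ?_⟩, ?_, hC⟩
  · have h := Subgroup.map_mono (f := (MulAut.conj g).toMonoidHom) hTL
    rwa [hLg] at h
  · exact hT2.map _
  · have h : (T.map (MulAut.conj g).toMonoidHom).relIndex
        (L.map (MulAut.conj g).toMonoidHom) = T.relIndex L :=
      Subgroup.relIndex_map_map_of_injective T L hinj
    rw [hLg] at h
    rw [h]
    exact hodd
  · intro hle
    apply hJ
    rw [← Cfsg.Agent.H14.thompsonSubgroupOf_conj 2 g T] at hle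
    have hO : (pCoreOf 2 L).map (MulAut.conj g).toMonoidHom = pCoreOf 2 L := by
      rw [← Cfsg.Agent.H51.pCoreOf_map 2 L (MulAut.conj g), hLg]
    rw [← hO] at hle
    exact (Subgroup.map_le_map_iff_of_injective hinj).mp hle

end Cfsg.Agent.H72.Sp

example : Cfsg.Agent.H37.Sp.StOvConj.{u} := Cfsg.Agent.H72.Sp.ovconj
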